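import Cfsg.Agent.Lib.BrauerP.FrobSyl
import Cfsg.Agent.Lib.Zass.PrimeDeg

/-!
# The case of `p + 1` Sylow subgroups
-/

set_option autoImplicit false
set_option linter.unusedSectionVars false
set_option linter.unusedVariables false

namespace Cfsg.Agent.Lib.BrauerP.EndOne

open MulAction Cfsg.Agent.Lib.BrauerP.Frob Cfsg.Agent.Lib.BrauerP.Data Cfsg.Agent.Lib.ExcP.Gram
open Cfsg.Agent.Lib.Zass.PrimeDeg

universe u

variable {G : Type u} [Group G] [Finite G] {p e : ℕ} [hp : Fact p.Prime] {P : Subgroup G}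

/-- The action on the Sylow subgroups is faithful. -/
theorem faithful (S : SC P p e) {Q₀ : Sylow p G} (hQ₀ : (Q₀ : Subgroup G) = P)
    (hn : 1 < Nat.card (Sylow p G)) {x : G} (hx : ∀ Q : Sylow p G, x • Q = Q) : x = 1 := by
  classical
  let _ : Fintype G := Fintype.ofFinite G
  have := Finite.one_lt_card_iff_nontrivial.mp hn
  obtain ⟨Q₁, hQ₁⟩ := exists_ne Q₀
  have htriv : ∀ y ∈ P, (∀ Q : Sylow p G, y • Q = Q) → y = 1 := by
    intro y hy h
    by_contra hy1
    exact hQ₁ (fixed_unique S.card hQ₀ hy hy1 (h Q₁))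
  obtain ⟨z, hz, hz1⟩ := S.exists_ne_one
  have hxN : x ∈ Nn P := by
    rw [← stabilizer_eq hQ₀]
    exact hx Q₀
  have hc : x * z * x⁻¹ * z⁻¹ ∈ P :=
    P.mul_mem ((Subgroup.mem_normalizer_iff.mp hxN z).mp hz) (P.inv_mem hz)
  have hc1 : x * z * x⁻¹ * z⁻¹ = 1 := by
    apply htriv _ hc
    intro Q
    have h1 : x⁻¹ • z⁻¹ • Q = z⁻¹ • Q := by
      rw [inv_smul_eq_iff, hx]
    calc (x * z * x⁻¹ * z⁻¹) • Q = x • z • x⁻¹ • z⁻¹ • Q := by simp only [mul_smul]
      _ = x • z • z⁻¹ • Q := by rw [h1]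
      _ = x • Q := by simp
      _ = Q := hx Q
  have h2 : x * z = z * x := by
    have h3 : x * z * x⁻¹ = z := mul_inv_eq_one.mp hc1
    exact mul_inv_eq_iff_eq_mul.mp h3
  exact htriv x (S.self z hz hz1 x h2) hx

/-- A regular normal subgroup is impossible. -/
theorem no_regular (hperf : commutator G = ⊤) (S : SC P p e) (he2 : 2 ≤ e) {Q₀ : Sylow p G}
    (hQ₀ : (Q₀ : Subgroup G) = P) (hcardS : Nat.card (Sylow p G) = p + 1)
    (hG : Nat.card G = (p + 1) * p * e) (N : Subgroup G) (hN : N.Normal)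
    (htr : IsPretransitive N (Sylow p G)) (hreg : ∀ x : Sylow p G, stabilizer N x = ⊥) : False := by
  classical
  let _ : Fintype G := Fintype.ofFinite G
  have hpp := hp.out.pos
  have hdec : ∀ g : G, ∃ n ∈ N, n⁻¹ * g ∈ Nn P := by
    intro g
    obtain ⟨n, hn⟩ := htr.exists_smul_eq Q₀ (g • Q₀)
    refine ⟨n, n.2, ?_⟩
    rw [← stabilizer_eq hQ₀, mem_stabilizer_iff, mul_smul, inv_smul_eq_iff]
    exact hn.symm
  have hle : (⊤ : Subgroup G) ≤ N ⊔ P := by
    rw [← hperf, commutator_def, Subgroup.commutator_le]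
    intro g _ g' _
    rw [commutatorElement_def]
    obtain ⟨n, hn, hx⟩ := hdec g
    obtain ⟨n', hn', hx'⟩ := hdec g'
    obtain ⟨x, hxdef⟩ : ∃ x, x = n⁻¹ * g := ⟨_, rfl⟩
    obtain ⟨x', hxdef'⟩ : ∃ x', x' = n'⁻¹ * g' := ⟨_, rfl⟩
    rw [← hxdef] at hx
    rw [← hxdef'] at hx'
    have hP := S.comm_mem hx hx'
    have hQ : (QuotientGroup.mk' N) (g * g' * g⁻¹ * g'⁻¹) = (QuotientGroup.mk' N) (x * x' * x⁻¹ * x'⁻¹) := by
      have h1 : (QuotientGroup.mk' N) g = (QuotientGroup.mk' N) x := by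
        simp only [QuotientGroup.mk'_apply]
        rw [QuotientGroup.eq]
        have : g⁻¹ * x = g⁻¹ * n⁻¹ * g := by rw [hxdef]; group
        rw [this]
        have h3 := hN.conj_mem n⁻¹ (N.inv_mem hn) g⁻¹
        simpa using h3
      have h2 : (QuotientGroup.mk' N) g' = (QuotientGroup.mk' N) x' := by
        simp only [QuotientGroup.mk'_apply]
        rw [QuotientGroup.eq]
        have : g'⁻¹ * x' = g'⁻¹ * n'⁻¹ * g' := by rw [hxdef']; group
        rw [this]
        have h3 := hN.conj_mem n'⁻¹ (N.inv_mem hn') g'⁻¹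
        simpa using h3
      rw [map_mul, map_mul, map_mul, map_inv, map_inv, h1, h2, map_mul, map_mul,
        map_mul, map_inv, map_inv]
    have hmem : (g * g' * g⁻¹ * g'⁻¹) * (x * x' * x⁻¹ * x'⁻¹)⁻¹ ∈ N := by
      have h3 := (QuotientGroup.eq_iff_div_mem).mp hQ
      rwa [div_eq_mul_inv] at h3
    have h4 : (g * g' * g⁻¹ * g'⁻¹) = ((g * g' * g⁻¹ * g'⁻¹) * (x * x' * x⁻¹ * x'⁻¹)⁻¹) * (x * x' * x⁻¹ * x'⁻¹) := by group
    rw [h4]
    exact (N ⊔ P).mul_mem (Subgroup.mem_sup_left hmem) (Subgroup.mem_sup_right hP)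
  -- every element is a product
  have hprod : ∀ g : G, ∃ a ∈ N, ∃ b ∈ P, g = a * b := by
    intro g
    have h1 : g ∈ N ⊔ P := hle (Subgroup.mem_top g)
    rw [← SetLike.mem_coe, Subgroup.normal_mul N P] at h1
    obtain ⟨a, ha, b, hb, rfl⟩ := Set.mem_mul.mp h1
    exact ⟨a, ha, b, hb, rfl⟩
  have hNcard : Nat.card N ≤ p + 1 := by
    rw [← hcardS]
    let f : N → Sylow p G := fun n => (n : G) • Q₀
    apply Nat.card_le_card_of_injective f
    intro a b hab
    have h1 : (b⁻¹ * a : N) ∈ stabilizer N Q₀ := by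
      rw [mem_stabilizer_iff, mul_smul, inv_smul_eq_iff]
      exact hab
    rw [hreg Q₀, Subgroup.mem_bot] at h1
    exact (inv_mul_eq_one.mp h1).symm
  have hcard : Nat.card G ≤ Nat.card N * Nat.card P := by
    rw [← Nat.card_prod]
    let f : N × P → G := fun a => a.1 * a.2
    apply Nat.card_le_card_of_surjective f
    intro g
    obtain ⟨a, ha, b, hb, rfl⟩ := hprod g
    exact ⟨(⟨a, ha⟩, ⟨b, hb⟩), rfl⟩
  rw [hG, S.card] at hcard
  have h1 : Nat.card N * p ≤ (p + 1) * p := Nat.mul_le_mul_right _ hNcard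
  have h2 : (p + 1) * p * 2 ≤ (p + 1) * p * e := Nat.mul_le_mul_left _ he2
  have h3 : 0 < (p + 1) * p := by positivity
  nlinarith

/-- The case of `p + 1` Sylow subgroups. -/
theorem psl_of_card (hperf : commutator G = ⊤) (S : SC P p e) (he2 : 2 ≤ e) (hte : 2 * e = p - 1)
    {Q₀ : Sylow p G} (hQ₀ : (Q₀ : Subgroup G) = P) (hcardS : Nat.card (Sylow p G) = p + 1)
    (hG : Nat.card G = (p + 1) * p * e) :
    Nonempty (G ≃* Matrix.ProjectiveSpecialLinearGroup (Fin 2) (ZMod p)) := by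
  classical
  let _ : Fintype (Sylow p G) := Fintype.ofFinite _
  have hpp := hp.out.two_le
  have D : PD G (Sylow p G) p e :=
    { hp := hp.out
      card := by rw [← Nat.card_eq_fintype_card, hcardS]
      trans := inferInstance
      faith := fun g g' h => by
        have h1 : g'⁻¹ * g = 1 := by
          apply faithful S hQ₀ (by omega)
          intro Q
          rw [mul_smul, inv_smul_eq_iff]
          exact h Q
        exact (inv_mul_eq_one.mp h1).symm
      order := hG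
      lt := by omega }
  have hd1 : e + 1 ≠ p := by omega
  by_cases hZ : IsZassenhausGroup G (Sylow p G)
  · rcases Nat.even_or_odd e with h | h
    · obtain ⟨-, h2⟩ := D.even_case h hd1 (fun a b hab => by
        obtain ⟨⟨s, hso, hs1, hs2⟩, -, -⟩ := Cfsg.Agent.S0740.result hZ hab
        refine ⟨s, ?_, hs1, hs2⟩
        have := pow_orderOf_eq_one s
        rwa [hso, pow_two] at this)
      exact h2
    · obtain ⟨-, h2⟩ := Cfsg.Agent.Lib.Zass.PrimeDeg.PD.odd_case p e G D hZ h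
      exact h2
  · obtain ⟨N, hN, htr, hreg⟩ := D.exists_regular hZ
    exact (no_regular hperf S he2 hQ₀ hcardS hG N hN htr hreg).elim

end Cfsg.Agent.Lib.BrauerP.EndOne
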