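import Cfsg.Agent.Lib.Zass.Classif

/-!
# A characterization of `PSL(2, 2^m)` by the centralizer of an involution

If the centralizer `H` of `τ` has order `q`, exponent two, all its non-identity elements are
conjugate to `τ`, and `|G| = (q+1) q (q-1)`, then `G` acts sharply three-transitively on its
Sylow `2`-subgroups.
-/

set_option autoImplicit false
set_option linter.unusedSectionVars false
set_option linter.unusedVariables false

namespace Cfsg.Agent.Lib.BrauerP.EndTwo

open MulAction Cfsg.Agent.Lib.Zass.Sharp3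

universe u

/-- The size of the domain of a map with fibres of constant size. -/
theorem card_of_fibers {α β : Type*} [Finite α] [Finite β] (f : α → β) (d : ℕ)
    (h : ∀ b, Nat.card {a // f a = b} = d) : Nat.card α = Nat.card β * d := by
  classical
  let _ : Fintype β := Fintype.ofFinite _
  rw [Nat.card_congr (Equiv.sigmaFiberEquiv f).symm, Nat.card_sigma]
  simp only [h]
  rw [Finset.sum_const, Finset.card_univ, smul_eq_mul, Nat.card_eq_fintype_card]

variable {G : Type u} [Group G] [Finite G] {q : ℕ} {τ : G} {H : Subgroup G}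

/-- The hypotheses. -/
structure TD (τ : G) (H : Subgroup G) (q : ℕ) : Prop where
  hτ : τ ≠ 1
  hH : ∀ x, x ∈ H ↔ x * τ = τ * x
  card : Nat.card H = q
  order : Nat.card G = (q + 1) * q * (q - 1)
  exp : ∀ h ∈ H, h * h = 1
  conj : ∀ h ∈ H, h ≠ 1 → ∃ y, h = y * τ * y⁻¹
  q4 : 4 ≤ q

namespace TD

variable (T : TD τ H q)

include T

theorem τ_mem : τ ∈ H := (T.hH τ).mpr rfl

theorem comm {a b : G} (ha : a ∈ H) (hb : b ∈ H) : a * b = b * a := by
  have h1 := T.exp _ (H.mul_mem ha hb)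
  have h2 := T.exp _ ha
  have h3 := T.exp _ hb
  have h4 : a⁻¹ = a := inv_eq_of_mul_eq_one_right h2
  have h5 : b⁻¹ = b := inv_eq_of_mul_eq_one_right h3
  have h6 : (a * b)⁻¹ = a * b := inv_eq_of_mul_eq_one_right h1
  rw [mul_inv_rev, h4, h5] at h6
  exact h6.symm

theorem isPGroup : IsPGroup 2 H := by
  intro h
  refine ⟨1, ?_⟩
  apply Subtype.ext
  simp only [pow_one, Subgroup.coe_pow, Subgroup.coe_one]
  rw [pow_two]
  exact T.exp h h.2

/-- The centralizer of any non-identity element of `H` is `H`. -/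
theorem cent {r : G} (hr : r ∈ H) (hr1 : r ≠ 1) {x : G} (hx : x * r = r * x) : x ∈ H := by
  obtain ⟨y, rfl⟩ := T.conj r hr hr1
  set K := Subgroup.centralizer ({y * τ * y⁻¹} : Set G) with hK
  have hle : H ≤ K := by
    intro a ha
    rw [hK, Subgroup.mem_centralizer_singleton_iff]
    exact T.comm ha hr
  have hcard : Nat.card K ≤ Nat.card H := by
    let f : K → H := fun c => ⟨y⁻¹ * c * y, by
      rw [T.hH]
      have h1 : (c : G) * (y * τ * y⁻¹) = (y * τ * y⁻¹) * c :=
        Subgroup.mem_centralizer_singleton_iff.mp c.2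
      calc y⁻¹ * c * y * τ = y⁻¹ * ((c : G) * (y * τ * y⁻¹)) * y := by group
        _ = y⁻¹ * ((y * τ * y⁻¹) * c) * y := by rw [h1]
        _ = τ * (y⁻¹ * c * y) := by group⟩
    apply Nat.card_le_card_of_injective f
    intro a b hab
    have h1 : y⁻¹ * (a : G) * y = y⁻¹ * b * y := congrArg Subtype.val hab
    exact Subtype.ext (mul_left_cancel (mul_right_cancel h1))
  have h3 := Subgroup.eq_of_le_of_card_ge hle hcard
  rw [h3, hK, Subgroup.mem_centralizer_singleton_iff]
  exact hx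

/-- A conjugator from `τ` into `H` normalizes `H`. -/
theorem normalizes {y : G} (hy : y * τ * y⁻¹ ∈ H) : ∀ a, a ∈ H ↔ y * a * y⁻¹ ∈ H := by
  have hy1 : y * τ * y⁻¹ ≠ 1 := by
    intro h
    apply T.hτ
    calc τ = y⁻¹ * (y * τ * y⁻¹) * y := by group
      _ = 1 := by rw [h]; group
  intro a
  constructor
  · intro ha
    apply T.cent hy hy1
    have h1 : a * τ = τ * a := (T.hH a).mp ha
    calc y * a * y⁻¹ * (y * τ * y⁻¹) = y * (a * τ) * y⁻¹ := by group
      _ = y * (τ * a) * y⁻¹ := by rw [h1]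
      _ = _ := by group
  · intro ha
    rw [T.hH]
    have h1 := T.comm ha hy
    calc a * τ = y⁻¹ * ((y * a * y⁻¹) * (y * τ * y⁻¹)) * y := by group
      _ = y⁻¹ * ((y * τ * y⁻¹) * (y * a * y⁻¹)) * y := by rw [h1]
      _ = _ := by group

/-- `q` is a power of two. -/
theorem exists_pow : ∃ m : ℕ, q = 2 ^ m := by
  obtain ⟨m, hm⟩ := IsPGroup.iff_card.mp T.isPGroup
  exact ⟨m, by rw [← T.card, hm]⟩

/-- `H` is a Sylow subgroup. -/
theorem exists_sylow : ∃ R₀ : Sylow 2 G, (R₀ : Subgroup G) = H := by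
  obtain ⟨m, hm⟩ := T.exists_pow
  have hq4 := T.q4
  have heven : 2 ∣ q := by
    rw [hm]
    apply dvd_pow_self
    rintro rfl
    rw [pow_zero] at hm
    omega
  obtain ⟨r, hr⟩ := heven
  obtain ⟨S₀, hS⟩ := T.isPGroup.exists_le_sylow
  refine ⟨S₀, ?_⟩
  symm
  apply Subgroup.eq_of_le_of_card_ge hS
  obtain ⟨a, ha⟩ := IsPGroup.iff_card.mp S₀.isPGroup'
  rw [ha, T.card]
  apply Nat.le_of_dvd (by omega)
  have h1 : Nat.card S₀ ∣ Nat.card G := Subgroup.card_subgroup_dvd_card _
  rw [ha, T.order] at h1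
  have h2 : (q + 1) * q * (q - 1) = q * ((q + 1) * (q - 1)) := by ring
  rw [h2] at h1
  have hodd : Nat.Coprime 2 ((q + 1) * (q - 1)) := by
    rw [Nat.coprime_two_left]
    apply Odd.mul
    · exact ⟨r, by omega⟩
    · exact ⟨r - 1, by omega⟩
  exact (Nat.Coprime.pow_left a hodd).dvd_of_dvd_mul_right h1

omit T in
theorem mem_smul {g x : G} {R : Sylow 2 G} :
    x ∈ ((g • R : Sylow 2 G) : Subgroup G) ↔ g⁻¹ * x * g ∈ (R : Subgroup G) := by
  rw [Sylow.coe_subgroup_smul, Subgroup.mem_pointwise_smul_iff_inv_smul_mem]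
  simp [MulAut.smul_def]

/-- Exponent two for every Sylow subgroup. -/
theorem sq (R : Sylow 2 G) {r : G} (hr : r ∈ (R : Subgroup G)) : r * r = 1 := by
  obtain ⟨R₀, hR₀⟩ := T.exists_sylow
  obtain ⟨g, rfl⟩ := MulAction.exists_smul_eq G R₀ R
  have h1 := mem_smul.mp hr
  rw [hR₀] at h1
  have h2 := T.exp _ h1
  calc r * r = g * ((g⁻¹ * r * g) * (g⁻¹ * r * g)) * g⁻¹ := by group
    _ = 1 := by rw [h2]; group

/-- The centralizer of a non-identity element of any Sylow subgroup. -/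
theorem cent' (R : Sylow 2 G) {r : G} (hr : r ∈ (R : Subgroup G)) (hr1 : r ≠ 1) {x : G}
    (hx : x * r = r * x) : x ∈ (R : Subgroup G) := by
  obtain ⟨R₀, hR₀⟩ := T.exists_sylow
  obtain ⟨g, rfl⟩ := MulAction.exists_smul_eq G R₀ R
  have h1 := mem_smul.mp hr
  rw [hR₀] at h1
  rw [mem_smul, hR₀]
  refine T.cent h1 ?_ ?_
  · intro h
    apply hr1
    calc r = g * (g⁻¹ * r * g) * g⁻¹ := by group
      _ = 1 := by rw [h]; group
  · calc g⁻¹ * x * g * (g⁻¹ * r * g) = g⁻¹ * (x * r) * g := by group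
      _ = g⁻¹ * (r * x) * g := by rw [hx]
      _ = _ := by group

/-- The trivial intersection property. -/
theorem ti {R R' : Sylow 2 G} {r : G} (hr : r ∈ (R : Subgroup G)) (hr' : r ∈ (R' : Subgroup G))
    (hr1 : r ≠ 1) : R = R' := by
  have hle : (R : Subgroup G) ≤ R' := by
    intro x hx
    apply T.cent' R' hr' hr1
    -- `R` is abelian
    have h1 := T.sq R (R.mul_mem hx hr)
    have h2 := T.sq R hx
    have h3 := T.sq R hr
    have h4 : x⁻¹ = x := inv_eq_of_mul_eq_one_right h2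
    have h5 : r⁻¹ = r := inv_eq_of_mul_eq_one_right h3
    have h6 : (x * r)⁻¹ = x * r := inv_eq_of_mul_eq_one_right h1
    rw [mul_inv_rev, h4, h5] at h6
    exact h6.symm
  exact Sylow.ext (R.is_maximal' R'.isPGroup' hle).symm

/-- A non-identity element of `R` fixes only `R`. -/
theorem fixed {R R' : Sylow 2 G} {r : G} (hr : r ∈ (R : Subgroup G)) (hr1 : r ≠ 1)
    (h : r • R' = R') : R' = R := by
  have hz : IsPGroup 2 (Subgroup.zpowers r) :=
    R.isPGroup'.to_le ((Subgroup.zpowers_le).mpr hr)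
  have hfix : R' ∈ fixedPoints (Subgroup.zpowers r) (Sylow 2 G) := by
    rintro ⟨x, hx⟩
    obtain ⟨n, rfl⟩ := Subgroup.mem_zpowers_iff.mp hx
    change (r ^ n) • R' = R'
    exact mem_stabilizer_iff.mp (Subgroup.zpow_mem _ (mem_stabilizer_iff.mpr h) n)
  have hle := hz.sylow_mem_fixedPoints_iff.mp hfix
  have hmem : r ∈ (R' : Subgroup G) := (Subgroup.zpowers_le).mp hle
  exact T.ti hmem hr hr1

/-- The order of the normalizer of `H`. -/
theorem card_stabilizer {R₀ : Sylow 2 G} (hR₀ : (R₀ : Subgroup G) = H) :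
    Nat.card (stabilizer G R₀) = (q - 1) * q := by
  classical
  let _ : Fintype H := Fintype.ofFinite _
  have hstab : ∀ x : G, x ∈ stabilizer G R₀ ↔ ∀ a, a ∈ H ↔ x * a * x⁻¹ ∈ H := by
    intro x
    rw [Sylow.stabilizer_eq_normalizer]
    subst hR₀
    exact Subgroup.mem_normalizer_iff
  let f : stabilizer G R₀ → {h : H // h ≠ 1} := fun x =>
    ⟨⟨x * τ * (x : G)⁻¹, ((hstab x).mp x.2 τ).mp T.τ_mem⟩, by
      intro h
      have h1 : (x : G) * τ * (x : G)⁻¹ = 1 := congrArg Subtype.val h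
      apply T.hτ
      calc τ = (x : G)⁻¹ * ((x : G) * τ * (x : G)⁻¹) * x := by group
        _ = 1 := by rw [h1]; group⟩
  have hfib : ∀ b, Nat.card {a // f a = b} = q := by
    rintro ⟨⟨h, hh⟩, hb⟩
    have hh1 : h ≠ 1 := fun h' => hb (Subtype.ext h')
    obtain ⟨y, rfl⟩ := T.conj h hh hh1
    have hy : y ∈ stabilizer G R₀ := (hstab y).mpr (T.normalizes hh)
    rw [← T.card]
    symm
    apply Nat.card_congr
    refine ⟨fun a => ⟨⟨y * a, (stabilizer G R₀).mul_mem hy ((hstab a).mpr ?_)⟩, ?_⟩,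
      fun b => ⟨y⁻¹ * b.1, ?_⟩, ?_, ?_⟩
    · intro c
      constructor
      · exact fun hc => H.mul_mem (H.mul_mem a.2 hc) (H.inv_mem a.2)
      · intro hc
        have := H.mul_mem (H.mul_mem (H.inv_mem a.2) hc) a.2
        convert this using 1
        group
    · apply Subtype.ext
      apply Subtype.ext
      show y * a * τ * (y * a)⁻¹ = y * τ * y⁻¹
      have h1 : (a : G) * τ = τ * a := (T.hH a).mp a.2
      calc y * a * τ * (y * a)⁻¹ = y * ((a : G) * τ) * (a : G)⁻¹ * y⁻¹ := by group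
        _ = y * (τ * a) * (a : G)⁻¹ * y⁻¹ := by rw [h1]
        _ = _ := by group
    · rw [T.hH]
      have h1 : (b.1 : G) * τ * (b.1 : G)⁻¹ = y * τ * y⁻¹ :=
        congrArg (fun w : {h : H // h ≠ 1} => ((w : H) : G)) b.2
      have h2 : (b.1 : G) * τ = y * τ * y⁻¹ * b.1 := mul_inv_eq_iff_eq_mul.mp h1
      calc y⁻¹ * b.1 * τ = y⁻¹ * ((b.1 : G) * τ) := by group
        _ = y⁻¹ * (y * τ * y⁻¹ * b.1) := by rw [h2]
        _ = _ := by group
    · intro a
      apply Subtype.ext
      simp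
    · intro b
      apply Subtype.ext
      apply Subtype.ext
      simp
  have h1 := card_of_fibers f q hfib
  rw [h1]
  congr 1
  rw [Nat.card_eq_fintype_card (α := {x : H // x ≠ 1}), Fintype.card_subtype_compl,
    Fintype.card_subtype_eq, ← Nat.card_eq_fintype_card, T.card]

/-- The number of Sylow subgroups. -/
theorem card_sylow : Nat.card (Sylow 2 G) = q + 1 := by
  have hq4 := T.q4
  obtain ⟨R₀, hR₀⟩ := T.exists_sylow
  have h1 := Subgroup.card_mul_index (stabilizer G R₀)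
  rw [T.card_stabilizer hR₀, index_stabilizer_of_transitive, T.order] at h1
  have h2 : (q - 1) * q * Nat.card (Sylow 2 G) = (q - 1) * q * (q + 1) := by
    rw [h1]
    ring
  have h3 : 0 < (q - 1) * q := Nat.mul_pos (by omega) (by omega)
  exact Nat.eq_of_mul_eq_mul_left h3 h2

/-- All Sylow subgroups have order `q`. -/
theorem card_R (R : Sylow 2 G) : Nat.card R = q := by
  obtain ⟨R₀, hR₀⟩ := T.exists_sylow
  rw [← T.card, ← hR₀]
  exact Nat.card_congr (Sylow.equiv R R₀).toEquiv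

/-- The action of `R` on the other points is regular. -/
theorem regular (a : Sylow 2 G) {b c : Sylow 2 G} (hb : b ≠ a) (hc : c ≠ a) :
    ∃! h : ↥(a : Subgroup G), (h : G) • b = c := by
  classical
  let f : ↥(a : Subgroup G) → {Q : Sylow 2 G // Q ≠ a} := fun h => ⟨(h : G) • b, by
    intro h1
    apply hb
    have h2 : (h : G) • a = a := by
      rw [Sylow.smul_eq_iff_mem_normalizer]
      exact Subgroup.le_normalizer h.2
    calc b = (h : G)⁻¹ • ((h : G) • b) := by simp
      _ = (h : G)⁻¹ • a := by rw [h1]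
      _ = (h : G)⁻¹ • ((h : G) • a) := by rw [h2]
      _ = a := by simp⟩
  have hf : Function.Bijective f := by
    refine (Nat.bijective_iff_injective_and_card f).mpr ⟨?_, ?_⟩
    · intro x y hxy
      have h1 : (x : G) • b = (y : G) • b := congrArg Subtype.val hxy
      by_contra hne
      have h2 : (y : G)⁻¹ * x ≠ 1 := by
        intro h3
        apply hne
        exact Subtype.ext (inv_mul_eq_one.mp h3).symm
      have h3 : ((y : G)⁻¹ * x) • b = b := by
        rw [mul_smul, h1, inv_smul_smul]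
      exact hb (T.fixed (a.mul_mem (a.inv_mem y.2) x.2) h2 h3)
    · let _ : Fintype (Sylow 2 G) := Fintype.ofFinite _
      rw [T.card_R a, Nat.card_eq_fintype_card (α := {Q : Sylow 2 G // Q ≠ a}),
        Fintype.card_subtype_compl, Fintype.card_subtype_eq, ← Nat.card_eq_fintype_card, T.card_sylow]
      omega
  obtain ⟨h, hh⟩ := hf.2 ⟨c, hc⟩
  refine ⟨h, congrArg Subtype.val hh, fun y hy => hf.1 ?_⟩
  rw [hh]
  exact Subtype.ext hy

/-- Three fixed points force the identity. -/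
theorem sharp (g : G) (a b c : Sylow 2 G) (hab : a ≠ b) (hbc : b ≠ c) (hac : a ≠ c)
    (h1 : g • a = a) (h2 : g • b = b) (h3 : g • c = c) : g = 1 := by
  obtain ⟨h, hh, huniq⟩ := T.regular a (Ne.symm hab) (Ne.symm hac)
  have hh1 : (h : G) ≠ 1 := by
    intro h4
    apply hbc
    rw [← hh, h4, one_smul]
  have hgn : g ∈ Subgroup.normalizer ((a : Subgroup G) : Set G) := Sylow.smul_eq_iff_mem_normalizer.mp h1
  have h4 : g * h * g⁻¹ ∈ (a : Subgroup G) := (Subgroup.mem_normalizer_iff.mp hgn h).mp h.2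
  have h5 : (g * h * g⁻¹) • b = c := by
    have h6 : g⁻¹ • b = b := by
      calc g⁻¹ • b = g⁻¹ • (g • b) := by rw [h2]
        _ = b := by simp
    rw [mul_smul, mul_smul, h6, hh, h3]
  have h6 := huniq ⟨_, h4⟩ h5
  have h7 : g * h * g⁻¹ = h := congrArg Subtype.val h6
  have h8 : g * h = h * g := mul_inv_eq_iff_eq_mul.mp h7
  have h9 : g ∈ (a : Subgroup G) := T.cent' a h.2 hh1 h8
  by_contra hg
  exact hab (T.fixed h9 hg h2).symm

/-- Sharp three-transitivity. -/
theorem sharp3 : Sharp3 G (Sylow 2 G) := by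
  classical
  refine ⟨?_, T.sharp⟩
  intro a b c a' b' c' hab hbc hac hab' hbc' hac'
  let _ : Fintype (Sylow 2 G) := Fintype.ofFinite _
  have hq4 := T.q4
  let t : Fin 3 ↪ Sylow 2 G := ⟨![a, b, c], by
    intro i j hij
    fin_cases i <;> fin_cases j <;> simp_all⟩
  let t' : Fin 3 ↪ Sylow 2 G := ⟨![a', b', c'], by
    intro i j hij
    fin_cases i <;> fin_cases j <;> simp_all⟩
  let f : G → (Fin 3 ↪ Sylow 2 G) := fun g => g • t
  have hf : Function.Bijective f := by
    refine (Nat.bijective_iff_injective_and_card f).mpr ⟨?_, ?_⟩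
    · intro x y hxy
      have h1 : ∀ i, x • t i = y • t i := fun i => DFunLike.congr_fun hxy i
      have h2 := T.sharp (y⁻¹ * x) a b c hab hbc hac
        (by rw [mul_smul, inv_smul_eq_iff]; exact h1 0)
        (by rw [mul_smul, inv_smul_eq_iff]; exact h1 1)
        (by rw [mul_smul, inv_smul_eq_iff]; exact h1 2)
      exact (inv_mul_eq_one.mp h2).symm
    · rw [T.order, Nat.card_eq_fintype_card (α := Fin 3 ↪ Sylow 2 G), Fintype.card_embedding_eq,
        Fintype.card_fin, ← Nat.card_eq_fintype_card, T.card_sylow]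
      obtain ⟨r, rfl⟩ : ∃ r, q = r + 1 := ⟨q - 1, by omega⟩
      simp [Nat.descFactorial_succ]
      ring
  obtain ⟨g, hg⟩ := hf.2 t'
  exact ⟨g, DFunLike.congr_fun hg (0 : Fin 3), DFunLike.congr_fun hg (1 : Fin 3),
    DFunLike.congr_fun hg (2 : Fin 3)⟩

/-- The conclusion. -/
theorem psl : ∃ (m : ℕ) (F : Type) (_ : Field F) (_ : Fintype F), Fintype.card F = 2 ^ m ∧ q = 2 ^ m ∧
    Nonempty (G ≃* Matrix.ProjectiveSpecialLinearGroup (Fin 2) F) := by
  classical
  have S := T.sharp3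
  have hq4 := T.q4
  let _ : Fintype (Sylow 2 G) := Fintype.ofFinite _
  obtain ⟨m, hm⟩ := T.exists_pow
  have hcS : Fintype.card (Sylow 2 G) = q + 1 := by
    rw [← Nat.card_eq_fintype_card, T.card_sylow]
  obtain ⟨a, b, c, hab, hac, hbc⟩ : ∃ a b c : Sylow 2 G, a ≠ b ∧ a ≠ c ∧ b ≠ c :=
    Fintype.two_lt_card_iff.mp (by omega)
  have faith : ∀ g g' : G, (∀ y : Sylow 2 G, g • y = g' • y) → g = g' := by
    intro g g' h
    have h1 : g'⁻¹ * g = 1 := T.sharp _ a b c hab hbc hac
      (by rw [mul_smul, inv_smul_eq_iff]; exact h a)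
      (by rw [mul_smul, inv_smul_eq_iff]; exact h b)
      (by rw [mul_smul, inv_smul_eq_iff]; exact h c)
    exact (inv_mul_eq_one.mp h1).symm
  obtain ⟨A, iA, iF, R, p, j, hR1, hR2, hp, hj, hcard, hcA, hexp⟩ :=
    S.exists_rootData faith (inf := a) (o := b) (c := c) (Ne.symm hab) (Ne.symm hac) hbc
  have hpow : p ^ j = 2 ^ m := by omega
  have hj0 : j ≠ 0 := by omega
  have hp2 : p = 2 := by
    have h1 : p ∣ 2 ^ m := by rw [← hpow]; exact dvd_pow_self p hj0
    exact (Nat.prime_dvd_prime_iff_eq hp Nat.prime_two).mp (hp.dvd_of_dvd_pow h1)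
  subst hp2
  have hneg : ∀ x : A, -x = x := by
    intro x
    have := hexp x
    rw [two_nsmul] at this
    exact neg_eq_of_add_eq_zero_left this
  have hnt : Nontrivial A := by
    apply Finite.one_lt_card_iff_nontrivial.mp
    rw [hcA]
    exact Nat.one_lt_pow hj0 (by norm_num)
  obtain ⟨x, hx⟩ := exists_ne (0 : A)
  obtain ⟨K, i1, i2, hK, ⟨φ⟩⟩ := Cfsg.Agent.Lib.Zass.PrimeDeg.main_two S R hneg hx
  have hchar : ringChar K = 2 := by
    apply FiniteField.even_card_iff_char_two.mpr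
    rw [hK, hcA]
    exact Nat.even_iff.mp (Nat.even_pow.mpr ⟨even_two, hj0⟩)
  obtain ⟨ψ⟩ := Cfsg.Agent.Lib.Zass.Classif.pgl_equiv_psl hchar
  exact ⟨m, K, i1, i2, by rw [hK, hcA, hpow], hm, ⟨φ.trans ψ⟩⟩

end TD

end Cfsg.Agent.Lib.BrauerP.EndTwo
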