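import Cfsg.Agent.Lib.BrauerP.StepC2
import Cfsg.Agent.Lib.BrauerP.EndOne
import Cfsg.Agent.Lib.BrauerP.EndTwo
import Cfsg.Agent.S0960
import Cfsg.Agent.Lib.Char.Linear

/-!
# Brauer's theorem on self-centralizing elements of prime order with few Sylow subgroups
-/

set_option autoImplicit false
set_option linter.unusedSectionVars false
set_option linter.unusedVariables false

namespace Cfsg.Agent.Lib.BrauerP.Main

open Cfsg Module MulAction
open Cfsg.Agent.Lib.Char.Basic Cfsg.Agent.Lib.Char.Ortho Cfsg.Agent.Lib.Char.Complete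
open Cfsg.Agent.Lib.Char.Degree Cfsg.Agent.Lib.Char.Induced
open Cfsg.Agent.Lib.ExcP.Gram Cfsg.Agent.Lib.ExcP.Dual Cfsg.Agent.Lib.ExcP.Core
open Cfsg.Agent.Lib.ExcP.Inst Cfsg.Agent.Lib.ExcP.BlockHA
open Cfsg.Agent.Lib.BrauerP.Data Cfsg.Agent.Lib.BrauerP.Frob

universe u

variable {G : Type u} [Group G] [Finite G]

/-- Linear characters of a perfect group are trivial. -/
theorem hlin_of_perfect [Fintype G] (hperf : commutator G = ⊤) (j : IrrCharacter G)
    (h : charDegree (j : G → ℂ) = 1) : j = oneIrr G := by
  have hj := isCharacter_of_isIrrCharacter j.2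
  have h1 : (j : G → ℂ) 1 = 1 := by
    rw [← charDegree_natCast hj, h]
    simp
  obtain ⟨lam, hlam⟩ := Cfsg.Agent.Lib.Char.Linear.exists_hom_of_deg_one hj h1
  have hker : commutator G ≤ lam.ker := by
    rw [commutator_def, Subgroup.commutator_le]
    intro a _ b _
    rw [MonoidHom.mem_ker, commutatorElement_def]
    simp only [map_mul, map_inv]
    rw [mul_comm (lam a) (lam b)]
    simp
  rw [hperf] at hker
  apply Subtype.ext
  funext g
  have h2 : lam g = 1 := hker (Subgroup.mem_top g)
  rw [hlam]
  show ((lam g : ℂˣ) : ℂ) = _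
  rw [h2]
  rfl

variable {p : ℕ} [hp : Fact p.Prime]

/-- The Burnside transfer argument. -/
theorem not_normalizer_le (hperf : commutator G = ⊤) (Q : Sylow p G) (hQ : Nat.card Q = p) :
    ¬ Subgroup.normalizer ((Q : Subgroup G) : Set G) ≤ Subgroup.centralizer ((Q : Subgroup G) : Set G) := by
  intro hle
  have hc := MonoidHom.ker_transferSylow_isComplement' Q hle
  have hk : (MonoidHom.transferSylow Q hle).ker = ⊤ := by
    rw [eq_top_iff, ← hperf, commutator_def, Subgroup.commutator_le]
    intro a _ b _
    rw [MonoidHom.mem_ker, commutatorElement_def]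
    simp only [map_mul, map_inv]
    have hcomm : ∀ x y : Q, x * y = y * x := fun x y =>
      Subtype.ext (hle (Subgroup.le_normalizer y.2) x x.2)
    rw [hcomm (MonoidHom.transferSylow Q hle a) (MonoidHom.transferSylow Q hle b)]
    simp
  rw [hk] at hc
  have h1 := hc.card_mul_card
  rw [Subgroup.card_top, hQ] at h1
  have h2 : 0 < Nat.card G := Nat.card_pos
  have h3 := hp.out.one_lt
  nlinarith

/-- The main theorem, with `5 < p` in the second alternative. -/
theorem main' (hperf : commutator G = ⊤) (z : G) (hz : orderOf z = p)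
    (hC : Subgroup.centralizer ({z} : Set G) = Subgroup.zpowers z)
    (hn : 2 * Nat.card (Sylow p G) < (p + 1) * (p + 2)) :
    (∃ (F : Type) (_ : Field F) (_ : Fintype F), Fintype.card F = p ∧ 3 < p ∧
      Nonempty (G ≃* Matrix.ProjectiveSpecialLinearGroup (Fin 2) F)) ∨
    (∃ (m : ℕ) (F : Type) (_ : Field F) (_ : Fintype F), Fintype.card F = 2 ^ m ∧ p = 2 ^ m + 1 ∧
      5 < p ∧ Nonempty (G ≃* Matrix.ProjectiveSpecialLinearGroup (Fin 2) F)) := by
  classical
  let _ : Fintype G := Fintype.ofFinite G
  have := Cfsg.Agent.Lib.Char.Ortho.finite_irrCharacter (G := G)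
  let _ := Fintype.ofFinite (IrrCharacter G)
  have hp1 := hp.out.one_lt
  -- the Sylow subgroup
  have hzP : Nat.card (Subgroup.zpowers z) = p := by rw [Nat.card_zpowers, hz]
  have hzcomm : ∀ x : G, x * z = z * x → x ∈ Subgroup.zpowers z := by
    intro x hx
    rw [← hC, Subgroup.mem_centralizer_singleton_iff]
    exact hx
  have hzp : IsPGroup p (Subgroup.zpowers z) := IsPGroup.of_card (n := 1) (by rw [hzP, pow_one])
  obtain ⟨Q₀, hQle⟩ := hzp.exists_le_sylow
  have hzQ : z ∈ (Q₀ : Subgroup G) := hQle (Subgroup.mem_zpowers z)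
  have hQeq : (Q₀ : Subgroup G) = Subgroup.zpowers z := by
    symm
    apply le_antisymm hQle
    have : Nontrivial Q₀ := by
      refine ⟨⟨⟨z, hzQ⟩, 1, ?_⟩⟩
      intro h
      have h1 : z = 1 := congrArg Subtype.val h
      rw [h1, orderOf_one] at hz
      omega
    have := IsPGroup.center_nontrivial Q₀.isPGroup'
    obtain ⟨⟨c, hc⟩, hc1⟩ := exists_ne (1 : Subgroup.center Q₀)
    have hc1' : ((c : Q₀) : G) ≠ 1 := fun h => hc1 (Subtype.ext (Subtype.ext h))
    have hcz : ((c : Q₀) : G) ∈ Subgroup.zpowers z := by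
      apply hzcomm
      have := (Subgroup.mem_center_iff.mp hc) ⟨z, hzQ⟩
      exact (congrArg Subtype.val this).symm
    have hzc := eq_zpowers_of_mem hzP hcz hc1'
    intro x hx
    apply hzcomm
    have hcx : x * ((c : Q₀) : G) = ((c : Q₀) : G) * x :=
      congrArg Subtype.val ((Subgroup.mem_center_iff.mp hc) ⟨x, hx⟩)
    have hzmem : z ∈ Subgroup.zpowers ((c : Q₀) : G) := by
      rw [← hzc]
      exact Subgroup.mem_zpowers z
    obtain ⟨i, hi⟩ := Subgroup.mem_zpowers_iff.mp hzmem
    rw [← hi]
    exact ((Commute.zpow_right hcx i) : Commute x (((c : Q₀) : G) ^ i))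
  obtain ⟨P, hQ₀⟩ : ∃ P : Subgroup G, (Q₀ : Subgroup G) = P := ⟨_, rfl⟩
  let _ : Fintype P := Fintype.ofFinite _
  have hP : Nat.card P = p := by rw [← hQ₀, hQeq, hzP]
  have hzmemP : z ∈ P := by rw [← hQ₀]; exact hzQ
  have hself : ∀ x ∈ P, x ≠ 1 → ∀ y : G, y * x = x * y → y ∈ P := by
    intro x hx hx1 y hy
    rw [← hQ₀, hQeq]
    apply hzcomm
    have h1 : z ∈ Subgroup.zpowers x := by
      rw [← eq_zpowers_of_mem hP hx hx1]
      exact hzmemP
    obtain ⟨i, hi⟩ := Subgroup.mem_zpowers_iff.mp h1
    rw [← hi]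
    exact ((Commute.zpow_right hy i) : Commute y (x ^ i))
  have hCP : Cn P = P := by
    apply le_antisymm
    · intro y hy
      obtain ⟨hzz⟩ : Nonempty (z ≠ 1) := ⟨by
        rintro rfl
        rw [orderOf_one] at hz
        omega⟩
      exact hself z hzmemP hzz y (Subgroup.mem_centralizer_iff.mp hy z hzmemP).symm
    · intro y hy
      rw [Subgroup.mem_centralizer_iff]
      intro x hx
      rw [← hQ₀, hQeq] at hx hy
      obtain ⟨i, rfl⟩ := Subgroup.mem_zpowers_iff.mp hx
      obtain ⟨j, rfl⟩ := Subgroup.mem_zpowers_iff.mp hy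
      exact zpow_mul_comm z i j
  set e := (Cn P).relIndex (Nn P) with he
  have hN : Nat.card (Nn P) = e * Nat.card (Cn P) := by
    have hle : Cn P ≤ Nn P := Subgroup.centralizer_le_normalizer _
    have h1 := Subgroup.card_mul_index ((Cn P).subgroupOf (Nn P))
    have h2 : Nat.card ((Cn P).subgroupOf (Nn P)) = Nat.card (Cn P) :=
      Nat.card_congr (Subgroup.subgroupOfEquivOfLe hle).toEquiv
    rw [h2] at h1
    rw [← h1, he, mul_comm]
    rfl
  have hNp : Nat.card (Nn P) = p * e := by
    rw [hN, hCP, hP, mul_comm]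
  have S : SC P p e := ⟨hP, hself, hNp⟩
  have hp2 : ¬ p ^ 2 ∣ Nat.card G := by
    intro h
    have hQc : Nat.card Q₀ = p := by
      show Nat.card (Q₀ : Subgroup G) = p
      rw [hQ₀, hP]
    have h1 : Nat.card Q₀ = p ^ (Nat.card G).factorization p := Q₀.card_eq_multiplicity
    have h2 : 2 ≤ (Nat.card G).factorization p :=
      (hp.out.pow_dvd_iff_le_factorization Nat.card_pos.ne').mp h
    rw [hQc] at h1
    have h3 : p ^ 1 = p ^ (Nat.card G).factorization p := by rw [pow_one]; exact h1
    have h4 := Nat.pow_right_injective hp.out.two_le h3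
    omega
  have hpe : ¬ p ∣ e := by
    intro h
    apply hp2
    have h1 : Nat.card (Nn P) ∣ Nat.card G := Subgroup.card_subgroup_dvd_card _
    rw [hNp] at h1
    rw [pow_two]
    exact (mul_dvd_mul_left p h).trans h1
  have hQc : Nat.card Q₀ = p := by
    show Nat.card (Q₀ : Subgroup G) = p
    rw [hQ₀, hP]
  have hburn := not_normalizer_le hperf Q₀ hQc
  rw [hQ₀] at hburn
  have he0 : 0 < e := by
    rcases Nat.eq_zero_or_pos e with h | h
    · rw [h, mul_zero] at hNp
      exact absurd hNp Nat.card_pos.ne'
    · exact h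
  have he2 : 2 ≤ e := by
    by_contra hcon
    have h1 : e = 1 := by omega
    apply hburn
    rw [h1, mul_one] at hNp
    have h2 : P = Nn P := Subgroup.eq_of_le_of_card_ge Subgroup.le_normalizer (by rw [hNp, hP])
    show Nn P ≤ Cn P
    rw [← h2, hCP]
  have hodd : p ≠ 2 := by
    rintro rfl
    apply hburn
    intro a ha
    have h1 : a * z * a⁻¹ ∈ P := (Subgroup.mem_normalizer_iff.mp ha z).mp hzmemP
    have hz2 : z * z = 1 := by
      have := pow_orderOf_eq_one z
      rwa [hz, pow_two] at this
    have h2 : a * z * a⁻¹ = z := by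
      rw [← hQ₀, hQeq] at h1
      obtain ⟨i, hi⟩ := Subgroup.mem_zpowers_iff.mp h1
      have h3 : a * z * a⁻¹ ≠ 1 := by
        intro h4
        have h5 : z = 1 := by
          calc z = a⁻¹ * (a * z * a⁻¹) * a := by group
            _ = 1 := by rw [h4]; group
        rw [h5, orderOf_one] at hz
        omega
      rw [← hi] at h3 ⊢
      rcases Int.even_or_odd' i with ⟨c, rfl | rfl⟩
      · exfalso
        apply h3
        rw [zpow_mul]
        have : z ^ (2 : ℤ) = 1 := by
          rw [zpow_two, hz2]
        rw [this, one_zpow]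
      · rw [zpow_add, zpow_mul, zpow_one]
        have : z ^ (2 : ℤ) = 1 := by
          rw [zpow_two, hz2]
        rw [this, one_zpow, one_mul]
    have h3 : a * z = z * a := mul_inv_eq_iff_eq_mul.mp h2
    rw [Subgroup.mem_centralizer_iff]
    intro x hx
    rw [← hQ₀, hQeq] at hx
    obtain ⟨i, rfl⟩ := Subgroup.mem_zpowers_iff.mp hx
    exact ((Commute.zpow_left (Commute.symm h3) i) : Commute (z ^ i) a)
  -- the number of Sylow subgroups
  obtain ⟨k, hnk⟩ : ∃ k : ℕ, Nat.card (Sylow p G) = 1 + k * p := by
    have h1 : Nat.card (Sylow p G) ≡ 1 [MOD p] := card_sylow_modEq_one p G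
    have h2 : 1 ≤ Nat.card (Sylow p G) := Nat.card_pos
    obtain ⟨k, hk⟩ := (Nat.modEq_iff_dvd' h2).mp h1.symm
    exact ⟨k, by rw [mul_comm]; omega⟩
  have hindex : (Nn P).index = Nat.card (Sylow p G) := by
    have h1 := Sylow.card_eq_index_normalizer Q₀
    subst hQ₀
    exact h1.symm
  have hG : Nat.card G = p * (e * Nat.card (Sylow p G)) := by
    have h1 := Subgroup.card_mul_index (Nn P)
    rw [hNp, hindex] at h1
    rw [← h1]
    ring
  have hk1 : 1 ≤ k := by
    by_contra hcon
    have hk0 : k = 0 := by omega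
    rw [hk0, zero_mul, add_zero] at hnk
    have h1 : Nn P = ⊤ := by
      rw [← Subgroup.index_eq_one, hindex, hnk]
    have h2 : (⊤ : Subgroup G) ≤ P := by
      rw [← hperf, commutator_def, Subgroup.commutator_le]
      intro a _ b _
      rw [commutatorElement_def]
      exact S.comm_mem (by rw [h1]; trivial) (by rw [h1]; trivial)
    have h3 : Nat.card (⊤ : Subgroup G) ≤ Nat.card P := Subgroup.card_le_of_le h2
    have h4 : P = ⊤ := top_le_iff.mp h2
    have h5 : commutator G = ⊥ := by
      rw [commutator_eq_bot_iff_center_eq_top, eq_top_iff]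
      intro x _
      rw [Subgroup.mem_center_iff]
      intro y
      have := hCP
      have hy : y ∈ Cn P := by rw [hCP, h4]; trivial
      exact (Subgroup.mem_centralizer_iff.mp hy x (by rw [h4]; trivial)).symm
    rw [hperf] at h5
    have h6 : Nat.card P = 1 := by
      rw [h4, h5, Subgroup.card_bot]
    omega
  have hk2 : 2 * k ≤ p + 1 := by
    rw [hnk] at hn
    have hpodd : p % 2 = 1 := by
      rcases hp.out.eq_two_or_odd with h | h
      · exact absurd h hodd
      · exact h
    have h1 : 2 * (k * p) < p * (p + 3) := by nlinarith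
    have h2 : 2 * k < p + 3 := by
      have : (2 * k) * p < (p + 3) * p := by nlinarith
      exact Nat.lt_of_mul_lt_mul_right this
    omega
  -- the block data
  have hlin := hlin_of_perfect (G := G) hperf
  obtain ⟨M, hM⟩ := Cfsg.Agent.Lib.BlockH.Basic.exists_isPModular hp.out
  have := finite_DD (p := p) (P := P) hP hp2
  let _ : Fintype (DD P p) := Fintype.ofFinite _
  have hcount : Nat.card (principalBlock M G) = e + (p - 1) / e := by
    have h1 := (Cfsg.Agent.S0960.result p M hM hodd Q₀ hQc e (by rw [hQ₀])).1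
    exact h1
  obtain ⟨D⟩ := exists_BD hM hP hp2 e hN hodd hcount
  obtain ⟨n, hn'⟩ : ∃ n, n = Nat.card (Sylow p G) := ⟨_, rfl⟩
  have hnn : n = 1 + k * p := by rw [hn', hnk]
  have hG' : Nat.card G = p * (e * n) := by rw [hn']; exact hG
  -- the two final cases
  have final1 : k = 1 → D.t = 2 → (∃ (F : Type) (_ : Field F) (_ : Fintype F), Fintype.card F = p ∧ 3 < p ∧
      Nonempty (G ≃* Matrix.ProjectiveSpecialLinearGroup (Fin 2) F)) := by
    intro h1 h2
    have hte := D.hte
    rw [h2] at hte
    have hcardS : Nat.card (Sylow p G) = p + 1 := by rw [hnk, h1]; omega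
    have hG1 : Nat.card G = (p + 1) * p * e := by
      rw [hG, hcardS]
      ring
    obtain h3 := Cfsg.Agent.Lib.BrauerP.EndOne.psl_of_card hperf S he2 hte hQ₀ hcardS hG1
    exact ⟨ZMod p, inferInstance, ZMod.fintype p, ZMod.card p, by omega, h3⟩
  rcases D.hε with hε | hε
  · left
    obtain ⟨h1, h2⟩ := D.stepB hp2 hG' hnn hk1 hk2 hlin hCP he2 hε
    exact final1 h1 h2
  · rcases D.stepC hp2 hG' hnn hk1 hk2 hlin hCP hQ₀ hn'.symm S he2 hpe hε with ⟨h1, h2⟩ | ⟨h1, h2, E, hE, hH, hexp, hconj⟩
    · left
      exact final1 h1 h2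
    · by_cases hk11 : k = 1
      · left
        exact final1 hk11 (by omega)
      right
      -- the involution
      have hcardE := hE.card
      rw [h1] at hcardE
      obtain ⟨τ, hτE, hτ1⟩ : ∃ τ ∈ E, τ ≠ 1 := by
        have : Nontrivial E := by
          apply Finite.one_lt_card_iff_nontrivial.mp
          rw [hcardE]
          omega
        obtain ⟨x, hx⟩ := exists_ne (1 : E)
        exact ⟨x, x.2, fun h => hx (Subtype.ext h)⟩
      have hEτ : ∀ u ∈ E, u ≠ 1 → u = τ := by
        intro u hu hu1
        by_contra hne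
        have : 2 < Nat.card E := by
          let _ : Fintype E := Fintype.ofFinite _
          rw [Nat.card_eq_fintype_card, Fintype.two_lt_card_iff]
          refine ⟨⟨u, hu⟩, ⟨τ, hτE⟩, 1, ?_, ?_, ?_⟩
          · exact fun h => hne (congrArg Subtype.val h)
          · exact fun h => hu1 (congrArg Subtype.val h)
          · exact fun h => hτ1 (congrArg Subtype.val h)
        omega
      have hte : D.t * 2 = p - 1 := (congrArg (fun x => D.t * x) h1.symm).trans D.hte
      rw [← h2] at hte
      have hq : p - 1 = 2 * (k + 1) := by rw [← hte]; ring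
      have hpq : p = 2 * (k + 1) + 1 := by omega
      have hT : Cfsg.Agent.Lib.BrauerP.EndTwo.TD τ (Subgroup.normalizer (E : Set G)) (p - 1) :=
        { hτ := hτ1
          hH := by
            intro x
            rw [Subgroup.mem_normalizer_iff]
            constructor
            · intro h
              have h1 : x * τ * x⁻¹ ∈ E := (h τ).mp hτE
              have h2 : x * τ * x⁻¹ ≠ 1 := by
                intro h3
                apply hτ1
                calc τ = x⁻¹ * (x * τ * x⁻¹) * x := by group
                  _ = 1 := by rw [h3]; group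
              have h3 := hEτ _ h1 h2
              exact mul_inv_eq_iff_eq_mul.mp h3
            · intro h u
              have hconjτ : x * τ * x⁻¹ = τ := mul_inv_eq_iff_eq_mul.mpr h
              constructor
              · intro hu
                by_cases hu1 : u = 1
                · subst hu1
                  simp [E.one_mem]
                · rw [hEτ u hu hu1, hconjτ]
                  exact hτE
              · intro hu
                by_cases hu1 : u = 1
                · subst hu1
                  exact E.one_mem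
                · have h2 : x * u * x⁻¹ ≠ 1 := by
                    intro h3
                    apply hu1
                    calc u = x⁻¹ * (x * u * x⁻¹) * x := by group
                      _ = 1 := by rw [h3]; group
                  have h3 := hEτ _ hu h2
                  rw [← hconjτ] at h3
                  have h4 : u = τ := by
                    have h5 : x * u * x⁻¹ = x * τ * x⁻¹ := h3
                    exact mul_left_cancel (mul_right_cancel h5)
                  rw [h4]
                  exact hτE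
          card := hH
          order := by
            rw [hG', h1, hnn]
            have h3 : p - 1 - 1 = 2 * k + 1 := by omega
            rw [hq, hpq]
            have h4 : 2 * (k + 1) - 1 = 2 * k + 1 := by omega
            rw [h4]
            ring
          exp := hexp
          conj := by
            intro h hh hh1
            obtain ⟨y, u, hu, hu1, hy⟩ := hconj h hh hh1
            exact ⟨y, by rw [hy, hEτ u hu hu1]⟩
          q4 := by omega }
      obtain ⟨m, F, i1, i2, hF, hq', hφ⟩ := hT.psl
      exact ⟨m, F, i1, i2, hF, by omega, by omega, hφ⟩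

/-- The main theorem. -/
theorem main (hperf : commutator G = ⊤) (z : G) (hz : orderOf z = p)
    (hC : Subgroup.centralizer ({z} : Set G) = Subgroup.zpowers z)
    (hn : 2 * Nat.card (Sylow p G) < (p + 1) * (p + 2)) :
    (∃ (F : Type) (_ : Field F) (_ : Fintype F), Fintype.card F = p ∧ 3 < p ∧
      Nonempty (G ≃* Matrix.ProjectiveSpecialLinearGroup (Fin 2) F)) ∨
    (∃ (m : ℕ) (F : Type) (_ : Field F) (_ : Fintype F), Fintype.card F = 2 ^ m ∧ p = 2 ^ m + 1 ∧
      3 < p ∧ Nonempty (G ≃* Matrix.ProjectiveSpecialLinearGroup (Fin 2) F)) := by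
  rcases main' hperf z hz hC hn with h | ⟨m, F, i1, i2, hF, h1, h2, h3⟩
  · exact Or.inl h
  · exact Or.inr ⟨m, F, i1, i2, hF, h1, by omega, h3⟩

end Cfsg.Agent.Lib.BrauerP.Main
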