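import Mathlib

/-!
# Arithmetic of degrees in a group with a Sylow subgroup of prime order

Divisors of `e * (1 + k * p)` congruent to `± 1` modulo `p`, with `t * e = p - 1`, `2 * k ≤ p + 1`.
-/

set_option autoImplicit false

namespace Cfsg.Agent.Lib.BrauerP.Arith

/-- Divisors congruent to `1` modulo `p`. -/
theorem deg_plus {p e t k h f' : ℕ} (hp : 2 ≤ p) (hte : t * e = p - 1) (hk : 2 * k ≤ p + 1)
    (hh : 1 ≤ h) (h1 : (h * p + 1) * f' = e * (1 + k * p)) : h = k ∧ f' = e := by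
  have hp1 : 1 ≤ p := by omega
  obtain ⟨q, rfl⟩ : ∃ q, p = q + 1 := ⟨p - 1, by omega⟩
  have hte' : t * e = q := by simpa using hte
  have he0 : 0 < e := by
    rcases Nat.eq_zero_or_pos e with h0 | h0
    · subst h0
      have : q = 0 := by simpa using hte'.symm
      omega
    · exact h0
  have het : e ≤ q := by
    rw [← hte']
    have ht0 : 0 < t := by
      rcases Nat.eq_zero_or_pos t with h0 | h0
      · subst h0
        have : q = 0 := by simpa using hte'.symm
        omega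
      · exact h0
    nlinarith
  -- integer form
  have hZ : ((h : ℤ) * (q + 1) + 1) * f' = e * (1 + k * (q + 1)) := by exact_mod_cast h1
  set c : ℤ := e * k - h * f' with hc
  have hf' : (f' : ℤ) = e + (q + 1) * c := by
    rw [hc]
    linarith
  have hf'pos : 0 < (f' : ℤ) := by
    have : f' ≠ 0 := by
      rintro rfl
      have h2 : 0 < e * (1 + k * (q + 1)) := by positivity
      omega
    exact_mod_cast Nat.pos_of_ne_zero this
  have hc0 : 0 ≤ c := by
    by_contra hneg
    have h2 : c ≤ -1 := by omega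
    have h3 : (q + 1 : ℤ) * c ≤ (q + 1) * (-1) := by
      apply mul_le_mul_of_nonneg_left h2
      positivity
    have h4 : (e : ℤ) ≤ q := by exact_mod_cast het
    linarith
  -- `c * (1 + h p) = e * (k - h)`
  have hkey : c * ((h : ℤ) * (q + 1) + 1) = e * ((k : ℤ) - h) := by
    have h2 : ((h : ℤ) * (q + 1) + 1) * (e + (q + 1) * c) = e * (1 + k * (q + 1)) := by
      rw [← hf']; exact hZ
    have h3 : ((q : ℤ) + 1) * (c * ((h : ℤ) * (q + 1) + 1) - e * ((k : ℤ) - h)) = 0 := by
      linear_combination h2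
    have h4 : ((q : ℤ) + 1) ≠ 0 := by positivity
    have h5 := (mul_eq_zero.mp h3).resolve_left h4
    linarith
  rcases eq_or_lt_of_le hc0 with hc1 | hc1
  · -- `c = 0`
    have h2 : (e : ℤ) * ((k : ℤ) - h) = 0 := by
      rw [← hkey, ← hc1, zero_mul]
    have h3 : (k : ℤ) - h = 0 := by
      have h4 : (e : ℤ) ≠ 0 := by exact_mod_cast he0.ne'
      exact (mul_eq_zero.mp h2).resolve_left h4
    have h5 : h = k := by omega
    refine ⟨h5, ?_⟩
    have h6 : (f' : ℤ) = e := by
      rw [hf', ← hc1, mul_zero, add_zero]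
    exact_mod_cast h6
  · -- `c ≥ 1` is impossible
    exfalso
    have hkh : (h : ℤ) < k := by
      have h2 : 0 < c * ((h : ℤ) * (q + 1) + 1) := by positivity
      rw [hkey] at h2
      have h3 : (0 : ℤ) < e := by exact_mod_cast he0
      have h4 := (pos_iff_pos_of_mul_pos h2).mp h3
      omega
    obtain ⟨m, hm⟩ : ∃ m : ℕ, k = h + m := ⟨k - h, by omega⟩
    subst hm
    have hm0 : 0 < m := by
      have : (h : ℤ) < ((h + m : ℕ) : ℤ) := hkh
      omega
    obtain ⟨c', hc'⟩ : ∃ c' : ℕ, c = c' := ⟨c.toNat, by omega⟩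
    have hkeyN : c' * (h * (q + 1) + 1) = e * m := by
      have : (c' : ℤ) * ((h : ℤ) * (q + 1) + 1) = e * (m : ℤ) := by
        rw [← hc', hkey]
        push_cast
        ring
      exact_mod_cast this
    set A := h * (q + 1) + 1 with hA
    set g₁ := Nat.gcd e A with hg₁
    have hg₁pos : 0 < g₁ := Nat.gcd_pos_of_pos_left _ he0
    have hg₁dvd : g₁ ∣ h + 1 := by
      have h2 : g₁ ∣ e := Nat.gcd_dvd_left _ _
      have h3 : g₁ ∣ A := Nat.gcd_dvd_right _ _
      have h4 : A = h * t * e + (h + 1) := by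
        rw [hA, ← hte']
        ring
      rw [h4] at h3
      exact (Nat.dvd_add_right (Dvd.dvd.mul_left h2 (h * t))).mp h3
    have hg₁le : g₁ ≤ h + 1 := Nat.le_of_dvd (by omega) hg₁dvd
    obtain ⟨e', he'⟩ : g₁ ∣ e := Nat.gcd_dvd_left _ _
    obtain ⟨A', hA'⟩ : g₁ ∣ A := Nat.gcd_dvd_right _ _
    have hcop : Nat.Coprime A' e' := by
      have := Nat.coprime_div_gcd_div_gcd (m := e) (n := A) hg₁pos
      rw [← hg₁] at this
      have h2 : e / g₁ = e' := by
        rw [he']
        exact Nat.mul_div_cancel_left _ hg₁pos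
      have h3 : A / g₁ = A' := by
        rw [hA']
        exact Nat.mul_div_cancel_left _ hg₁pos
      rw [h2, h3] at this
      exact this.symm
    have h5 : c' * A' = e' * m := by
      have h6 : g₁ * (c' * A') = g₁ * (e' * m) := by
        calc g₁ * (c' * A') = c' * (g₁ * A') := by ring
          _ = e * m := by rw [← hA', hkeyN]
          _ = g₁ * (e' * m) := by rw [he']; ring
      exact Nat.eq_of_mul_eq_mul_left hg₁pos h6
    have h6 : A' ∣ m := hcop.dvd_of_dvd_mul_left (h5 ▸ Dvd.intro_left c' rfl)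
    have h7 : A' ≤ m := Nat.le_of_dvd hm0 h6
    have h8 : A ≤ (h + 1) * m := by
      rw [hA']
      exact Nat.mul_le_mul hg₁le h7
    -- the contradiction
    have hk' : 2 * (h + m) ≤ q + 2 := by simpa using hk
    have h9 : 2 * m ≤ q + 2 - 2 * h := by omega
    have h10 : 2 * (h * (q + 1) + 1) ≤ (h + 1) * (q + 2 - 2 * h) := by
      calc 2 * (h * (q + 1) + 1) = 2 * A := by rw [hA]
        _ ≤ 2 * ((h + 1) * m) := by omega
        _ = (h + 1) * (2 * m) := by ring
        _ ≤ _ := Nat.mul_le_mul_left _ h9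
    have h11 : q + 2 - 2 * h ≤ q + 1 := by omega
    have h12 : (h + 1) * (q + 2 - 2 * h) ≤ (h + 1) * (q + 1) := Nat.mul_le_mul_left _ h11
    have h13 : q + 1 ≤ h * (q + 1) := Nat.le_mul_of_pos_left _ (by omega)
    have h14 : (h + 1) * (q + 1) = h * (q + 1) + (q + 1) := by ring
    have h15 := h10.trans h12
    rw [h14] at h15
    generalize h * (q + 1) = X at *
    omega

set_option maxHeartbeats 1000000 in
/-- Divisors congruent to `-1` modulo `p`. -/
theorem deg_minus {p e t k l f f' : ℕ} (hp : 2 ≤ p) (hte : t * e = p - 1) (hk : 2 * k ≤ p + 1)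
    (hl : f + 1 = l * p) (h1 : f * f' = e * (1 + k * p)) :
    (l = 1 ∧ ∃ c : ℕ, f' + e = c * p ∧ c * t = k + 1) ∨ f' = 1 := by
  obtain ⟨q, rfl⟩ : ∃ q, p = q + 1 := ⟨p - 1, by omega⟩
  have hte' : t * e = q := by simpa using hte
  have hq0 : 0 < q := by omega
  have ht0 : 0 < t := by
    rcases Nat.eq_zero_or_pos t with h0 | h0
    · subst h0
      omega
    · exact h0
  have he0 : 0 < e := by
    rcases Nat.eq_zero_or_pos e with h0 | h0
    · subst h0
      omega
    · exact h0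
  have hl0 : 1 ≤ l := by
    rcases Nat.eq_zero_or_pos l with h0 | h0
    · subst h0
      omega
    · exact h0
  have hfZ : (f : ℤ) = l * (q + 1) - 1 := by
    have : (f : ℤ) + 1 = l * (q + 1) := by exact_mod_cast hl
    linarith
  have hZ : (f : ℤ) * f' = e * (1 + k * (q + 1)) := by exact_mod_cast h1
  rw [hfZ] at hZ
  set c₀ : ℤ := l * f' - e * k with hc₀
  have hf'e : (f' : ℤ) + e = (q + 1) * c₀ := by
    rw [hc₀]
    linarith
  have hc₀pos : 0 < c₀ := by
    have h2 : (0 : ℤ) < (q + 1) * c₀ := by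
      rw [← hf'e]
      have : (0 : ℤ) < e := by exact_mod_cast he0
      positivity
    have h3 : (0 : ℤ) < q + 1 := by positivity
    exact (pos_iff_pos_of_mul_pos h2).mp h3
  obtain ⟨c, hc⟩ : ∃ c : ℕ, c₀ = c := ⟨c₀.toNat, by omega⟩
  rw [hc] at hf'e hc₀pos
  have hc1 : 1 ≤ c := by exact_mod_cast hc₀pos
  have hf'N : f' + e = c * (q + 1) := by
    have : (f' : ℤ) + e = c * (q + 1) := by rw [hf'e]; ring
    exact_mod_cast this
  -- `c (l p - 1) = e (k + l)`
  have hkey : (c : ℤ) * ((l : ℤ) * (q + 1) - 1) = e * ((k : ℤ) + l) := by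
    have h2 : ((l : ℤ) * (q + 1) - 1) * ((q + 1) * c - e) = e * (1 + k * (q + 1)) := by
      rw [← hf'e]
      have : (f' : ℤ) + e - e = f' := by ring
      rw [this]
      exact hZ
    have h3 : ((q : ℤ) + 1) * ((c : ℤ) * ((l : ℤ) * (q + 1) - 1) - e * ((k : ℤ) + l)) = 0 := by
      linear_combination h2
    have h4 : ((q : ℤ) + 1) ≠ 0 := by positivity
    have h5 := (mul_eq_zero.mp h3).resolve_left h4
    linarith
  rcases eq_or_lt_of_le hl0 with h1l | h2l
  · -- `l = 1`
    left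
    subst h1l
    refine ⟨rfl, c, hf'N, ?_⟩
    have h2 : (c : ℤ) * ((t : ℤ) * e) = e * ((k : ℤ) + 1) := by
      have h3 : ((t : ℤ) * e) = q := by exact_mod_cast hte'
      rw [h3]
      have h4 := hkey
      push_cast at h4
      linarith
    have h3 : (e : ℤ) * ((c : ℤ) * t - ((k : ℤ) + 1)) = 0 := by linarith
    have h4 : (e : ℤ) ≠ 0 := by exact_mod_cast he0.ne'
    have h5 := (mul_eq_zero.mp h3).resolve_left h4
    have h6 : (c : ℤ) * t = k + 1 := by linarith
    exact_mod_cast h6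
  · -- `l ≥ 2`
    right
    obtain ⟨m, rfl⟩ : ∃ m, l = m + 2 := ⟨l - 2, by omega⟩
    -- Let `g₁ = gcd (m + 1) e`
    set g₁ := Nat.gcd (m + 1) e with hg₁
    have hg₁pos : 0 < g₁ := Nat.gcd_pos_of_pos_right _ he0
    obtain ⟨l₁, hl₁⟩ : g₁ ∣ m + 1 := Nat.gcd_dvd_left _ _
    obtain ⟨e₁, he₁⟩ : g₁ ∣ e := Nat.gcd_dvd_right _ _
    have hl₁0 : 0 < l₁ := by
      rcases Nat.eq_zero_or_pos l₁ with h0 | h0
      · subst h0
        omega
      · exact h0
    have he₁0 : 0 < e₁ := by
      rcases Nat.eq_zero_or_pos e₁ with h0 | h0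
      · subst h0
        omega
      · exact h0
    have hcop : Nat.Coprime l₁ e₁ := by
      have := Nat.coprime_div_gcd_div_gcd (m := m + 1) (n := e) hg₁pos
      rw [← hg₁] at this
      have h2 : (m + 1) / g₁ = l₁ := by
        rw [hl₁]
        exact Nat.mul_div_cancel_left _ hg₁pos
      have h3 : e / g₁ = e₁ := by
        rw [he₁]
        exact Nat.mul_div_cancel_left _ hg₁pos
      rwa [h2, h3] at this
    -- `A' = l₁ p + t e₁`
    set A' := l₁ * (q + 1) + t * e₁ with hA'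
    have hAfac : (m + 2) * (q + 1) - 1 = g₁ * A' := by
      have h2 : (m + 2) * (q + 1) = g₁ * A' + 1 := by
        calc (m + 2) * (q + 1) = (m + 1) * (q + 1) + q + 1 := by ring
          _ = g₁ * l₁ * (q + 1) + t * (g₁ * e₁) + 1 := by
            rw [← hl₁, ← he₁, hte']
          _ = g₁ * A' + 1 := by rw [hA']; ring
      omega
    have hAZ : ((m + 2 : ℕ) : ℤ) * (q + 1) - 1 = g₁ * A' := by
      have h2 : (((m + 2) * (q + 1) : ℕ) : ℤ) = g₁ * A' + 1 := by
        have h3 : (m + 2) * (q + 1) = g₁ * A' + 1 := by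
          have h4 : 1 ≤ (m + 2) * (q + 1) := by nlinarith
          omega
        exact_mod_cast h3
      push_cast at h2 ⊢
      linarith
    have hcopA : Nat.Coprime A' e₁ := by
      rw [hA']
      have h2 : Nat.Coprime (l₁ * (q + 1)) e₁ := by
        apply Nat.Coprime.mul_left hcop
        have h3 : q + 1 = t * g₁ * e₁ + 1 := by
          rw [mul_assoc, ← he₁, hte']
        rw [h3]
        simp
      exact (Nat.coprime_add_mul_right_left _ _ _).mpr h2
    have hkeyN : c * A' = e₁ * (k + (m + 2)) := by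
      have h2 : (g₁ : ℤ) * ((c : ℤ) * A') = g₁ * ((e₁ : ℤ) * ((k : ℤ) + (m + 2 : ℕ))) := by
        calc (g₁ : ℤ) * ((c : ℤ) * A') = (c : ℤ) * ((g₁ : ℤ) * A') := by ring
          _ = (c : ℤ) * (((m + 2 : ℕ) : ℤ) * (q + 1) - 1) := by rw [hAZ]
          _ = e * ((k : ℤ) + (m + 2 : ℕ)) := hkey
          _ = _ := by rw [he₁]; push_cast; ring
      have h3 : (g₁ : ℤ) ≠ 0 := by exact_mod_cast hg₁pos.ne'
      have h4 := mul_left_cancel₀ h3 h2
      exact_mod_cast h4
    have hdvd : A' ∣ k + (m + 2) := hcopA.dvd_of_dvd_mul_left (hkeyN ▸ Dvd.intro_left c rfl)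
    have hle : A' ≤ k + (m + 2) := Nat.le_of_dvd (by omega) hdvd
    -- The key inequality.
    have hk' : 2 * k ≤ q + 2 := by simpa using hk
    have hineq : l₁ * (q + 1) + t * e₁ ≤ k + 1 + g₁ * l₁ := by
      have : m + 2 = g₁ * l₁ + 1 := by omega
      omega
    have hte₁ : t * g₁ * e₁ = q := by rw [mul_assoc, ← he₁, hte']
    -- Case analysis
    by_cases hcase : t = 1 ∧ e₁ = 1
    · obtain ⟨rfl, rfl⟩ := hcase
      have hg₁q : g₁ = q := by simpa using hte₁
      subst hg₁q
      have he_eq : e = g₁ := by simpa using he₁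
      -- now `c * (l₁ p + 1) = k + m + 2`
      have hc1' : c = 1 := by
        by_contra hne
        have hc2 : 2 ≤ c := by omega
        have h2 : 2 * (l₁ * (g₁ + 1) + 1 * 1) ≤ k + (m + 2) := by
          calc 2 * (l₁ * (g₁ + 1) + 1 * 1) ≤ c * A' := by
                rw [hA']; exact Nat.mul_le_mul_right _ hc2
            _ = 1 * (k + (m + 2)) := hkeyN
            _ = k + (m + 2) := one_mul _
        have h3 : m + 1 = g₁ * l₁ := hl₁
        have h4 : l₁ * (g₁ + 1) = g₁ * l₁ + l₁ := by ring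
        have h5 : g₁ ≤ g₁ * l₁ := Nat.le_mul_of_pos_right _ hl₁0
        rw [h4] at h2
        generalize g₁ * l₁ = Y at *
        omega
      subst hc1'
      have h2 : f' + e = 1 * (g₁ + 1) := hf'N
      omega
    · exfalso
      -- `e₁ ≥ 2` or `t ≥ 2`
      have hA : g₁ * 2 ≤ q ∨ t ≥ 2 := by
        by_cases ht : 2 ≤ t
        · exact Or.inr ht
        · left
          have ht1 : t = 1 := by omega
          have he₁2 : 2 ≤ e₁ := by
            by_contra hlt
            have : e₁ = 1 := by omega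
            exact hcase ⟨ht1, this⟩
          subst ht1
          have : g₁ * e₁ = q := by simpa using hte₁
          nlinarith
      have hg₁le : 2 * g₁ ≤ q := by
        rcases hA with h | h
        · omega
        · have h2 : 2 * (g₁ * e₁) ≤ t * (g₁ * e₁) := Nat.mul_le_mul_right _ h
          have h3 : g₁ ≤ g₁ * e₁ := Nat.le_mul_of_pos_right _ he₁0
          have h4 : t * (g₁ * e₁) = q := by rw [← hte₁]; ring
          omega
      have hte2 : 2 ≤ t * e₁ := by
        by_contra hlt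
        have h2 : t * e₁ = 1 := by
          have : 0 < t * e₁ := by positivity
          omega
        have ht1 : t = 1 := Nat.eq_one_of_mul_eq_one_right h2
        have he1 : e₁ = 1 := Nat.eq_one_of_mul_eq_one_left h2
        exact hcase ⟨ht1, he1⟩
      -- `l₁ (p - g₁) + t e₁ ≤ k + 1`
      have h5 : l₁ * (q + 1) = l₁ * (q + 1 - g₁) + g₁ * l₁ := by
        have h6 : g₁ ≤ q + 1 := by omega
        have h7 : q + 1 = (q + 1 - g₁) + g₁ := by omega
        conv_lhs => rw [h7]
        ring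
      have h6 : l₁ * (q + 1 - g₁) + t * e₁ ≤ k + 1 := by omega
      have h7 : q + 1 - g₁ ≤ l₁ * (q + 1 - g₁) := Nat.le_mul_of_pos_left _ hl₁0
      omega

/-- Combined form: a divisor congruent to `-1` which is not the full index. -/
theorem deg_minus_of_ne {p e t k l f f' : ℕ} (hp : 2 ≤ p) (hte : t * e = p - 1) (hk : 2 * k ≤ p + 1)
    (hl : f + 1 = l * p) (h1 : f * f' = e * (1 + k * p)) (hne : f' ≠ 1) :
    l = 1 ∧ f = p - 1 ∧ ∃ c : ℕ, f' + e = c * p ∧ c * t = k + 1 := by
  rcases deg_minus hp hte hk hl h1 with ⟨h2, c, h3, h4⟩ | h2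
  · refine ⟨h2, ?_, c, h3, h4⟩
    subst h2
    omega
  · exact absurd h2 hne

/-- The numerical part of the case `ε = 1`. -/
theorem arith_stepB {q e t k A B C E : ℕ}
    (h1 : 1 * 1 + (A * (1 + k * (q + 1)) + (B * q + (C * e + (q + 1) * E))) = e ^ 2)
    (h2 : 1 + ((A * (k + 1)) + E) = e) (hte : t * e = q) (he2 : 2 ≤ e) (hk1 : 1 ≤ k) (ht2 : 2 ≤ t) :
    k = 1 ∧ t = 2 := by
  have h1Z : (1 : ℤ) + (A * (1 + k * (q + 1)) + (B * q + (C * e + (q + 1) * E))) = e ^ 2 := by
    have h4 : (((1 * 1 + (A * (1 + k * (q + 1)) + (B * q + (C * e + (q + 1) * E))) : ℕ)) : ℤ) =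
      ((e ^ 2 : ℕ) : ℤ) := by rw [h1]
    push_cast at h4
    linarith
  have h2Z : (1 : ℤ) + A * (k + 1) + E = e := by exact_mod_cast (by omega : 1 + A * (k + 1) + E = e)
  have hteZ : (t : ℤ) * e = q := by exact_mod_cast hte
  -- `(p - 1) (1 + A) = p e - e² + (p - 1) B + e C`
  have hmain : (q : ℤ) * (1 + A) = (q + 1) * e - e ^ 2 + q * B + e * C := by
    rw [← h1Z]
    rw [← h2Z]
    ring_nf
  have hB0 : (0 : ℤ) ≤ B := by positivity
  have hC0 : (0 : ℤ) ≤ C := by positivity
  have hE0 : (0 : ℤ) ≤ E := by positivity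
  have he0 : (0 : ℤ) < e := by exact_mod_cast (by omega : 0 < e)
  have he2Z : (2 : ℤ) ≤ e := by exact_mod_cast he2
  have hk1Z : (1 : ℤ) ≤ k := by exact_mod_cast hk1
  have ht2Z : (2 : ℤ) ≤ t := by exact_mod_cast ht2
  have ht1 : (t : ℤ) * (1 + A) = t * e + 1 - e + t * B + C := by
    apply mul_right_cancel₀ he0.ne'
    have h3 : (t : ℤ) * (1 + A) * e = (q : ℤ) * (1 + A) := by rw [← hteZ]; ring
    rw [h3, hmain, ← hteZ]
    ring
  have hineq1 : ((t : ℤ) - 1) * ((e : ℤ) - 1) ≤ t * A := by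
    nlinarith [mul_nonneg (by linarith : (0 : ℤ) ≤ t) hB0]
  have hineq2 : (A : ℤ) * (k + 1) ≤ (e : ℤ) - 1 := by linarith
  have hkt : ((k : ℤ) + 1) * ((t : ℤ) - 1) ≤ t := by
    have h5 : ((k : ℤ) + 1) * (((t : ℤ) - 1) * ((e : ℤ) - 1)) ≤ t * ((e : ℤ) - 1) := by
      calc ((k : ℤ) + 1) * (((t : ℤ) - 1) * ((e : ℤ) - 1)) ≤ ((k : ℤ) + 1) * (t * A) :=
            mul_le_mul_of_nonneg_left hineq1 (by linarith)
        _ = t * ((A : ℤ) * (k + 1)) := by ring
        _ ≤ t * ((e : ℤ) - 1) := mul_le_mul_of_nonneg_left hineq2 (by linarith)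
    have h6 : (((k : ℤ) + 1) * ((t : ℤ) - 1)) * ((e : ℤ) - 1) ≤ (t : ℤ) * ((e : ℤ) - 1) := by
      linarith
    exact le_of_mul_le_mul_right h6 (by linarith)
  have ht_le : (t : ℤ) ≤ 2 := by nlinarith
  have ht_eq : t = 2 := by
    have : (t : ℤ) = 2 := le_antisymm ht_le ht2Z
    exact_mod_cast this
  refine ⟨?_, ht_eq⟩
  rw [ht_eq] at hkt
  push_cast at hkt
  have : (k : ℤ) ≤ 1 := by linarith
  omega

end Cfsg.Agent.Lib.BrauerP.Arith
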