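import Cfsg.Agent.Lib.BrauerP.Fourier

/-!
# The structure of the principal block from the count of its members

From `|B₀| = e + (p - 1) / e`, the family `Θ d` has the shape `∑ z j • j + ε ν (c d)`, with all
`z j ∈ {0, 1, -1}`.
-/

set_option autoImplicit false
set_option linter.unusedSectionVars false

namespace Cfsg.Agent.Lib.BrauerP.Data

open Cfsg Module
open Cfsg.Agent.Lib.Char.Basic Cfsg.Agent.Lib.Char.Ortho Cfsg.Agent.Lib.Char.Complete
open Cfsg.Agent.Lib.Char.Degree Cfsg.Agent.Lib.Char.Induced
open Cfsg.Agent.Lib.ExcP.Gram Cfsg.Agent.Lib.ExcP.Dual Cfsg.Agent.Lib.ExcP.Core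
open Cfsg.Agent.Lib.ExcP.Inst Cfsg.Agent.Lib.ExcP.BlockHA
open Cfsg.Agent.Lib.Small.ExcPerm
open Cfsg.Agent.Lib.BrauerP.Fourier
open scoped ComplexConjugate

open scoped Classical in
/-- The data of the principal block. -/
structure BD {G : Type*} [Group G] [Fintype G] [Fintype (IrrCharacter G)] (P : Subgroup G) (p e : ℕ)
    [Fact p.Prime] (hP : Nat.card P = p) [Fintype P] [Fintype (DD P p)] where
  ε : ℤ
  t : ℕ
  D₀ : ℕ
  z : IrrCharacter G → ℤ
  ν : Fin t → IrrCharacter G
  c : DD P p → Fin t
  hε : ε = 1 ∨ ε = -1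
  hte : t * e = p - 1
  hz : ∀ j, z j = 0 ∨ z j = 1 ∨ z j = -1
  hzone : z (oneIrr G) = -1
  hcard : (Finset.univ.filter (fun j => z j ≠ 0)).card = e
  ht1 : t = 1 → ε = -1
  hνinj : Function.Injective ν
  hcsurj : Function.Surjective c
  hνdeg : ∀ i, charDegree (ν i : G → ℂ) = D₀
  hνz : ∀ i, z (ν i) = 0
  hinner : ∀ (d : DD P p) (j : IrrCharacter G), classInner (Th P d.1) (j : G → ℂ) =
    ((z j + ε * (if ν (c d) = j then 1 else 0) : ℤ) : ℂ)
  hfib : ∀ i, (Finset.univ.filter (fun d => c d = i)).card = e
  hAk : ∀ (j : IrrCharacter G), (∃ d : DD P p, classInner (Th P d.1) (j : G → ℂ) ≠ 0) →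
    ∀ d : DD P p, classInner (Th P d.1) (j : G → ℂ) = Ak hP d.1 (j : G → ℂ)

universe u

variable {G : Type u} [Group G] [Fintype G] {p : ℕ} [hp : Fact p.Prime] {P : Subgroup G}

theorem not_dvd_index_centralizer (hP : Nat.card P = p) (hp2 : ¬ p ^ 2 ∣ Nat.card G) {u : G}
    (hu : u ∈ P) (hu1 : u ≠ 1) : ¬ p ∣ (Subgroup.centralizer ({u} : Set G)).index := by
  intro h
  rw [← centralizer_singleton_eq hP hu hu1] at h
  apply hp2
  have h1 := (Cn P).card_mul_index
  have h2 : p ∣ Nat.card (Cn P) := by
    rw [← hP]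
    exact Subgroup.card_dvd_of_le (le_centralizer hP)
  rw [← h1, pow_two]
  exact mul_dvd_mul h2 h

/-- A member of `P` different from `1`. -/
theorem exists_ne_one (hP : Nat.card P = p) : ∃ u : P, u ≠ 1 := by
  have h : Nontrivial P := by
    apply Finite.one_lt_card_iff_nontrivial.mp
    rw [hP]
    exact hp.out.one_lt
  exact exists_ne 1

/-- The principal block consists of the characters which are not orthogonal to the family. -/
theorem mem_principal_iff {M : Ideal AlgInt} (hM : IsPModular p M) (hP : Nat.card P = p)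
    (hp2 : ¬ p ^ 2 ∣ Nat.card G) [Fintype P] [Fintype (DD P p)] (j : IrrCharacter G) :
    j ∈ principalBlock M G ↔ ∃ d : DD P p, classInner (Th P d.1) (j : G → ℂ) ≠ 0 := by
  obtain ⟨h1, h2⟩ := dichotomy_at hM hP hp2 j
  constructor
  · intro hj
    by_contra hcon
    push Not at hcon
    obtain ⟨u, hu⟩ := exists_ne_one hP
    have hu' : (u : G) ≠ 1 := fun h => hu (Subtype.ext h)
    have h3 := Cfsg.Agent.Lib.Kazarin.Block.char_ne_zero_of_mem_principal hM
      (not_dvd_index_centralizer hP hp2 u.2 hu') hj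
    apply h3
    rw [fourier hP hp2 (j : G → ℂ) hu]
    apply Finset.sum_eq_zero
    intro d _
    rw [← h2 hj d.1 d.2, hcon d]
    simp
  · rintro ⟨d, hd⟩
    by_contra hj
    exact hd (h1 hj d.1 d.2)

theorem hAk_of {M : Ideal AlgInt} (hM : IsPModular p M) (hP : Nat.card P = p)
    (hp2 : ¬ p ^ 2 ∣ Nat.card G) [Fintype P] [Fintype (DD P p)] (j : IrrCharacter G)
    (h : ∃ d : DD P p, classInner (Th P d.1) (j : G → ℂ) ≠ 0) (d : DD P p) :
    classInner (Th P d.1) (j : G → ℂ) = Ak hP d.1 (j : G → ℂ) := by
  obtain ⟨h1, h2⟩ := dichotomy_at hM hP hp2 j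
  apply h2 _ d.1 d.2
  rw [mem_principal_iff hM hP hp2]
  exact h

open scoped Classical in
/-- From `z` and `ν`, the Gram matrix determines the fibres of `c`. -/
theorem fib_of_inner {t : ℕ} (ε : ℤ) (hε : ε = 1 ∨ ε = -1) [Fintype (IrrCharacter G)]
    (hP : Nat.card P = p) (hp2 : ¬ p ^ 2 ∣ Nat.card G) [Fintype P] [Fintype (DD P p)] (e : ℕ)
    (hN : Nat.card (Nn P) = e * Nat.card (Cn P))
    (z : IrrCharacter G → ℤ) (ν : Fin t → IrrCharacter G) (c : DD P p → Fin t)
    (hνinj : Function.Injective ν) (hνz : ∀ i, z (ν i) = 0) (hzsq : ∑ j, z j ^ 2 = e)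
    (hinner : ∀ (d : DD P p) (j : IrrCharacter G), classInner (Th P d.1) (j : G → ℂ) =
      ((z j + ε * (if ν (c d) = j then 1 else 0) : ℤ) : ℂ)) (hcsurj : Function.Surjective c) (i : Fin t) :
    (Finset.univ.filter (fun d => c d = i)).card = e := by
  classical
  let _ : Fintype (Cn P) := Fintype.ofFinite _
  let _ : Fintype (Nn P) := Fintype.ofFinite _
  have hε2 : ε * ε = 1 := by rcases hε with h | h <;> rw [h] <;> norm_num
  have hgram : ∀ a b : DD P p, classInner (Th P a.1) (Th P b.1) =
      (e : ℂ) + if c a = c b then 1 else 0 := by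
    intro a b
    have hcf : IsClassFunction G (Th P b.1) := isClassFunction_indFun _ _
    rw [classInner_eq_sum hcf]
    simp only [hinner, map_intCast]
    have h1 : ∀ j : IrrCharacter G, (((z j + ε * (if ν (c a) = j then 1 else 0) : ℤ) : ℂ)) *
        ((z j + ε * (if ν (c b) = j then 1 else 0) : ℤ) : ℂ) =
        (((z j ^ 2 + ε * (if ν (c a) = j then z j else 0) + ε * (if ν (c b) = j then z j else 0)
          + (if ν (c a) = j then (if ν (c b) = j then 1 else 0) else 0) : ℤ)) : ℂ) := by
      intro j
      rw [← Int.cast_mul]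
      congr 1
      by_cases h2 : ν (c a) = j <;> by_cases h3 : ν (c b) = j <;> simp only [h2, h3, if_true, if_false]
      · linear_combination hε2
      · ring
      · ring
      · ring
    simp only [h1]
    rw [← Int.cast_sum, Finset.sum_add_distrib, Finset.sum_add_distrib, Finset.sum_add_distrib,
      hzsq, ← Finset.mul_sum, ← Finset.mul_sum, Finset.sum_ite_eq, Finset.sum_ite_eq]
    simp only [Finset.mem_univ, if_true, hνz, mul_zero, add_zero]
    by_cases h2 : c a = c b
    · rw [if_pos h2, h2]
      simp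
    · have h3 : ν (c a) ≠ ν (c b) := fun h => h2 (hνinj h)
      rw [if_neg h2]
      have h4 : ∑ j : IrrCharacter G, (if ν (c a) = j then (if ν (c b) = j then (1 : ℤ) else 0) else 0) = 0 := by
        apply Finset.sum_eq_zero
        intro j _
        by_cases h5 : ν (c a) = j
        · rw [if_pos h5, if_neg]
          intro h6
          exact h3 (h5.trans h6.symm)
        · rw [if_neg h5]
      rw [h4]
      simp
  have hcr : ∀ a b : DD P p, c a = c b ↔ (rr P p) a b := by
    intro a b
    constructor
    · intro h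
      by_contra hn
      have h1 := gram_diff hP hp2 hN a b hn
      rw [hgram, if_pos h] at h1
      have : (1 : ℂ) = 0 := by linear_combination h1
      exact one_ne_zero this
    · intro h
      by_contra hn
      have h1 := gram_same hP hp2 hN a b h
      rw [hgram, if_neg hn] at h1
      have : (1 : ℂ) = 0 := by linear_combination -h1
      exact one_ne_zero this
  obtain ⟨b, hb⟩ := hcsurj i
  rw [← card_class hP hp2 hN b, Nat.card_eq_fintype_card, Fintype.card_subtype]
  congr 1
  apply Finset.filter_congr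
  intro a _
  rw [← hb, hcr]

open scoped Classical in
/-- Existence of the data, `e < p - 1`. -/
theorem exists_BD_of_lt {M : Ideal AlgInt} (hM : IsPModular p M) (hP : Nat.card P = p)
    (hp2 : ¬ p ^ 2 ∣ Nat.card G) (e : ℕ) (hN : Nat.card (Nn P) = e * Nat.card (Cn P))
    (he : e < p - 1) (hcount : Nat.card (principalBlock M G) = e + (p - 1) / e)
    [Fintype (IrrCharacter G)] [Fintype P] [Fintype (DD P p)] :
    Nonempty (BD P p e hP) := by
  let _ : Fintype (Cn P) := Fintype.ofFinite _
  let _ : Fintype (Nn P) := Fintype.ofFinite _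
  obtain ⟨εz, b, t, D₀, z, w, ν, c, hε, hte, hsq, hone, hdeg, hcong, hcong0, hdvd, hpos, hνinj, hcsurj,
    hνdeg, hνz, hνw, hww, hinner⟩ := excX hP hp2 e hN he (dichotomy hP hp2)
  have hεne : εz ≠ 0 := by rcases hε with h | h <;> rw [h] <;> norm_num
  have he0 : 0 < e := by
    have hpos' : 0 < Nat.card (Nn P) := Nat.card_pos
    rcases Nat.eq_zero_or_pos e with h0 | h0
    · rw [h0, zero_mul] at hN
      omega
    · exact h0
  have hp1 : 2 ≤ p := hp.out.two_le
  have ht0 : 0 < t := by
    rcases Nat.eq_zero_or_pos t with h0 | h0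
    · rw [h0, zero_mul] at hte
      omega
    · exact h0
  have ht2 : 2 ≤ t := by
    by_contra hlt
    have h1 : t = 1 := by omega
    rw [h1, one_mul] at hte
    omega
  have hdiv : (p - 1) / e = t := by
    rw [← hte]
    exact Nat.mul_div_cancel _ he0
  rw [hdiv] at hcount
  -- the block
  let S₀ : Finset (IrrCharacter G) := Finset.univ.filter (fun j => z j ≠ 0)
  have hνS : ∀ i, ν i ∉ S₀ := by
    intro i hi
    exact (Finset.mem_filter.mp hi).2 (hνz i)
  have hrange : ∀ j, z j ≠ 0 → j ∉ Set.range ν := by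
    rintro j hj ⟨i, rfl⟩
    exact hj (hνz i)
  have hblock : ∀ j : IrrCharacter G, j ∈ principalBlock M G ↔ j ∈ S₀ ∨ j ∈ Set.range ν := by
    intro j
    rw [mem_principal_iff hM hP hp2]
    constructor
    · rintro ⟨d, hd⟩
      by_contra hcon
      push Not at hcon
      obtain ⟨h1, h2⟩ := hcon
      apply hd
      rw [hinner d j, hww j h2]
      have h3 : z j = 0 := by
        by_contra h4
        exact h1 (Finset.mem_filter.mpr ⟨Finset.mem_univ _, h4⟩)
      have h4 : ν (c d) ≠ j := fun h => h2 ⟨_, h⟩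
      simp [h3, h4]
    · rintro (h | ⟨i, rfl⟩)
      · have h1 := (Finset.mem_filter.mp h).2
        obtain ⟨i⟩ : Nonempty (Fin t) := ⟨⟨0, ht0⟩⟩
        obtain ⟨d, -⟩ := hcsurj i
        refine ⟨d, ?_⟩
        rw [hinner d j, hww j (hrange j h1)]
        have h4 : ν (c d) ≠ j := fun h => hrange j h1 ⟨_, h⟩
        simp only [h4, if_false, mul_zero, add_zero]
        exact_mod_cast h1
      · -- a member of the exceptional family
        obtain ⟨i', hi'⟩ : ∃ i' : Fin t, i' ≠ i := by
          by_cases h0 : i = ⟨0, ht0⟩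
          · refine ⟨⟨1, by omega⟩, ?_⟩
            rw [h0]
            simp [Fin.ext_iff]
          · exact ⟨⟨0, ht0⟩, fun h => h0 h.symm⟩
        obtain ⟨d, hd⟩ := hcsurj i
        obtain ⟨d', hd'⟩ := hcsurj i'
        by_cases hb0 : b = 0
        · refine ⟨d, ?_⟩
          rw [hinner d, hνw, hd, if_pos rfl, hb0]
          simp only [zero_add, mul_one]
          exact_mod_cast hεne
        · refine ⟨d', ?_⟩
          rw [hinner d', hνw, hd', if_neg (fun h => hi' (hνinj h))]
          simp only [mul_zero, add_zero]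
          exact_mod_cast hb0
  have hdisj : Disjoint S₀ (Finset.univ.image ν) := by
    rw [Finset.disjoint_right]
    intro j hj
    obtain ⟨i, -, rfl⟩ := Finset.mem_image.mp hj
    exact hνS i
  have hcard2 : (S₀ ∪ Finset.univ.image ν).card = e + t := by
    rw [← hcount, Nat.card_eq_fintype_card, Fintype.card_ofFinset]
    apply congrArg
    ext j
    simp only [Finset.mem_union, Finset.mem_image, Finset.mem_univ, true_and, Finset.mem_filter]
    rw [hblock]
    simp only [Set.mem_range]
  rw [Finset.card_union_of_disjoint hdisj, Finset.card_image_of_injective _ hνinj, Finset.card_univ,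
    Fintype.card_fin] at hcard2
  have hS₀card : S₀.card = e := by omega
  -- the squares
  have hsum : (S₀.card : ℤ) ≤ ∑ j, z j ^ 2 := by
    have h1 : ∑ j, z j ^ 2 = ∑ j ∈ S₀, z j ^ 2 := by
      symm
      apply Finset.sum_subset (Finset.subset_univ _)
      intro j _ hj
      have h2 : z j = 0 := by
        by_contra h3
        exact hj (Finset.mem_filter.mpr ⟨Finset.mem_univ _, h3⟩)
      rw [h2]
      norm_num
    rw [h1, ← nsmul_one (S₀.card), nsmul_eq_mul, mul_one]
    have h2 := Finset.card_nsmul_le_sum S₀ (fun j => z j ^ 2) (1 : ℤ) (fun j hj => by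
      have h3 := (Finset.mem_filter.mp hj).2
      have h4 : 0 < z j ^ 2 := by positivity
      omega)
    simpa using h2
  rw [hS₀card] at hsum
  -- the cases
  have hbnd : 2 * εz * b + t * b ^ 2 ≤ 0 := by linarith
  have hcases : b = 0 ∨ (t = 2 ∧ b = -εz) := by
    by_cases hb0 : b = 0
    · exact Or.inl hb0
    · right
      have htZ : (2 : ℤ) ≤ t := by exact_mod_cast ht2
      have hb2 : 1 ≤ b ^ 2 := by
        have : 0 < b ^ 2 := by positivity
        omega
      have hε2 : εz ^ 2 = 1 := by rcases hε with h | h <;> rw [h] <;> norm_num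
      -- `(b + ε)² ≤ 0` or so
      have h1 : (t - 2 : ℤ) * b ^ 2 + 2 * (b + εz) * b ≤ 0 := by linarith
      have h3 : (b + εz) * b ≥ 0 := by
        rcases hε with h | h <;> rw [h] <;> nlinarith
      have h4 : (t - 2 : ℤ) * b ^ 2 ≥ 0 := by
        apply mul_nonneg <;> [linarith; positivity]
      have h5 : (t - 2 : ℤ) * b ^ 2 = 0 := by linarith
      have h6 : (t : ℤ) - 2 = 0 := by
        rcases mul_eq_zero.mp h5 with h7 | h7
        · exact h7
        · exact absurd (pow_eq_zero_iff (two_ne_zero) |>.mp h7) hb0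
      have h7 : (b + εz) * b = 0 := by linarith
      refine ⟨by omega, ?_⟩
      rcases mul_eq_zero.mp h7 with h8 | h8
      · linarith
      · exact absurd h8 hb0
  have hAk' := hAk_of hM hP hp2 (P := P)
  -- in both cases `∑ z² = e`
  have hsqe : ∑ j, z j ^ 2 = e := by
    rcases hcases with h0 | ⟨h1, h2⟩
    · rw [h0] at hsq
      linarith
    · rw [h1, h2] at hsq
      have h4 : 2 * εz * (-εz) + ((2 : ℕ) : ℤ) * (-εz) ^ 2 = 0 := by
        push_cast
        ring
      linarith
  -- the values of `z`
  have hzval : ∀ j, z j = 0 ∨ z j = 1 ∨ z j = -1 := by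
    intro j
    by_contra hcon
    push Not at hcon
    obtain ⟨h0, h1, h2⟩ := hcon
    have hj : j ∈ S₀ := Finset.mem_filter.mpr ⟨Finset.mem_univ _, h0⟩
    have h3 : 2 ≤ z j ^ 2 := by
      have h4 : z j ≤ -2 ∨ 2 ≤ z j := by omega
      rcases h4 with h4 | h4 <;> nlinarith
    have h4 : ∑ i, z i ^ 2 = ∑ i ∈ S₀, z i ^ 2 := by
      symm
      apply Finset.sum_subset (Finset.subset_univ _)
      intro i _ hi
      have h5 : z i = 0 := by
        by_contra h6
        exact hi (Finset.mem_filter.mpr ⟨Finset.mem_univ _, h6⟩)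
      rw [h5]
      norm_num
    have h5 : ∑ i ∈ S₀, (1 : ℤ) < ∑ i ∈ S₀, z i ^ 2 := by
      apply Finset.sum_lt_sum
      · intro i hi
        have h6 := (Finset.mem_filter.mp hi).2
        have : 0 < z i ^ 2 := by positivity
        omega
      · exact ⟨j, hj, by omega⟩
    rw [Finset.sum_const, hS₀card, ← h4, hsqe] at h5
    simp at h5
  rcases hcases with h0 | ⟨h1, h2⟩
  · -- `b = 0`
    have hwz : ∀ j, w j = z j := by
      intro j
      by_cases hj : j ∈ Set.range ν
      · obtain ⟨i, rfl⟩ := hj
        rw [hνw, hνz, h0]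
      · exact hww j hj
    have hinner' : ∀ (d : DD P p) (j : IrrCharacter G), classInner (Th P d.1) (j : G → ℂ) =
        ((z j + εz * (if ν (c d) = j then 1 else 0) : ℤ) : ℂ) := by
      intro d j
      rw [hinner, hwz]
    exact ⟨{ ε := εz, t := t, D₀ := D₀, z := z, ν := ν, c := c, hε := hε, hte := hte, hz := hzval,
             hzone := hone, hcard := hS₀card, ht1 := fun h => by omega, hνinj := hνinj, hcsurj := hcsurj, hνdeg := hνdeg,
             hνz := hνz, hinner := hinner',
             hfib := fib_of_inner εz hε hP hp2 e hN z ν c hνinj hνz hsqe hinner' hcsurj,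
             hAk := hAk' }⟩
  · -- `t = 2`, `b = -ε`: interchange the two exceptional characters
    subst h1
    subst h2
    let c' : DD P p → Fin 2 := fun d => Fin.rev (c d)
    have hcsurj' : Function.Surjective c' := Fin.rev_surjective.comp hcsurj
    have hinner' : ∀ (d : DD P p) (j : IrrCharacter G), classInner (Th P d.1) (j : G → ℂ) =
        ((z j + (-εz) * (if ν (c' d) = j then 1 else 0) : ℤ) : ℂ) := by
      intro d j
      rw [hinner]
      congr 1
      by_cases hj : j ∈ Set.range ν
      · obtain ⟨i, rfl⟩ := hj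
        rw [hνw, hνz]
        by_cases hi : c d = i
        · have h1 : ν (c' d) ≠ ν i := by
            intro h
            have h2 := hνinj h
            simp only [c', hi] at h2
            revert h2
            generalize i = i'
            fin_cases i' <;> simp
          rw [if_pos (congrArg ν hi), if_neg h1]
          ring
        · have h1 : ν (c' d) = ν i := by
            congr 1
            simp only [c']
            revert hi
            generalize c d = a
            generalize i = i'
            fin_cases a <;> fin_cases i' <;> simp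
          rw [if_neg (fun h => hi (hνinj h)), if_pos h1]
          ring
      · have h1 : ν (c d) ≠ j := fun h => hj ⟨_, h⟩
        have h2 : ν (c' d) ≠ j := fun h => hj ⟨_, h⟩
        rw [if_neg h1, if_neg h2, hww j hj]
        ring
    have hε' : -εz = 1 ∨ -εz = -1 := by
      rcases hε with h | h
      · right; rw [h]
      · left; rw [h]; norm_num
    exact ⟨{ ε := -εz, t := 2, D₀ := D₀, z := z, ν := ν, c := c', hε := hε', hte := hte, hz := hzval,
             hzone := hone, hcard := hS₀card, ht1 := fun h => by omega, hνinj := hνinj, hcsurj := hcsurj', hνdeg := hνdeg,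
             hνz := hνz, hinner := hinner',
             hfib := fib_of_inner (-εz) hε' hP hp2 e hN z ν c' hνinj hνz hsqe hinner' hcsurj',
             hAk := hAk' }⟩

open scoped Classical in
/-- Existence of the data, `e = p - 1`. -/
theorem exists_BD_of_eq {M : Ideal AlgInt} (hM : IsPModular p M) (hP : Nat.card P = p)
    (hp2 : ¬ p ^ 2 ∣ Nat.card G) (e : ℕ) (hN : Nat.card (Nn P) = e * Nat.card (Cn P))
    (he : e = p - 1) (hodd : p ≠ 2) (hcount : Nat.card (principalBlock M G) = e + (p - 1) / e)
    [Fintype (IrrCharacter G)] [Fintype P] [Fintype (DD P p)] :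
    Nonempty (BD P p e hP) := by
  classical
  let _ : Fintype (Cn P) := Fintype.ofFinite _
  let _ : Fintype (Nn P) := Fintype.ofFinite _
  have hp1 : 3 ≤ p := by
    have := hp.out.two_le
    omega
  have he0 : 0 < e := by omega
  have hcardDD : Fintype.card (DD P p) = e := by
    rw [← Nat.card_eq_fintype_card, card_DD hP hp2, he]
  -- all members of `DD` are related
  have hrel : ∀ a b : DD P p, (rr P p) a b := by
    intro a b
    have h1 := card_class hP hp2 hN b
    rw [Nat.card_eq_fintype_card, Fintype.card_subtype] at h1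
    have h2 : Finset.univ.filter (fun a => (rr P p) a b) = Finset.univ := by
      apply Finset.eq_univ_of_card
      rw [hcardDD]
      convert h1
    have h3 := Finset.mem_univ a
    rw [← h2] at h3
    exact (Finset.mem_filter.mp h3).2
  obtain ⟨d₀⟩ : Nonempty (DD P p) := by
    rw [← Fintype.card_pos_iff, hcardDD]
    exact he0
  have hall : ∀ d : DD P p, Th P d.1 = Th P d₀.1 := by
    intro d
    have h0 : classInner (Th P d.1 - Th P d₀.1) (Th P d.1 - Th P d₀.1) = 0 := by
      rw [classInner_sub_left, classInner_sub_right, classInner_sub_right,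
        gram_same hP hp2 hN _ _ (hrel _ _), gram_same hP hp2 hN _ _ (hrel _ _),
        gram_same hP hp2 hN _ _ (hrel _ _), gram_same hP hp2 hN _ _ (hrel _ _)]
      ring
    rw [classInner_self_eq_zero_iff] at h0
    exact sub_eq_zero.mp h0
  set Θ := Th P d₀.1 with hΘ
  obtain ⟨zz, hzz⟩ : ∃ zz : IrrCharacter G → ℤ, Θ = ∑ j, zz j • (j : G → ℂ) :=
    Cfsg.Agent.Lib.CharX.Isometry.exists_int_combination (isGen_Th (P := P) d₀.1)
  have hco : ∀ j : IrrCharacter G, classInner Θ (j : G → ℂ) = (zz j : ℂ) := by
    intro j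
    rw [hzz]
    exact classInner_of_int_combination zz j
  have hnorm : ∑ j, zz j ^ 2 = p := by
    have h1 : classInner Θ Θ = ((∑ j, zz j ^ 2 : ℤ) : ℂ) := by
      rw [hzz]
      exact classInner_self_of_int_combination zz
    rw [gram_same hP hp2 hN _ _ (hrel _ _), he] at h1
    have h2 : ((p - 1 : ℕ) : ℂ) + 1 = ((p : ℤ) : ℂ) := by
      rw [Nat.cast_sub (by omega)]
      simp
    rw [h2] at h1
    exact_mod_cast h1.symm
  have hone : zz (oneIrr G) = -1 := by
    have h1 := hco (oneIrr G)
    have h2 : classInner Θ ((oneIrr G : IrrCharacter G) : G → ℂ) = -1 :=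
      classInner_Th_one d₀.2.2
    rw [h2] at h1
    have h3 : ((-1 : ℤ) : ℂ) = (zz (oneIrr G) : ℂ) := by
      rw [← h1]
      simp
    exact_mod_cast h3.symm
  -- the block
  let S₀ : Finset (IrrCharacter G) := Finset.univ.filter (fun j => zz j ≠ 0)
  have hblock : ∀ j : IrrCharacter G, j ∈ principalBlock M G ↔ j ∈ S₀ := by
    intro j
    rw [mem_principal_iff hM hP hp2]
    constructor
    · rintro ⟨d, hd⟩
      rw [hall d, hco] at hd
      refine Finset.mem_filter.mpr ⟨Finset.mem_univ _, ?_⟩
      exact_mod_cast hd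
    · intro h
      refine ⟨d₀, ?_⟩
      rw [hco]
      exact_mod_cast (Finset.mem_filter.mp h).2
  have hS₀card : S₀.card = p := by
    have h1 : (p - 1) / e = 1 := by
      rw [← he]
      exact Nat.div_self he0
    rw [h1, he] at hcount
    have h2 : S₀.card = Nat.card (principalBlock M G) := by
      rw [Nat.card_eq_fintype_card, Fintype.card_ofFinset]
      apply congrArg
      ext j
      simp only [Finset.mem_filter, Finset.mem_univ, true_and]
      rw [hblock]
    rw [h2, hcount]
    omega
  have hsumS : ∑ j, zz j ^ 2 = ∑ j ∈ S₀, zz j ^ 2 := by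
    symm
    apply Finset.sum_subset (Finset.subset_univ _)
    intro i _ hi
    have h5 : zz i = 0 := by
      by_contra h6
      exact hi (Finset.mem_filter.mpr ⟨Finset.mem_univ _, h6⟩)
    rw [h5]
    norm_num
  have hzval : ∀ j, zz j = 0 ∨ zz j = 1 ∨ zz j = -1 := by
    intro j
    by_contra hcon
    push Not at hcon
    obtain ⟨h0, h1, h2⟩ := hcon
    have hj : j ∈ S₀ := Finset.mem_filter.mpr ⟨Finset.mem_univ _, h0⟩
    have h3 : 2 ≤ zz j ^ 2 := by
      have h4 : zz j ≤ -2 ∨ 2 ≤ zz j := by omega
      rcases h4 with h4 | h4 <;> nlinarith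
    have h5 : ∑ i ∈ S₀, (1 : ℤ) < ∑ i ∈ S₀, zz i ^ 2 := by
      apply Finset.sum_lt_sum
      · intro i hi
        have h6 := (Finset.mem_filter.mp hi).2
        have : 0 < zz i ^ 2 := by positivity
        omega
      · exact ⟨j, hj, by omega⟩
    rw [Finset.sum_const, hS₀card, ← hsumS, hnorm] at h5
    simp at h5
  -- degrees
  have hdeg : ∑ j, zz j * (charDegree (j : G → ℂ) : ℤ) = 0 := by
    have h1 : Θ 1 = 0 := Th_one _
    rw [hzz, int_combination_one] at h1
    exact_mod_cast h1
  -- another member with coefficient `-1`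
  have hex : ∃ j₀, j₀ ≠ oneIrr G ∧ zz j₀ = -1 := by
    by_contra hcon
    push Not at hcon
    have hone' : oneIrr G ∈ S₀ := Finset.mem_filter.mpr ⟨Finset.mem_univ _, by rw [hone]; norm_num⟩
    have h1 : ∑ j, zz j * (charDegree (j : G → ℂ) : ℤ) =
        ∑ j ∈ S₀, zz j * (charDegree (j : G → ℂ) : ℤ) := by
      symm
      apply Finset.sum_subset (Finset.subset_univ _)
      intro i _ hi
      have h5 : zz i = 0 := by
        by_contra h6
        exact hi (Finset.mem_filter.mpr ⟨Finset.mem_univ _, h6⟩)
      rw [h5, zero_mul]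
    have h2 := Finset.add_sum_erase S₀ (fun j => zz j * (charDegree (j : G → ℂ) : ℤ)) hone'
    have h3 : charDegree ((oneIrr G : IrrCharacter G) : G → ℂ) = 1 :=
      charDegree_eq_of_eq_natCast (by simp [oneIrr])
    have h4 : ∑ j ∈ S₀.erase (oneIrr G), (1 : ℤ) ≤
        ∑ j ∈ S₀.erase (oneIrr G), zz j * (charDegree (j : G → ℂ) : ℤ) := by
      apply Finset.sum_le_sum
      intro j hj
      obtain ⟨h5, h6⟩ := Finset.mem_erase.mp hj
      have h7 := (Finset.mem_filter.mp h6).2
      have h8 : zz j = 1 := by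
        rcases hzval j with h | h | h
        · exact absurd h h7
        · exact h
        · exact absurd h (hcon j h5)
      rw [h8, one_mul]
      have : 0 < charDegree (j : G → ℂ) := charDegree_pos j.2
      omega
    rw [Finset.sum_const, Finset.card_erase_of_mem hone', hS₀card] at h4
    simp only [nsmul_eq_mul, mul_one] at h4
    rw [← h1, hdeg, hone, h3] at h2
    have h5 : ((p - 1 : ℕ) : ℤ) = (p : ℤ) - 1 := by
      rw [Nat.cast_sub (by omega)]
      simp
    rw [h5] at h4
    have h6 : (3 : ℤ) ≤ p := by exact_mod_cast hp1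
    simp at h2
    linarith
  obtain ⟨j₀, hj₀1, hj₀⟩ := hex
  let z : IrrCharacter G → ℤ := fun j => if j = j₀ then 0 else zz j
  have hz0 : z j₀ = 0 := by simp [z]
  have hzz' : ∀ j, j ≠ j₀ → z j = zz j := by
    intro j hj
    simp [z, hj]
  have hfilter : Finset.univ.filter (fun j => z j ≠ 0) = S₀.erase j₀ := by
    ext j
    simp only [Finset.mem_filter, Finset.mem_univ, true_and, Finset.mem_erase, S₀]
    by_cases hj : j = j₀
    · subst hj
      simp [hz0]
    · simp [hj, hzz']
  refine ⟨{ ε := -1, t := 1, D₀ := charDegree (j₀ : G → ℂ), z := z, ν := fun _ => j₀, c := fun _ => 0,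
            hε := Or.inr rfl, hte := by omega, hz := ?_, hzone := ?_, hcard := ?_, ht1 := fun _ => rfl,
            hνinj := fun a b _ => Subsingleton.elim a b, hcsurj := fun a => ⟨d₀, Subsingleton.elim _ a⟩,
            hνdeg := fun _ => rfl, hνz := fun _ => hz0, hinner := ?_, hfib := ?_,
            hAk := hAk_of hM hP hp2 }⟩
  · intro j
    by_cases hj : j = j₀
    · subst hj
      exact Or.inl hz0
    · rw [hzz' j hj]
      exact hzval j
  · rw [hzz' _ (Ne.symm hj₀1), hone]
  · rw [hfilter, Finset.card_erase_of_mem (Finset.mem_filter.mpr ⟨Finset.mem_univ _, by rw [hj₀]; norm_num⟩),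
      hS₀card, he]
  · intro d j
    rw [hall d, hco]
    congr 1
    by_cases hj : j = j₀
    · subst hj
      rw [if_pos rfl, hz0, hj₀]
      norm_num
    · rw [if_neg (Ne.symm hj), hzz' j hj]
      ring
  · intro i
    have h1 : Finset.univ.filter (fun d : DD P p => (0 : Fin 1) = i) = Finset.univ := by
      apply Finset.filter_true_of_mem
      intro d _
      exact Subsingleton.elim _ _
    rw [h1, Finset.card_univ, hcardDD]

/-- Existence of the data. -/
theorem exists_BD {M : Ideal AlgInt} (hM : IsPModular p M) (hP : Nat.card P = p)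
    (hp2 : ¬ p ^ 2 ∣ Nat.card G) (e : ℕ) (hN : Nat.card (Nn P) = e * Nat.card (Cn P))
    (hodd : p ≠ 2) (hcount : Nat.card (principalBlock M G) = e + (p - 1) / e)
    [Fintype (IrrCharacter G)] [Fintype P] [Fintype (DD P p)] :
    Nonempty (BD P p e hP) := by
  classical
  let _ : Fintype (Cn P) := Fintype.ofFinite _
  let _ : Fintype (Nn P) := Fintype.ofFinite _
  have hle : e ≤ p - 1 := by
    have h1 : Nonempty (DD P p) := by
      rw [← Fintype.card_pos_iff, ← Nat.card_eq_fintype_card, card_DD hP hp2]
      have := hp.out.two_le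
      omega
    obtain ⟨b⟩ := h1
    have h1 := card_class hP hp2 hN b
    have h2 : Nat.card {a : DD P p // (rr P p) a b} ≤ Nat.card (DD P p) :=
      Nat.card_le_card_of_injective _ Subtype.val_injective
    rw [h1, card_DD hP hp2] at h2
    exact h2
  rcases lt_or_eq_of_le hle with h | h
  · exact exists_BD_of_lt hM hP hp2 e hN h hcount
  · exact exists_BD_of_eq hM hP hp2 e hN h hodd hcount

end Cfsg.Agent.Lib.BrauerP.Data
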