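import Cfsg.Agent.Lib.Small.ExcPerm
import Cfsg.Agent.Lib.ExcP.BlockHA
import Cfsg.Agent.Lib.Kazarin.Block

/-!
# Fourier inversion on a subgroup of prime order

The values of a function on `P \ {1}` in terms of the local inner products `Ak`.
-/

set_option autoImplicit false
set_option linter.unusedSectionVars false

namespace Cfsg.Agent.Lib.BrauerP.Fourier

open Cfsg Module
open Cfsg.Agent.Lib.Char.Basic Cfsg.Agent.Lib.Char.Ortho Cfsg.Agent.Lib.Char.Complete
open Cfsg.Agent.Lib.Char.Degree Cfsg.Agent.Lib.Char.Induced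
open Cfsg.Agent.Lib.ExcP.Gram Cfsg.Agent.Lib.ExcP.Dual Cfsg.Agent.Lib.ExcP.Core
open Cfsg.Agent.Lib.ExcP.Inst
open scoped ComplexConjugate

universe u

variable {G : Type u} [Group G] {p : ℕ} [hp : Fact p.Prime] {P : Subgroup G}

/-- The value of a member of `DD` at an element of `P`. -/
noncomputable def dv [Finite G] (hP : Nat.card P = p) (d : DD P p) (u : P) : ℂ :=
  ((d.1 ⟨u, le_centralizer hP u.2⟩ : ℂˣ) : ℂ)

theorem dv_mul [Finite G] (hP : Nat.card P = p) (d : DD P p) (u v : P) :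
    dv hP d (u * v) = dv hP d u * dv hP d v := by
  unfold dv
  have : (⟨((u * v : P) : G), le_centralizer hP (u * v).2⟩ : Cn P) =
      ⟨u, le_centralizer hP u.2⟩ * ⟨v, le_centralizer hP v.2⟩ := rfl
  rw [this, map_mul, Units.val_mul]

theorem dv_one [Finite G] (hP : Nat.card P = p) (d : DD P p) : dv hP d 1 = 1 := by
  unfold dv
  have : (⟨((1 : P) : G), le_centralizer hP (1 : P).2⟩ : Cn P) = 1 := rfl
  rw [this, map_one, Units.val_one]

theorem dv_norm [Finite G] (hP : Nat.card P = p) (d : DD P p) (u : P) : ‖dv hP d u‖ = 1 := by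
  have h1 : (dv hP d u) ^ p = 1 := by
    unfold dv
    rw [← Units.val_pow_eq_pow_val, d.2.1, Units.val_one]
  exact Complex.norm_eq_one_of_pow_eq_one h1 hp.out.ne_zero

theorem dv_inv [Finite G] (hP : Nat.card P = p) (d : DD P p) (u : P) :
    dv hP d u⁻¹ = conj (dv hP d u) := by
  have h1 : dv hP d u⁻¹ * dv hP d u = 1 := by
    rw [← dv_mul, inv_mul_cancel, dv_one]
  have h2 : dv hP d u ≠ 0 := by
    intro h
    have := dv_norm hP d u
    rw [h] at this
    simp at this
  have h3 := eq_inv_of_mul_eq_one_left h1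
  rw [h3, Complex.inv_eq_conj (dv_norm hP d u)]

theorem sum_dv_sub [Finite G] (hP : Nat.card P = p) (hp2 : ¬ p ^ 2 ∣ Nat.card G) [Fintype (DD P p)]
    [Fintype P] (u : P) [Decidable (u = 1)] :
    ∑ d : DD P p, (dv hP d u - 1) = if u = 1 then 0 else -(p : ℂ) := by
  have := sum_DD hP hp2 u
  unfold dv
  rw [this]
  split_ifs
  · ring
  · rfl

theorem sum_dv [Finite G] (hP : Nat.card P = p) (hp2 : ¬ p ^ 2 ∣ Nat.card G) [Fintype (DD P p)]
    [Fintype P] {u : P} (hu : u ≠ 1) : ∑ d : DD P p, dv hP d u = -1 := by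
  classical
  have h1 := sum_dv_sub hP hp2 u
  rw [if_neg hu, Finset.sum_sub_distrib, Finset.sum_const, Finset.card_univ, ← Nat.card_eq_fintype_card,
    card_DD hP hp2, nsmul_eq_mul, Nat.cast_sub hp.out.one_lt.le] at h1
  simp only [Nat.cast_one, mul_one] at h1
  linear_combination h1

/-- Fourier inversion. -/
theorem fourier [Finite G] (hP : Nat.card P = p) (hp2 : ¬ p ^ 2 ∣ Nat.card G) [Fintype (DD P p)]
    [Fintype P] (j : G → ℂ) {u : P} (hu : u ≠ 1) :
    j u = ∑ d : DD P p, conj (Ak hP d.1 j) * dv hP d u := by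
  classical
  have hp0 : (p : ℂ) ≠ 0 := by
    exact_mod_cast hp.out.ne_zero
  have h1 : ∀ d : DD P p, conj (Ak hP d.1 j) * dv hP d u =
      (p : ℂ)⁻¹ * ∑ v : P, j v * ((dv hP d (v⁻¹ * u) - 1) - (dv hP d u - 1)) := by
    intro d
    unfold Ak
    rw [map_mul, map_inv₀, map_natCast, map_sum, mul_assoc, Finset.sum_mul]
    congr 1
    refine Finset.sum_congr rfl fun v _ => ?_
    rw [map_mul, map_sub, Complex.conj_conj, map_one, dv_mul, dv_inv]
    have : ((d.1 ⟨v, le_centralizer hP v.2⟩ : ℂˣ) : ℂ) = dv hP d v := rfl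
    rw [this]
    ring
  simp only [h1]
  rw [← Finset.mul_sum, Finset.sum_comm]
  have h3 : ∀ v : P, ∑ d : DD P p, j v * ((dv hP d (v⁻¹ * u) - 1) - (dv hP d u - 1)) =
      j v * ((∑ d : DD P p, (dv hP d (v⁻¹ * u) - 1)) - ∑ d : DD P p, (dv hP d u - 1)) := by
    intro v
    rw [← Finset.mul_sum, Finset.sum_sub_distrib]
  simp only [h3]
  have h2 : ∀ v : P, j v * ((∑ d : DD P p, (dv hP d (v⁻¹ * u) - 1)) - ∑ d : DD P p, (dv hP d u - 1)) =
      if v = u then (p : ℂ) * j u else 0 := by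
    intro v
    rw [sum_dv_sub hP hp2, sum_dv_sub hP hp2, if_neg hu]
    by_cases hv : v = u
    · subst hv
      simp
      ring
    · rw [if_neg hv, if_neg]
      · ring
      · intro h
        exact hv (inv_mul_eq_one.mp h)
  simp only [h2]
  rw [Finset.sum_ite_eq' Finset.univ u, if_pos (Finset.mem_univ _)]
  field_simp

end Cfsg.Agent.Lib.BrauerP.Fourier
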