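import Cfsg.Agent.Lib.ExcP.Gram

/-!
# Complements in the normalizer of a self-centralizing subgroup of prime order
-/

set_option autoImplicit false
set_option linter.unusedSectionVars false

namespace Cfsg.Agent.Lib.BrauerP.Frob

open Cfsg.Agent.Lib.ExcP.Gram

universe u

variable {G : Type u} [Group G] [Finite G] {p e : ℕ} [hp : Fact p.Prime] {P : Subgroup G}

/-- A self-centralizing subgroup of order `p`, with normalizer of order `p * e`. -/
structure SC (P : Subgroup G) (p e : ℕ) : Prop where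
  card : Nat.card P = p
  self : ∀ x ∈ P, x ≠ 1 → ∀ y : G, y * x = x * y → y ∈ P
  cardN : Nat.card (Nn P) = p * e

/-- A complement to `P` in its normalizer. -/
structure IsC (P : Subgroup G) (e : ℕ) (E : Subgroup G) : Prop where
  le : E ≤ Nn P
  card : Nat.card E = e
  inf : ∀ x ∈ E, x ∈ P → x = 1

namespace SC

variable (S : SC P p e)

include S

theorem exists_ne_one : ∃ x ∈ P, x ≠ 1 := by
  have h : Nontrivial P := by
    apply Finite.one_lt_card_iff_nontrivial.mp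
    rw [S.card]
    exact hp.out.one_lt
  obtain ⟨x, hx⟩ := exists_ne (1 : P)
  exact ⟨x, x.2, fun h => hx (Subtype.ext h)⟩

theorem P_le_N : P ≤ Nn P := Subgroup.le_normalizer

/-- Conjugation on `P` is a power map. -/
theorem conj_pow {a : G} (ha : a ∈ Nn P) : ∃ r : ℤ, ∀ y ∈ P, a * y * a⁻¹ = y ^ r := by
  obtain ⟨x, hx, hx1⟩ := S.exists_ne_one
  have hz := eq_zpowers_of_mem S.card hx hx1
  have h1 : a * x * a⁻¹ ∈ P := (Subgroup.mem_normalizer_iff.mp ha x).mp hx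
  rw [hz] at h1
  obtain ⟨r, hr⟩ := Subgroup.mem_zpowers_iff.mp h1
  refine ⟨r, fun y hy => ?_⟩
  rw [hz] at hy
  obtain ⟨i, rfl⟩ := Subgroup.mem_zpowers_iff.mp hy
  rw [← conj_zpow, ← hr, ← zpow_mul, ← zpow_mul, mul_comm]

/-- The quotient of the normalizer by `P` is abelian. -/
theorem comm_mem {a b : G} (ha : a ∈ Nn P) (hb : b ∈ Nn P) : a * b * a⁻¹ * b⁻¹ ∈ P := by
  obtain ⟨x, hx, hx1⟩ := S.exists_ne_one
  obtain ⟨r, hr⟩ := S.conj_pow ha
  obtain ⟨s, hs⟩ := S.conj_pow hb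
  obtain ⟨r', hr'⟩ := S.conj_pow (Subgroup.inv_mem _ ha)
  obtain ⟨s', hs'⟩ := S.conj_pow (Subgroup.inv_mem _ hb)
  have hzp : ∀ {y : G}, y ∈ P → ∀ n : ℤ, y ^ n ∈ P := fun hy n => Subgroup.zpow_mem _ hy n
  have h1 : x ^ (r' * r) = x := by
    have h2 := hr' x hx
    have h3 := hr _ (hzp hx r')
    rw [zpow_mul, ← h3, ← h2]
    group
  have h2 : x ^ (s' * s) = x := by
    have h2 := hs' x hx
    have h3 := hs _ (hzp hx s')
    rw [zpow_mul, ← h3, ← h2]
    group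
  have hconj : (a * b * a⁻¹ * b⁻¹) * x * (a * b * a⁻¹ * b⁻¹)⁻¹ = x := by
    have e1 : b⁻¹ * x * b⁻¹⁻¹ = x ^ s' := hs' x hx
    have e2 : a⁻¹ * x ^ s' * a⁻¹⁻¹ = (x ^ s') ^ r' := hr' _ (hzp hx s')
    have e3 : b * (x ^ s') ^ r' * b⁻¹ = ((x ^ s') ^ r') ^ s := hs _ (hzp (hzp hx s') r')
    have e4 : a * ((x ^ s') ^ r') ^ s * a⁻¹ = (((x ^ s') ^ r') ^ s) ^ r :=
      hr _ (hzp (hzp (hzp hx s') r') s)
    have e5 : (a * b * a⁻¹ * b⁻¹) * x * (a * b * a⁻¹ * b⁻¹)⁻¹ =
        a * (b * (a⁻¹ * (b⁻¹ * x * b⁻¹⁻¹) * a⁻¹⁻¹) * b⁻¹) * a⁻¹ := by group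
    rw [e5, e1, e2, e3, e4, ← zpow_mul, ← zpow_mul, ← zpow_mul]
    have e6 : s' * (r' * (s * r)) = (r' * r) * (s' * s) := by ring
    rw [e6, zpow_mul, h1, h2]
  apply S.self x hx hx1
  calc (a * b * a⁻¹ * b⁻¹) * x = ((a * b * a⁻¹ * b⁻¹) * x * (a * b * a⁻¹ * b⁻¹)⁻¹) * (a * b * a⁻¹ * b⁻¹) := by
        group
    _ = x * (a * b * a⁻¹ * b⁻¹) := by rw [hconj]

/-- An element outside `P` does not commute with a non-identity element of `P`. -/
theorem not_comm {w y : G} (hw : w ∉ P) (hy : y ∈ P) (hy1 : y ≠ 1) : w * y ≠ y * w :=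
  fun h => hw (S.self y hy hy1 w h)

omit S in
theorem IsC.e_pos {E : Subgroup G} (hE : IsC P e E) : 0 < e := by
  rw [← hE.card]
  exact Nat.card_pos

end SC

namespace IsC

variable (S : SC P p e) {E E' : Subgroup G}

include S

theorem comm (hE : IsC P e E) {a b : G} (ha : a ∈ E) (hb : b ∈ E) : a * b = b * a := by
  have h1 := S.comm_mem (hE.le ha) (hE.le hb)
  have h2 : a * b * a⁻¹ * b⁻¹ ∈ E :=
    E.mul_mem (E.mul_mem (E.mul_mem ha hb) (E.inv_mem ha)) (E.inv_mem hb)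
  have h3 := hE.inf _ h2 h1
  calc a * b = (a * b * a⁻¹ * b⁻¹) * (b * a) := by group
    _ = b * a := by rw [h3, one_mul]

/-- Every element of the normalizer is a product. -/
theorem decomp (hE : IsC P e E) {n : G} (hn : n ∈ Nn P) : ∃ y ∈ P, ∃ v ∈ E, n = y * v := by
  let f : P × E → Nn P := fun a => ⟨a.1 * a.2, (Nn P).mul_mem (S.P_le_N a.1.2) (hE.le a.2.2)⟩
  have hinj : Function.Injective f := by
    rintro ⟨a, b⟩ ⟨c, d⟩ h
    have h1 : (a : G) * b = c * d := congrArg Subtype.val h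
    have h2 : (c : G)⁻¹ * a = d * (b : G)⁻¹ := by
      calc (c : G)⁻¹ * a = (c : G)⁻¹ * ((a : G) * b) * (b : G)⁻¹ := by group
        _ = (c : G)⁻¹ * (c * d) * (b : G)⁻¹ := by rw [h1]
        _ = d * (b : G)⁻¹ := by group
    have h3 : d * (b : G)⁻¹ = 1 := by
      apply hE.inf _ (E.mul_mem d.2 (E.inv_mem b.2))
      rw [← h2]
      exact P.mul_mem (P.inv_mem c.2) a.2
    have h4 : (d : G) = b := mul_inv_eq_one.mp h3
    have h5 : (c : G)⁻¹ * a = 1 := by rw [h2, h3]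
    have h6 : (a : G) = c := by
      have := mul_eq_one_iff_eq_inv'.mp h5
      simpa using this
    exact Prod.ext (Subtype.ext h6) (Subtype.ext h4.symm)
  have hbij : Function.Bijective f := by
    refine (Nat.bijective_iff_injective_and_card f).mpr ⟨hinj, ?_⟩
    rw [Nat.card_prod, S.card, hE.card, S.cardN]
  obtain ⟨⟨y, v⟩, h⟩ := hbij.2 ⟨n, hn⟩
  exact ⟨y, y.2, v, v.2, (congrArg Subtype.val h).symm⟩

/-- Two complements sharing a non-identity element are equal. -/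
theorem eq_of_common (hE : IsC P e E) (hE' : IsC P e E') {w : G} (hw : w ∈ E) (hw' : w ∈ E')
    (hw1 : w ≠ 1) : E = E' := by
  have hle : E ≤ E' := by
    intro u hu
    obtain ⟨y, hy, v, hv, rfl⟩ := hE'.decomp S (hE.le hu)
    by_cases hy1 : y = 1
    · rw [hy1, one_mul]
      exact hv
    exfalso
    have hwP : w ∉ P := fun h => hw1 (hE.inf w hw h)
    apply S.not_comm hwP hy hy1
    have h1 : w * (y * v) = (y * v) * w := hE.comm S hw hu
    have h2 : w * v = v * w := hE'.comm S hw' hv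
    have h3 : (w * y) * v = (y * w) * v := by
      calc (w * y) * v = (w * (y * v)) * (v⁻¹ * v) := by group
        _ = ((y * v) * w) * (v⁻¹ * v) := by rw [h1]
        _ = y * (v * w) := by group
        _ = y * (w * v) := by rw [h2]
        _ = (y * w) * v := by group
    exact mul_right_cancel h3
  apply Subgroup.eq_of_le_of_card_ge hle
  rw [hE.card, hE'.card]

/-- Every element of the normalizer outside `P` is conjugate, under `P`, into a complement. -/
theorem conj_into (hE : IsC P e E) {w : G} (hw : w ∈ Nn P) (hwP : w ∉ P) :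
    ∃ x ∈ P, ∃ u ∈ E, u ≠ 1 ∧ w = x * u * x⁻¹ := by
  obtain ⟨y, hy, u, hu, rfl⟩ := hE.decomp S hw
  have hu1 : u ≠ 1 := by
    rintro rfl
    apply hwP
    rwa [mul_one]
  have huP : u ∉ P := fun h => hu1 (hE.inf u hu h)
  have huN : u ∈ Nn P := hE.le hu
  have hmem : ∀ x : P, (x : G) * u * (x : G)⁻¹ * u⁻¹ ∈ P := by
    intro x
    have h1 : u * (x : G)⁻¹ * u⁻¹ ∈ P :=
      (Subgroup.mem_normalizer_iff.mp huN _).mp (P.inv_mem x.2)
    have h2 := P.mul_mem x.2 h1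
    have h3 : (x : G) * (u * (x : G)⁻¹ * u⁻¹) = (x : G) * u * (x : G)⁻¹ * u⁻¹ := by group
    rwa [h3] at h2
  let f : P → P := fun x => ⟨(x : G) * u * (x : G)⁻¹ * u⁻¹, hmem x⟩
  have hinj : Function.Injective f := by
    intro a b hab
    have h1 : (a : G) * u * (a : G)⁻¹ * u⁻¹ = (b : G) * u * (b : G)⁻¹ * u⁻¹ :=
      congrArg Subtype.val hab
    have h2 : (a : G) * u * (a : G)⁻¹ = (b : G) * u * (b : G)⁻¹ := mul_right_cancel h1
    by_contra hne
    have hne' : (b : G)⁻¹ * a ≠ 1 := by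
      intro h
      apply hne
      apply Subtype.ext
      have := mul_eq_one_iff_eq_inv'.mp h
      simpa using this
    apply S.not_comm huP (P.mul_mem (P.inv_mem b.2) a.2) hne'
    calc u * ((b : G)⁻¹ * a) = (b : G)⁻¹ * ((b : G) * u * (b : G)⁻¹) * a := by group
      _ = (b : G)⁻¹ * ((a : G) * u * (a : G)⁻¹) * a := by rw [h2]
      _ = (b : G)⁻¹ * a * u := by group
  have hsurj : Function.Surjective f := Finite.injective_iff_surjective.mp hinj
  obtain ⟨x, hx⟩ := hsurj ⟨y, hy⟩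
  have h1 : (x : G) * u * (x : G)⁻¹ * u⁻¹ = y := congrArg Subtype.val hx
  refine ⟨x, x.2, u, hu, hu1, ?_⟩
  rw [← h1]
  group

/-- A conjugate under the normalizer of a complement. -/
theorem conj (hE : IsC P e E) {x : G} (hx : x ∈ Nn P) :
    IsC P e (E.map (MulAut.conj x).toMonoidHom) := by
  refine ⟨?_, ?_, ?_⟩
  · rintro _ ⟨u, hu, rfl⟩
    exact (Nn P).mul_mem ((Nn P).mul_mem hx (hE.le hu)) ((Nn P).inv_mem hx)
  · rw [← hE.card]
    exact Nat.card_congr (Subgroup.equivMapOfInjective E _ (MulAut.conj x).injective).symm.toEquiv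
  · rintro _ ⟨u, hu, rfl⟩ h
    have h1 : x * u * x⁻¹ ∈ P := h
    have h2 := (Subgroup.mem_normalizer_iff.mp ((Nn P).inv_mem hx) _).mp h1
    have h3 : x⁻¹ * (x * u * x⁻¹) * x⁻¹⁻¹ = u := by group
    rw [h3] at h2
    have h4 := hE.inf u hu h2
    subst h4
    simp

/-- Complements are conjugate. -/
theorem exists_conj (hE : IsC P e E) (hE' : IsC P e E') (he : 2 ≤ e) :
    ∃ x ∈ P, E' = E.map (MulAut.conj x).toMonoidHom := by
  have h1 : Nontrivial E' := by
    apply Finite.one_lt_card_iff_nontrivial.mp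
    rw [hE'.card]
    omega
  obtain ⟨w, hw⟩ := exists_ne (1 : E')
  have hw1 : (w : G) ≠ 1 := fun h => hw (Subtype.ext h)
  have hwP : (w : G) ∉ P := fun h => hw1 (hE'.inf _ w.2 h)
  obtain ⟨x, hx, u, hu, hu1, hwu⟩ := hE.conj_into S (hE'.le w.2) hwP
  refine ⟨x, hx, ?_⟩
  refine hE'.eq_of_common S (hE.conj S (S.P_le_N hx)) w.2 ?_ hw1
  rw [hwu]
  exact ⟨u, hu, rfl⟩

/-- The normalizer of a complement within `N` is the complement. -/
theorem mem_of_normalizes (hE : IsC P e E) (he : 2 ≤ e) {u : G} (hu : u ∈ Nn P)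
    (hun : ∀ v ∈ E, u * v * u⁻¹ ∈ E) : u ∈ E := by
  obtain ⟨y, hy, v, hv, rfl⟩ := hE.decomp S hu
  have h1 : Nontrivial E := by
    apply Finite.one_lt_card_iff_nontrivial.mp
    rw [hE.card]
    omega
  obtain ⟨a, ha⟩ := exists_ne (1 : E)
  have ha1 : (a : G) ≠ 1 := fun h => ha (Subtype.ext h)
  have haP : (a : G) ∉ P := fun h => ha1 (hE.inf _ a.2 h)
  have hy1 : y = 1 := by
    by_contra hne
    -- `y` normalizes `E`
    have h2 : y * a * y⁻¹ ∈ E := by
      have h3 := hun (v⁻¹ * a * v) (E.mul_mem (E.mul_mem (E.inv_mem hv) a.2) hv)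
      have h4 : y * v * (v⁻¹ * a * v) * (y * v)⁻¹ = y * a * y⁻¹ := by group
      rwa [h4] at h3
    have h3 : y * a * y⁻¹ * (a : G)⁻¹ ∈ P := by
      have h4 : (a : G) * y⁻¹ * (a : G)⁻¹ ∈ P :=
        (Subgroup.mem_normalizer_iff.mp (hE.le a.2) _).mp (P.inv_mem hy)
      have h5 := P.mul_mem hy h4
      have h6 : y * ((a : G) * y⁻¹ * (a : G)⁻¹) = y * a * y⁻¹ * (a : G)⁻¹ := by group
      rwa [h6] at h5
    have h4 := hE.inf _ (E.mul_mem h2 (E.inv_mem a.2)) h3
    apply S.not_comm haP hy hne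
    have h5 : y * a * y⁻¹ = a := mul_inv_eq_one.mp h4
    calc (a : G) * y = (y * a * y⁻¹) * y := by rw [h5]
      _ = y * a := by group
  rw [hy1, one_mul]
  exact hv

end IsC

end Cfsg.Agent.Lib.BrauerP.Frob
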