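import Cfsg.Agent.Lib.BrauerP.StepC
import Cfsg.Agent.Lib.BrauerP.Frob

/-!
# The action of the normalizer on the Sylow subgroups
-/

set_option autoImplicit false
set_option linter.unusedSectionVars false

namespace Cfsg.Agent.Lib.BrauerP.Frob

open Cfsg Module MulAction
open Cfsg.Agent.Lib.Char.Basic Cfsg.Agent.Lib.Char.Ortho Cfsg.Agent.Lib.Char.Complete
open Cfsg.Agent.Lib.Char.Degree Cfsg.Agent.Lib.Char.Induced
open Cfsg.Agent.Lib.ExcP.Gram
open Cfsg.Agent.Lib.BrauerP.Data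
open scoped ComplexConjugate

universe u

variable {G : Type u} [Group G] [Fintype G] {p e : ℕ} [hp : Fact p.Prime] {P : Subgroup G}

/-- The stabilizer in `N` of a Sylow subgroup. -/
abbrev KK (P : Subgroup G) (Q : Sylow p G) : Subgroup G := Nn P ⊓ stabilizer G Q

variable (S : SC P p e) {Q₀ : Sylow p G} (hQ₀ : (Q₀ : Subgroup G) = P)

include S hQ₀

theorem KK_inf {Q : Sylow p G} (hQ : Q ≠ Q₀) {x : G} (hx : x ∈ KK P Q) (hxP : x ∈ P) : x = 1 := by
  by_contra hne
  exact hQ (fixed_unique S.card hQ₀ hxP hne hx.2)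

theorem card_KK_le {Q : Sylow p G} (hQ : Q ≠ Q₀) : Nat.card (KK P Q) ≤ e := by
  have hpp := hp.out.pos
  let f : KK P Q × P → Nn P := fun a => ⟨a.1 * a.2, (Nn P).mul_mem a.1.2.1 (S.P_le_N a.2.2)⟩
  have hinj : Function.Injective f := by
    rintro ⟨a, b⟩ ⟨c, d⟩ h
    have h1 : (a : G) * b = c * d := congrArg Subtype.val h
    have h2 : (c : G)⁻¹ * a = d * (b : G)⁻¹ := by
      calc (c : G)⁻¹ * a = (c : G)⁻¹ * ((a : G) * b) * (b : G)⁻¹ := by group
        _ = (c : G)⁻¹ * (c * d) * (b : G)⁻¹ := by rw [h1]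
        _ = d * (b : G)⁻¹ := by group
    have h3 : d * (b : G)⁻¹ = 1 := by
      apply KK_inf S hQ₀ hQ
      · rw [← h2]
        exact (KK P Q).mul_mem ((KK P Q).inv_mem c.2) a.2
      · exact P.mul_mem d.2 (P.inv_mem b.2)
    have h4 : (d : G) = b := mul_inv_eq_one.mp h3
    have h5 : (c : G)⁻¹ * a = 1 := by rw [h2, h3]
    have h6 : (a : G) = c := by
      have := mul_eq_one_iff_eq_inv'.mp h5
      simpa using this
    exact Prod.ext (Subtype.ext h6) (Subtype.ext h4.symm)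
  have h1 := Nat.card_le_card_of_injective f hinj
  rw [Nat.card_prod, S.card, S.cardN, mul_comm] at h1
  exact Nat.le_of_mul_le_mul_left h1 hpp

omit S in
theorem stabilizer_eq : stabilizer G Q₀ = Nn P := by
  subst hQ₀
  exact Sylow.stabilizer_eq_normalizer Q₀

omit S hQ₀ in
/-- The Burnside count, over the normalizer. -/
theorem sum_fixed_eq (H : Subgroup G) [Fintype H] [Fintype (Sylow p G)] :
    ∑ h : H, Nat.card (fixedBy (Sylow p G) (h : G)) =
      ∑ Q : Sylow p G, Nat.card (H ⊓ stabilizer G Q : Subgroup G) := by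
  classical
  have h1 : ∀ h : H, Nat.card (fixedBy (Sylow p G) (h : G)) =
      ∑ Q : Sylow p G, if (h : G) • Q = Q then 1 else 0 := by
    intro h
    rw [Finset.sum_boole, Nat.card_eq_fintype_card, Fintype.card_subtype]
    simp [mem_fixedBy]
  have h2 : ∀ Q : Sylow p G, Nat.card (H ⊓ stabilizer G Q : Subgroup G) =
      ∑ h : H, if (h : G) • Q = Q then 1 else 0 := by
    intro Q
    rw [Finset.sum_boole]
    simp only [Nat.cast_id]
    rw [Nat.card_eq_fintype_card, ← Fintype.card_subtype]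
    refine Fintype.card_congr ⟨fun x => ⟨⟨x.1, x.2.1⟩, x.2.2⟩, fun y => ⟨y.1.1, y.1.2, y.2⟩,
      fun x => rfl, fun y => rfl⟩
  simp only [h1, h2]
  exact Finset.sum_comm

/-- The relation between the rank and the stabilizers. -/
theorem sum_KK [Fintype (Sylow p G)] {k : ℕ} (hrank : classInner (piS G p) (piS G p) = (k : ℂ) + 1) :
    ∑ Q : Sylow p G, Nat.card (KK P Q) = p * e * (k + 1) := by
  classical
  let _ : Fintype (Nn P) := Fintype.ofFinite _
  have hst := stabilizer_eq (Q₀ := Q₀) hQ₀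
  have h1 : piS G p = indFun (Nn P) (fun _ => 1) := by
    funext g
    have := Cfsg.Agent.Lib.Char.PermChar.card_fixedBy_eq_indFun (Sylow p G) Q₀ g
    rw [hst] at this
    exact this
  have hcf : IsClassFunction G (piS G p) := isClassFunction_of_isCharacter isCharacter_piS
  have h2 : classInner (piS G p) (piS G p) =
      (Nat.card (Nn P) : ℂ)⁻¹ * ∑ h : Nn P, (Nat.card (fixedBy (Sylow p G) (h : G)) : ℂ) := by
    calc classInner (piS G p) (piS G p) = classInner (indFun (Nn P) (fun _ => 1)) (piS G p) := by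
          rw [← h1]
      _ = _ := by
          rw [classInner_indFun_left _ _ _ hcf, classInner_subgroup_eq]
          simp [piS]
  rw [hrank, S.cardN] at h2
  have hpe : 0 < p * e := by
    rw [← S.cardN]
    exact Nat.card_pos
  have hpe' : ((p * e : ℕ) : ℂ) ≠ 0 := by exact_mod_cast hpe.ne'
  have h3 : ((∑ h : Nn P, Nat.card (fixedBy (Sylow p G) (h : G)) : ℕ) : ℂ) =
      ((p * e * (k + 1) : ℕ) : ℂ) := by
    push_cast
    push_cast at hpe' h2
    rw [h2, ← mul_assoc, mul_inv_cancel₀ hpe', one_mul]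
  have h4 : ∑ h : Nn P, Nat.card (fixedBy (Sylow p G) (h : G)) = p * e * (k + 1) := by
    exact_mod_cast h3
  rw [sum_fixed_eq (Nn P)] at h4
  exact h4

/-- The same count, over `N`. -/
theorem sum_fixed_N [Fintype (Sylow p G)] [Fintype (Nn P)] {k : ℕ}
    (hrank : classInner (piS G p) (piS G p) = (k : ℂ) + 1) :
    ∑ h : Nn P, Nat.card (fixedBy (Sylow p G) (h : G)) = p * e * (k + 1) := by
  rw [sum_fixed_eq (Nn P)]
  exact sum_KK S hQ₀ hrank

/-- All stabilizers have order `e`. -/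
theorem card_KK_eq {k : ℕ} (hrank : classInner (piS G p) (piS G p) = (k : ℂ) + 1)
    (hcardS : Nat.card (Sylow p G) = 1 + k * p) {Q : Sylow p G} (hQ : Q ≠ Q₀) :
    Nat.card (KK P Q) = e := by
  classical
  let _ : Fintype (Sylow p G) := Fintype.ofFinite _
  have hpp := hp.out.pos
  have h1 := sum_KK S hQ₀ hrank
  have h2 := Finset.add_sum_erase Finset.univ (fun Q : Sylow p G => Nat.card (KK P Q))
    (Finset.mem_univ Q₀)
  have h3 : Nat.card (KK P Q₀) = p * e := by
    rw [← S.cardN]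
    have h4 : KK P Q₀ = Nn P := by
      rw [KK, stabilizer_eq hQ₀, inf_idem]
    rw [h4]
  rw [h1, h3] at h2
  have h4 : ∑ Q ∈ Finset.univ.erase Q₀, Nat.card (KK P Q) = p * e * k := by
    have : p * e + ∑ Q ∈ Finset.univ.erase Q₀, Nat.card (KK P Q) = p * e + p * e * k := by
      rw [h2]
      ring
    omega
  have h5 : (Finset.univ.erase Q₀).card = k * p := by
    rw [Finset.card_erase_of_mem (Finset.mem_univ _), Finset.card_univ, ← Nat.card_eq_fintype_card,
      hcardS]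
    omega
  by_contra hne
  have hlt : Nat.card (KK P Q) < e := lt_of_le_of_ne (card_KK_le S hQ₀ hQ) hne
  have h6 : ∑ Q ∈ Finset.univ.erase Q₀, Nat.card (KK P Q) < ∑ _Q ∈ Finset.univ.erase Q₀, e := by
    apply Finset.sum_lt_sum
    · intro Q' hQ'
      exact card_KK_le S hQ₀ (Finset.mem_erase.mp hQ').1
    · exact ⟨Q, Finset.mem_erase.mpr ⟨hQ, Finset.mem_univ _⟩, hlt⟩
  rw [h4, Finset.sum_const, h5, smul_eq_mul] at h6
  have h7 : p * e * k = k * p * e := by ring
  omega

/-- The complement attached to a Sylow subgroup. -/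
theorem isC_KK {k : ℕ} (hrank : classInner (piS G p) (piS G p) = (k : ℂ) + 1)
    (hcardS : Nat.card (Sylow p G) = 1 + k * p) {Q : Sylow p G} (hQ : Q ≠ Q₀) :
    IsC P e (KK P Q) :=
  ⟨inf_le_left, card_KK_eq S hQ₀ hrank hcardS hQ, fun _ hx hxP => KK_inf S hQ₀ hQ hx hxP⟩

variable {E : Subgroup G} (hE : IsC P e E) (hall : ∀ Q : Sylow p G, Q ≠ Q₀ → IsC P e (KK P Q))

include hE hall

/-- The fixed points of a non-identity element of `E`. -/
theorem fix_iff {w : G} (hw : w ∈ E) (hw1 : w ≠ 1) (Q : Sylow p G) :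
    w • Q = Q ↔ ∀ x ∈ E, x • Q = Q := by
  constructor
  · intro h
    by_cases hQ : Q = Q₀
    · subst hQ
      intro x hx
      have h1 : x ∈ stabilizer G Q := by
        rw [stabilizer_eq hQ₀]
        exact hE.le hx
      exact h1
    · have h1 := (hall Q hQ)
      have h2 : w ∈ KK P Q := ⟨hE.le hw, h⟩
      have h3 := hE.eq_of_common S h1 hw h2 hw1
      intro x hx
      rw [h3] at hx
      exact hx.2
  · intro h
    exact h w hw

/-- The value of the permutation character on the conjugates of `E`. -/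
theorem piS_conj {w : G} {x u : G} (hu : u ∈ E) (hu1 : u ≠ 1) (h : w = x * u * x⁻¹) :
    Nat.card (fixedBy (Sylow p G) w) = Nat.card {Q : Sylow p G // ∀ x ∈ E, x • Q = Q} := by
  classical
  have h1 : Nat.card (fixedBy (Sylow p G) u) = Nat.card {Q : Sylow p G // ∀ x ∈ E, x • Q = Q} := by
    apply Nat.card_congr
    exact Equiv.subtypeEquivRight (fun Q => (by
      rw [mem_fixedBy]
      exact fix_iff S hQ₀ hE hall hu hu1 Q))
  rw [← h1]
  have h2 : IsClassFunction G (piS G p) := isClassFunction_of_isCharacter isCharacter_piS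
  have h3 : piS G p w = piS G p u := by
    rw [h]
    exact h2 u x
  have h4 : ((Nat.card (fixedBy (Sylow p G) w) : ℕ) : ℂ) = ((Nat.card (fixedBy (Sylow p G) u) : ℕ) : ℂ) := h3
  exact_mod_cast h4

/-- The number of fixed points. -/
theorem ell_eq (he : 2 ≤ e) {k : ℕ} (hrank : classInner (piS G p) (piS G p) = (k : ℂ) + 1)
    (hcardS : Nat.card (Sylow p G) = 1 + k * p) :
    Nat.card {Q : Sylow p G // ∀ x ∈ E, x • Q = Q} = k + 1 := by
  classical
  let _ : Fintype (Sylow p G) := Fintype.ofFinite _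
  let _ : Fintype (Nn P) := Fintype.ofFinite _
  have hpp := hp.out.pos
  set ℓ := Nat.card {Q : Sylow p G // ∀ x ∈ E, x • Q = Q} with hℓ
  have h1 := sum_fixed_N S hQ₀ hrank
  -- pointwise values
  have hval : ∀ h : Nn P, ((Nat.card (fixedBy (Sylow p G) (h : G)) : ℕ) : ℤ) =
      (ℓ : ℤ) + (if (h : G) ∈ P then 1 - (ℓ : ℤ) else 0) +
        (if h = 1 then (k : ℤ) * p else 0) := by
    intro h
    by_cases h1 : h = 1
    · subst h1
      have h2 : ((1 : Nn P) : G) ∈ P := P.one_mem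
      rw [if_pos h2, if_pos rfl]
      have h3 : Nat.card (fixedBy (Sylow p G) (((1 : Nn P) : G))) = Nat.card (Sylow p G) := by
        apply Nat.card_congr
        exact Equiv.subtypeUnivEquiv (fun x => by simp)
      rw [h3, hcardS]
      push_cast
      ring
    · rw [if_neg h1]
      have h2 : (h : G) ≠ 1 := fun h3 => h1 (Subtype.ext h3)
      by_cases h3 : (h : G) ∈ P
      · rw [if_pos h3]
        have h4 : Nat.card (fixedBy (Sylow p G) (h : G)) = 1 := by
          have h5 := piS_of_mem S.card hQ₀ h3 h2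
          have h6 : ((Nat.card (fixedBy (Sylow p G) (h : G)) : ℕ) : ℂ) = ((1 : ℕ) : ℂ) := by
            rw [Nat.cast_one]
            exact h5
          exact_mod_cast h6
        rw [h4]
        push_cast
        ring
      · rw [if_neg h3]
        obtain ⟨x, -, u, hu, hu1, hw⟩ := hE.conj_into S h.2 h3
        rw [piS_conj S hQ₀ hE hall hu hu1 hw]
        push_cast
        ring
  have hZ : ((∑ h : Nn P, Nat.card (fixedBy (Sylow p G) (h : G)) : ℕ) : ℤ) =
      ((p * e * (k + 1) : ℕ) : ℤ) := by rw [h1]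
  rw [Nat.cast_sum] at hZ
  simp only [hval] at hZ
  rw [Finset.sum_add_distrib, Finset.sum_add_distrib, Finset.sum_const, Finset.sum_ite_eq',
    if_pos (Finset.mem_univ _)] at hZ
  have hfil : ∑ x : Nn P, (if (x : G) ∈ P then 1 - (ℓ : ℤ) else 0) = (p : ℤ) * (1 - (ℓ : ℤ)) := by
    rw [← Finset.sum_filter, Finset.sum_const, nsmul_eq_mul]
    congr 2
    rw [← Fintype.card_subtype, ← Nat.card_eq_fintype_card, ← S.card]
    exact Nat.card_congr ⟨fun x => ⟨x.1.1, x.2⟩, fun y => ⟨⟨y.1, S.P_le_N y.2⟩, y.2⟩,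
      fun x => rfl, fun y => rfl⟩
  rw [hfil, Finset.card_univ, ← Nat.card_eq_fintype_card, S.cardN] at hZ
  push_cast at hZ
  have hp0 : (p : ℤ) ≠ 0 := by exact_mod_cast hpp.ne'
  have h2 : (p : ℤ) * (((e : ℤ) - 1) * ((ℓ : ℤ) - ((k : ℤ) + 1))) = 0 := by
    simp only [nsmul_eq_mul] at hZ
    push_cast at hZ
    linear_combination hZ
  have h3 : ((e : ℤ) - 1) ≠ 0 := by
    have : (2 : ℤ) ≤ e := by exact_mod_cast he
    omega
  have h4 := (mul_eq_zero.mp ((mul_eq_zero.mp h2).resolve_left hp0)).resolve_left h3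
  omega

/-- Conjugates of `E` in `N`. -/
theorem conj_isC (hpe : ¬ p ∣ e) {g : G} (hle : E.map (MulAut.conj g).toMonoidHom ≤ Nn P) :
    IsC P e (E.map (MulAut.conj g).toMonoidHom) := by
  refine ⟨hle, ?_, ?_⟩
  · rw [← hE.card]
    exact Nat.card_congr (Subgroup.equivMapOfInjective E _ (MulAut.conj g).injective).symm.toEquiv
  · rintro y ⟨u, hu, rfl⟩ hy
    set y := (MulAut.conj g).toMonoidHom u with hydef
    have h1 : y ^ e = 1 := by
      have h2 : (⟨u, hu⟩ : E) ^ Nat.card E = 1 := pow_card_eq_one'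
      rw [hE.card] at h2
      have h3 : u ^ e = 1 := by
        have := congrArg Subtype.val h2
        simpa using this
      rw [hydef, ← map_pow, h3, map_one]
    have h2 : y ^ p = 1 := by
      have h2 : (⟨y, hy⟩ : P) ^ Nat.card P = 1 := pow_card_eq_one'
      rw [S.card] at h2
      have := congrArg Subtype.val h2
      simpa using this
    have h3 := Nat.Coprime.symm ((Nat.Prime.coprime_iff_not_dvd hp.out).mpr hpe)
    have h4 : orderOf y ∣ e := orderOf_dvd_of_pow_eq_one h1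
    have h5 : orderOf y ∣ p := orderOf_dvd_of_pow_eq_one h2
    have h6 : orderOf y = 1 := Nat.eq_one_of_dvd_coprimes h3.symm h5 h4
    exact orderOf_eq_one_iff.mp h6

/-- Transitivity of the normalizer of `E` on the fixed points of `E`. -/
theorem exists_normalizing (he : 2 ≤ e) (hpe : ¬ p ∣ e) {Q : Sylow p G} (hQ : ∀ x ∈ E, x • Q = Q) :
    ∃ h : G, (∀ u, u ∈ E ↔ h * u * h⁻¹ ∈ E) ∧ h • Q₀ = Q := by
  obtain ⟨g, hg⟩ := MulAction.exists_smul_eq G Q₀ Q
  have hle : E.map (MulAut.conj g⁻¹).toMonoidHom ≤ Nn P := by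
    rintro _ ⟨u, hu, rfl⟩
    rw [← stabilizer_eq hQ₀, mem_stabilizer_iff]
    show (g⁻¹ * u * g⁻¹⁻¹) • Q₀ = Q₀
    rw [inv_inv, mul_smul, mul_smul, hg, hQ u hu, ← hg, inv_smul_smul]
  have hC := conj_isC S hQ₀ hE hall hpe hle
  obtain ⟨x, hx, hxe⟩ := hE.exists_conj S hC he
  refine ⟨g * x, ?_, ?_⟩
  · intro u
    constructor
    · intro hu
      -- `x u x⁻¹` lies in `g⁻¹ E g`
      have h1 : x * u * x⁻¹ ∈ E.map (MulAut.conj x).toMonoidHom := ⟨u, hu, rfl⟩
      rw [← hxe] at h1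
      obtain ⟨v, hv, hvu⟩ := h1
      have h2 : g⁻¹ * v * g⁻¹⁻¹ = x * u * x⁻¹ := hvu
      have h3 : g * x * u * (g * x)⁻¹ = v := by
        calc g * x * u * (g * x)⁻¹ = g * (x * u * x⁻¹) * g⁻¹ := by group
          _ = g * (g⁻¹ * v * g⁻¹⁻¹) * g⁻¹ := by rw [h2]
          _ = v := by group
      rw [h3]
      exact hv
    · intro hu
      set v := g * x * u * (g * x)⁻¹ with hv
      have h1 : g⁻¹ * v * g⁻¹⁻¹ ∈ E.map (MulAut.conj g⁻¹).toMonoidHom := ⟨v, hu, rfl⟩
      rw [hxe] at h1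
      obtain ⟨w, hw, hwu⟩ := h1
      have h2 : x * w * x⁻¹ = g⁻¹ * v * g⁻¹⁻¹ := hwu
      have h3 : w = u := by
        have h4 : x * w * x⁻¹ = x * u * x⁻¹ := by
          rw [h2, hv]
          group
        exact mul_left_cancel (mul_right_cancel h4)
      rw [← h3]
      exact hw
  · rw [mul_smul]
    have hxN : x • Q₀ = Q₀ := by
      have : x ∈ stabilizer G Q₀ := by
        rw [stabilizer_eq hQ₀]
        exact S.P_le_N hx
      exact this
    rw [hxN, hg]

/-- The order of the normalizer of `E`. -/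
theorem card_normalizer (he : 2 ≤ e) (hpe : ¬ p ∣ e) {k : ℕ}
    (hrank : classInner (piS G p) (piS G p) = (k : ℂ) + 1)
    (hcardS : Nat.card (Sylow p G) = 1 + k * p) :
    Nat.card (Subgroup.normalizer (E : Set G)) = e * (k + 1) := by
  classical
  set H := Subgroup.normalizer (E : Set G) with hH
  let _ : Fintype H := Fintype.ofFinite _
  let _ : Fintype (orbit H Q₀) := Fintype.ofFinite _
  let _ : Fintype (stabilizer H Q₀) := Fintype.ofFinite _
  have h1 := card_orbit_mul_card_stabilizer_eq_card_group H Q₀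
  have horbit : Fintype.card (orbit H Q₀) = k + 1 := by
    rw [← ell_eq S hQ₀ hE hall he hrank hcardS, ← Nat.card_eq_fintype_card]
    apply Nat.card_congr
    refine Equiv.subtypeEquivRight (fun Q => ?_)
    constructor
    · rintro ⟨h, rfl⟩
      intro x hx
      have h2 : (h : G)⁻¹ * x * (h : G)⁻¹⁻¹ ∈ E := by
        have h3 : (h : G)⁻¹ ∈ H := H.inv_mem h.2
        exact (Subgroup.mem_normalizer_iff.mp h3 x).mp hx
      have h3 : ((h : G)⁻¹ * x * (h : G)⁻¹⁻¹) • Q₀ = Q₀ := by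
        have : (h : G)⁻¹ * x * (h : G)⁻¹⁻¹ ∈ stabilizer G Q₀ := by
          rw [stabilizer_eq hQ₀]
          exact hE.le h2
        exact this
      show x • (h : G) • Q₀ = (h : G) • Q₀
      have h4 : x • (h : G) • Q₀ = (h : G) • (((h : G)⁻¹ * x * (h : G)⁻¹⁻¹) • Q₀) := by
        simp only [mul_smul, inv_inv, smul_inv_smul]
      rw [h4, h3]
    · intro hQ
      obtain ⟨h, h2, h3⟩ := exists_normalizing S hQ₀ hE hall he hpe hQ
      have h4 : h ∈ H := Subgroup.mem_normalizer_iff.mpr h2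
      exact ⟨⟨h, h4⟩, h3⟩
  have hstab : Fintype.card (stabilizer H Q₀) = e := by
    rw [← hE.card, ← Nat.card_eq_fintype_card]
    apply Nat.card_congr
    refine ⟨fun x => ⟨x.1.1, ?_⟩, fun y => ⟨⟨y.1, ?_⟩, ?_⟩, fun x => rfl, fun y => rfl⟩
    · apply hE.mem_of_normalizes S he
      · rw [← stabilizer_eq hQ₀]
        exact x.2
      · intro v hv
        exact (Subgroup.mem_normalizer_iff.mp x.1.2 v).mp hv
    · exact Subgroup.le_normalizer y.2
    · have : (y : G) ∈ stabilizer G Q₀ := by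
        rw [stabilizer_eq hQ₀]
        exact hE.le y.2
      exact this
  rw [horbit, hstab] at h1
  rw [Nat.card_eq_fintype_card, ← h1]
  ring

/-- A non-identity `p`-regular element fixing a Sylow subgroup is conjugate into `E`. -/
theorem exists_conj_of_fix {g : G} (hg1 : g ≠ 1) (hreg : ¬ p ∣ orderOf g) {Q : Sylow p G}
    (hQ : g • Q = Q) : ∃ y u : G, u ∈ E ∧ u ≠ 1 ∧ g = y * u * y⁻¹ := by
  obtain ⟨y₁, hy₁⟩ := MulAction.exists_smul_eq G Q₀ Q
  set g₁ := y₁⁻¹ * g * y₁ with hg₁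
  have h1 : g₁ ∈ Nn P := by
    rw [← stabilizer_eq hQ₀, mem_stabilizer_iff, hg₁, mul_smul, mul_smul, hy₁, hQ, ← hy₁, inv_smul_smul]
  have h2 : g₁ ∉ P := by
    intro h
    have h3 : orderOf g₁ = orderOf g := by
      have : g₁ = MulAut.conj y₁⁻¹ g := by
        simp [hg₁]
      rw [this, MulEquiv.orderOf_eq]
    have h4 : orderOf g₁ ∣ p := by
      have h5 := orderOf_dvd_natCard (⟨g₁, h⟩ : P)
      rw [S.card, Subgroup.orderOf_mk] at h5
      exact h5
    rcases (Nat.dvd_prime hp.out).mp h4 with h5 | h5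
    · rw [h3] at h5
      exact hg1 (orderOf_eq_one_iff.mp h5)
    · rw [h3] at h5
      exact hreg (h5 ▸ dvd_rfl)
  obtain ⟨x, -, u, hu, hu1, h3⟩ := hE.conj_into S h1 h2
  refine ⟨y₁ * x, u, hu, hu1, ?_⟩
  calc g = y₁ * g₁ * y₁⁻¹ := by rw [hg₁]; group
    _ = y₁ * (x * u * x⁻¹) * y₁⁻¹ := by rw [h3]
    _ = _ := by group

/-- `E` has the trivial intersection property. -/
theorem ti_prop (hpe : ¬ p ∣ e) {v g : G} (hv : v ∈ E) (hv1 : v ≠ 1) (hg : g⁻¹ * v * g ∈ E) :
    ∀ u ∈ E, g * u * g⁻¹ ∈ E := by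
  have hv'1 : g⁻¹ * v * g ≠ 1 := by
    intro h
    apply hv1
    calc v = g * (g⁻¹ * v * g) * g⁻¹ := by group
      _ = 1 := by rw [h]; group
  have hfix : (g⁻¹ * v * g) • (g⁻¹ • Q₀) = g⁻¹ • Q₀ := by
    have h1 : v • Q₀ = Q₀ := by
      have : v ∈ stabilizer G Q₀ := by
        rw [stabilizer_eq hQ₀]
        exact hE.le hv
      exact this
    simp only [mul_smul, smul_inv_smul, h1]
  have h1 := (fix_iff S hQ₀ hE hall hg hv'1 _).mp hfix
  have hle : E.map (MulAut.conj g).toMonoidHom ≤ Nn P := by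
    rintro _ ⟨u, hu, rfl⟩
    rw [← stabilizer_eq hQ₀, mem_stabilizer_iff]
    show (g * u * g⁻¹) • Q₀ = Q₀
    simp only [mul_smul]
    rw [h1 u hu, smul_inv_smul]
  have hC := conj_isC S hQ₀ hE hall hpe hle
  have hvmem : v ∈ E.map (MulAut.conj g).toMonoidHom := by
    refine ⟨g⁻¹ * v * g, hg, ?_⟩
    show g * (g⁻¹ * v * g) * g⁻¹ = v
    group
  have h2 := hE.eq_of_common S hC hv hvmem hv1
  intro u hu
  rw [h2]
  exact ⟨u, hu, rfl⟩

end Cfsg.Agent.Lib.BrauerP.Frob
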