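import Cfsg.Agent.Lib.Char.Ortho

/-!
# Multiplicity of the trivial character in restrictions to nested subgroups
-/

set_option autoImplicit false

namespace Cfsg.Agent.Lib.BrauerP.ResLe

open Cfsg Module
open Cfsg.Agent.Lib.Char.Basic Cfsg.Agent.Lib.Char.Ortho

universe u

variable {G : Type u} [Group G] [Finite G]

/-- Restricting to a smaller subgroup increases the multiplicity of the trivial character. -/
theorem exists_le_of_le {H K : Subgroup G} [Fintype H] [Fintype K] (hHK : H ≤ K) {χ : G → ℂ}
    (hχ : IsCharacter G χ) :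
    ∃ a b : ℕ, classInner (fun _ : K => (1 : ℂ)) (fun k : K => χ k) = a ∧
      classInner (fun _ : H => (1 : ℂ)) (fun h : H => χ h) = b ∧ a ≤ b := by
  obtain ⟨n, ρ, rfl⟩ := hχ
  have htriv : ∀ L : Subgroup G, (Representation.trivial ℂ L ℂ).character = fun _ => (1 : ℂ) := by
    intro L
    funext g
    simp [Representation.character, Representation.trivial]
  let ρK : Representation ℂ K (Fin n → ℂ) := ρ.comp K.subtype
  let ρH : Representation ℂ H (Fin n → ℂ) := ρ.comp H.subtype
  have hK := classInner_character ρK (Representation.trivial ℂ K ℂ)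
  have hH := classInner_character ρH (Representation.trivial ℂ H ℂ)
  rw [htriv] at hK hH
  refine ⟨_, _, hK, hH, ?_⟩
  let φ : (ρK.IntertwiningMap (Representation.trivial ℂ K ℂ)) →ₗ[ℂ]
      (ρH.IntertwiningMap (Representation.trivial ℂ H ℂ)) :=
    { toFun := fun f => ⟨f.toLinearMap, fun h => by
        have := f.isIntertwining' ⟨h, hHK h.2⟩
        exact this⟩
      map_add' := fun _ _ => rfl
      map_smul' := fun _ _ => rfl }
  apply LinearMap.finrank_le_finrank_of_injective (f := φ)
  intro f g hfg
  apply Representation.IntertwiningMap.ext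
  exact congrArg (fun w => w.toLinearMap) hfg

end Cfsg.Agent.Lib.BrauerP.ResLe
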