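import Cfsg.Agent.Lib.BrauerP.Main

/-!
# Simple groups with a prime divisor `p` with `|G| < p ^ 3`
-/

set_option autoImplicit false
set_option linter.unusedSectionVars false
set_option linter.unusedVariables false

namespace Cfsg.Agent.Lib.BrauerP.Reynolds

open Cfsg Module MulAction
open Cfsg.Agent.Lib.Char.Basic Cfsg.Agent.Lib.Char.Ortho Cfsg.Agent.Lib.Char.Complete
open Cfsg.Agent.Lib.Char.Degree Cfsg.Agent.Lib.Char.Induced
open Cfsg.Agent.Lib.ExcP.Gram Cfsg.Agent.Lib.ExcP.Dual Cfsg.Agent.Lib.ExcP.Core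
open Cfsg.Agent.Lib.ExcP.Inst Cfsg.Agent.Lib.ExcP.BlockHA
open Cfsg.Agent.Lib.BrauerP.Data Cfsg.Agent.Lib.BrauerP.Data.BD Cfsg.Agent.Lib.BrauerP.Frob
open scoped Classical

universe u

/-- Divisors congruent to `1` modulo `p`. -/
theorem deg_plus' {p w k h f' : ℕ} (hp : 2 ≤ p) (hw : 0 < w) (hk : 1 ≤ k) (hwk : w * k < p)
    (hh : 1 ≤ h) (h1 : (h * p + 1) * f' = w * (1 + k * p)) : h = k ∧ f' = w := by
  have hwle : w ≤ w * k := Nat.le_mul_of_pos_right _ (by omega)
  obtain ⟨q, rfl⟩ : ∃ q, p = q + 1 := ⟨p - 1, by omega⟩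
  have hf' : f' < q + 1 := by
    by_contra hcon
    push Not at hcon
    have h2 : (q + 1 + 1) * (q + 1) ≤ (h * (q + 1) + 1) * f' := by
      apply Nat.mul_le_mul _ hcon
      nlinarith
    rw [h1] at h2
    have h3 : w * (1 + k * (q + 1)) = w + (w * k) * (q + 1) := by ring
    rw [h3] at h2
    have h4 : (w * k) * (q + 1) ≤ q * (q + 1) := Nat.mul_le_mul_right _ (by omega)
    nlinarith
  have hcong : (f' : ℤ) - w = (q + 1) * (w * k - h * f') := by
    have : ((h : ℤ) * (q + 1) + 1) * f' = w * (1 + k * (q + 1)) := by exact_mod_cast h1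
    linear_combination this
  have hd : (((q + 1 : ℕ) : ℤ)) ∣ (f' : ℤ) - w := ⟨_, by push_cast; exact hcong⟩
  have heq : (f' : ℤ) - w = 0 := by
    apply Int.eq_zero_of_abs_lt_dvd hd
    rw [abs_lt]
    push_cast
    constructor <;> omega
  have hf : f' = w := by omega
  subst hf
  refine ⟨?_, rfl⟩
  have h2 : (h * (q + 1) + 1) = (1 + k * (q + 1)) := by
    have h3 : (h * (q + 1) + 1) * f' = (1 + k * (q + 1)) * f' := by rw [h1]; ring
    exact Nat.eq_of_mul_eq_mul_right hw h3
  have h3 : h * (q + 1) = k * (q + 1) := by omega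
  exact Nat.eq_of_mul_eq_mul_right (by omega) h3

/-- Divisors congruent to `-1` modulo `p`. -/
theorem deg_minus' {p w k l f f' : ℕ} (hp : 2 ≤ p) (hw : 0 < w) (hk : 2 ≤ k) (hwk : w * k < p)
    (h1 : f + 1 = l * p) (h2 : f * f' = w * (1 + k * p)) : l = 1 := by
  by_contra hl
  have hl0 : l ≠ 0 := by
    rintro rfl
    omega
  have hl2 : 2 ≤ l := by omega
  have h2w : 2 * w < p := by nlinarith
  obtain ⟨l', rfl⟩ : ∃ l', l = l' + 2 := ⟨l - 2, by omega⟩
  have hf : (f : ℤ) = (l' + 2) * p - 1 := by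
    have : (f : ℤ) + 1 = (l' + 2) * p := by exact_mod_cast h1
    linarith
  have hZ : (f : ℤ) * f' = w * (1 + k * p) := by exact_mod_cast h2
  have hcong : (f' : ℤ) + w = p * (f' * (l' + 2) - w * k) := by
    rw [hf] at hZ
    linear_combination -hZ
  have hd : ((p : ℕ) : ℤ) ∣ (f' : ℤ) + w := ⟨_, hcong⟩
  have hle : (p : ℤ) ≤ (f' : ℤ) + w := by
    apply Int.le_of_dvd _ hd
    have : (0 : ℤ) < w := by exact_mod_cast hw
    positivity
  have hf'1 : (2 : ℤ) * f' ≥ p + 1 := by
    have : (2 : ℤ) * w < p := by exact_mod_cast h2w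
    linarith
  -- the size
  have hpZ : (2 : ℤ) ≤ p := by exact_mod_cast hp
  have hf2 : (2 : ℤ) * p - 1 ≤ f := by
    rw [hf]
    have : (0 : ℤ) ≤ (l' : ℤ) * p := by positivity
    linarith
  have hf'0 : (0 : ℤ) ≤ f' := by positivity
  have h3 : ((2 : ℤ) * p - 1) * f' ≤ f * f' := mul_le_mul_of_nonneg_right hf2 hf'0
  rw [hZ] at h3
  have h4 : (w : ℤ) * k ≤ p - 1 := by
    have : w * k + 1 ≤ p := hwk
    have h5 : ((w * k + 1 : ℕ) : ℤ) ≤ p := by exact_mod_cast this
    push_cast at h5
    linarith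
  have h5 : (w : ℤ) * (1 + k * p) ≤ w + (p - 1) * p := by
    have h6 : ((w : ℤ) * k) * p ≤ (p - 1) * p := mul_le_mul_of_nonneg_right h4 (by positivity)
    linarith
  have h7 : ((2 : ℤ) * p - 1) * (2 * f') ≥ (2 * p - 1) * (p + 1) :=
    mul_le_mul_of_nonneg_left hf'1 (by linarith)
  have h8 : (2 : ℤ) * w ≤ p - 1 := by
    have : (2 : ℤ) * w < p := by exact_mod_cast h2w
    linarith
  nlinarith

variable {G : Type u} [Group G] [Fintype G] [Fintype (IrrCharacter G)] {p e : ℕ} [hp : Fact p.Prime]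
  {P : Subgroup G} {hP : Nat.card P = p} [Fintype P] [Fintype (DD P p)]

/-- A member `F` of the principal block taking the value `-1` on `P` and of degree `p - 1` forces
`C(P) = P`. -/
theorem cent_of_member [IsSimpleGroup G] (hP : Nat.card P = p) (hp2 : ¬ p ^ 2 ∣ Nat.card G)
    {M : Ideal AlgInt} (hM : IsPModular p M) {F : IrrCharacter G} (hF : F ∈ principalBlock M G)
    (hF1 : ∀ u ∈ P, u ≠ 1 → (F : G → ℂ) u = -1) (hdeg : charDegree (F : G → ℂ) = p - 1) :
    Cn P = P := by
  classical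
  have hpp := hp.out.two_le
  obtain ⟨V, hVn, hV, hq, hc⟩ := exists_complement hP hp2
  have hle := le_centralizer hP
  let _ : Fintype (Cn P) := Fintype.ofFinite _
  let _ : Fintype V := Fintype.ofFinite _
  let P' := P.subgroupOf (Cn P)
  have hP' : Nat.card P' = p := by
    rw [← hP]
    exact Nat.card_congr (Subgroup.subgroupOfEquivOfLe hle).toEquiv
  let _ : Fintype P' := Fintype.ofFinite _
  -- the values on `y v`
  have hval : ∀ (y : P') (v : V), y ≠ 1 → (F : G → ℂ) (((y : Cn P) * (v : Cn P) : Cn P) : G) = -1 := by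
    intro y v hy
    have hyP : ((y : Cn P) : G) ∈ P := y.2
    have hy1 : ((y : Cn P) : G) ≠ 1 := fun h => hy (Subtype.ext (Subtype.ext h))
    have hord : ∃ k : ℕ, orderOf ((y : Cn P) : G) = p ^ k := by
      have h1 : IsPGroup p P := IsPGroup.of_card (n := 1) (by rw [hP, pow_one])
      obtain ⟨k, hk⟩ := (IsPGroup.iff_orderOf.mp h1) ⟨_, hyP⟩
      exact ⟨k, by rwa [Subgroup.orderOf_mk] at hk⟩
    have h2 := value_of_principal hM hord (centralizer_singleton_eq hP hyP hy1) V hVn hV hF v.2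
    push_cast
    rw [h2]
    exact hF1 _ hyP hy1
  -- the sum over `C(P)`
  obtain ⟨N, hN⟩ := exists_sum_subgroup (Cn P) F
  have hcardC : Nat.card (Cn P) = p * Nat.card V := by
    have h1 := hc.card_mul_card
    rw [hP'] at h1
    exact h1.symm
  have hbij : Function.Bijective (fun x : P' × V => ((x.1 : Cn P) * (x.2 : Cn P) : Cn P)) := hc
  have hsum : ∑ c : Cn P, (F : G → ℂ) (c : G) =
      ∑ y : P', ∑ v : V, (F : G → ℂ) (((y : Cn P) * (v : Cn P) : Cn P) : G) := by
    rw [← hbij.sum_comp (fun c : Cn P => (F : G → ℂ) (c : G)), Fintype.sum_prod_type]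
  have hsplit : ∀ y : P', ∑ v : V, (F : G → ℂ) (((y : Cn P) * (v : Cn P) : Cn P) : G) =
      (if y = 1 then (∑ v : V, (F : G → ℂ) ((v : Cn P) : G)) + (Nat.card V : ℂ) else 0) -
        (Nat.card V : ℂ) := by
    intro y
    by_cases hy : y = 1
    · subst hy
      rw [if_pos rfl, add_sub_cancel_right]
      refine Finset.sum_congr rfl fun v _ => ?_
      simp
    · rw [if_neg hy, zero_sub]
      rw [Finset.sum_congr rfl (fun v _ => hval y v hy), Finset.sum_const, Finset.card_univ,
        ← Nat.card_eq_fintype_card, nsmul_eq_mul]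
      ring
  have hS : ∑ v : V, (F : G → ℂ) ((v : Cn P) : G) =
      (p : ℂ) * (Nat.card V : ℂ) * (N : ℂ) + ((p : ℂ) - 1) * (Nat.card V : ℂ) := by
    rw [hsum] at hN
    simp only [hsplit] at hN
    rw [Finset.sum_sub_distrib, Finset.sum_ite_eq', if_pos (Finset.mem_univ _), Finset.sum_const,
      Finset.card_univ, ← Nat.card_eq_fintype_card, hP', nsmul_eq_mul, hcardC] at hN
    push_cast at hN
    linear_combination hN
  -- each value is the degree
  have hχ := isCharacter_of_isIrrCharacter F.2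
  have hnorm : ∀ v : V, ‖(F : G → ℂ) ((v : Cn P) : G)‖ ≤ ((p : ℝ) - 1) := by
    intro v
    have h1 := norm_le_charDegree hχ ((v : Cn P) : G)
    rw [hdeg, Nat.cast_sub (by omega)] at h1
    simpa using h1
  have hre : ∑ v : V, (((p : ℝ) - 1) - ((F : G → ℂ) ((v : Cn P) : G)).re) =
      -((p : ℝ) * (Nat.card V : ℝ) * (N : ℝ)) := by
    have h1 := congrArg Complex.re hS
    rw [Complex.re_sum] at h1
    rw [Finset.sum_sub_distrib, h1, Finset.sum_const, Finset.card_univ, ← Nat.card_eq_fintype_card,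
      nsmul_eq_mul]
    simp [Complex.mul_re]
    ring
  have hnonneg : ∀ v : V, 0 ≤ ((p : ℝ) - 1) - ((F : G → ℂ) ((v : Cn P) : G)).re := by
    intro v
    have h1 := Complex.re_le_norm ((F : G → ℂ) ((v : Cn P) : G))
    have h2 := hnorm v
    linarith
  have hzero : ∑ v : V, (((p : ℝ) - 1) - ((F : G → ℂ) ((v : Cn P) : G)).re) = 0 := by
    apply le_antisymm
    · rw [hre]
      have : 0 ≤ (p : ℝ) * (Nat.card V : ℝ) * (N : ℝ) := by positivity
      linarith
    · exact Finset.sum_nonneg (fun v _ => hnonneg v)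
  have hall := (Finset.sum_eq_zero_iff_of_nonneg (fun v _ => hnonneg v)).mp hzero
  -- the kernel
  have hker : charKer hχ = ⊥ := by
    rcases IsSimpleGroup.eq_bot_or_eq_top_of_normal (charKer hχ) inferInstance with h | h
    · exact h
    · exfalso
      obtain ⟨u, hu⟩ := Cfsg.Agent.Lib.BrauerP.Data.exists_ne_one hP
      have hu1 : (u : G) ≠ 1 := fun h' => hu (Subtype.ext h')
      have h1 : (u : G) ∈ charKer hχ := by rw [h]; trivial
      rw [mem_charKer, hF1 _ u.2 hu1, ← charDegree_natCast hχ, hdeg, Nat.cast_sub (by omega)] at h1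
      have h2 : (p : ℂ) = 0 := by
        push_cast at h1
        linear_combination -h1
      have h3 : (p : ℂ) ≠ 0 := by exact_mod_cast hp.out.pos.ne'
      exact h3 h2
  have hV1 : ∀ v : V, ((v : Cn P) : G) = 1 := by
    intro v
    have h1 := hall v (Finset.mem_univ _)
    have h2 : ((F : G → ℂ) ((v : Cn P) : G)).re = (p : ℝ) - 1 := by linarith
    have h3 : ‖(F : G → ℂ) ((v : Cn P) : G)‖ = (p : ℝ) - 1 := by
      apply le_antisymm (hnorm v)
      rw [← h2]
      exact Complex.re_le_norm _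
    have h5 : ((F : G → ℂ) ((v : Cn P) : G)).im = 0 := by
      have h6 := Complex.sq_norm ((F : G → ℂ) ((v : Cn P) : G))
      rw [Complex.normSq_apply, h3, h2] at h6
      have h7 : ((F : G → ℂ) ((v : Cn P) : G)).im * ((F : G → ℂ) ((v : Cn P) : G)).im = 0 := by
        nlinarith
      exact mul_self_eq_zero.mp h7
    have h6 : (F : G → ℂ) ((v : Cn P) : G) = (F : G → ℂ) 1 := by
      rw [← charDegree_natCast hχ, hdeg, Nat.cast_sub (by omega)]
      apply Complex.ext
      · rw [h2]
        simp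
      · rw [h5]
        simp
    have h7 : ((v : Cn P) : G) ∈ charKer hχ := h6
    rw [hker] at h7
    exact Subgroup.mem_bot.mp h7
  -- conclusion
  apply le_antisymm _ hle
  intro c hc'
  obtain ⟨⟨y, v⟩, hyv⟩ := hbij.2 ⟨c, hc'⟩
  have h1 : ((y : Cn P) : G) * ((v : Cn P) : G) = c := congrArg Subtype.val hyv
  rw [hV1 v, mul_one] at h1
  rw [← h1]
  exact y.2

/-- Members of the block with `z = -1`, in general. -/
theorem deg_A (D : BD P p e hP) (hp2 : ¬ p ^ 2 ∣ Nat.card G) {w n k : ℕ}
    (hG : Nat.card G = p * (w * n)) (hn : n = 1 + k * p) (hk : 1 ≤ k) (hwk : w * k < p) (hw0 : 0 < w)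
    (hlin : ∀ j : IrrCharacter G, charDegree (j : G → ℂ) = 1 → j = oneIrr G)
    {j : IrrCharacter G} (hj : D.z j = -1) (hj1 : j ≠ oneIrr G) : charDegree (j : G → ℂ) = n := by
  have hp1 := hp.out.two_le
  have h1 := D.deg_z hp2 (j := j) (by rw [hj]; norm_num)
  rw [hj] at h1
  set a := aP (hP := hP) hp2 j with ha
  have hpos : 0 < charDegree (j : G → ℂ) := charDegree_pos j.2
  have ha1 : 1 ≤ a := by
    by_contra hlt
    have h2 : a = 0 := by omega
    rw [h2] at h1
    have h3 : (2 : ℤ) ≤ p := by exact_mod_cast hp1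
    push_cast at h1
    have h4 : (0 : ℤ) < charDegree (j : G → ℂ) := by exact_mod_cast hpos
    linarith
  obtain ⟨h, hah⟩ : ∃ h, a = h + 1 := ⟨a - 1, by omega⟩
  have hdeg : charDegree (j : G → ℂ) = h * p + 1 := by
    have : (charDegree (j : G → ℂ) : ℤ) = (h : ℤ) * p + 1 := by
      rw [h1, hah]
      push_cast
      ring
    exact_mod_cast this
  have hh1 : 1 ≤ h := by
    by_contra hlt
    have h2 : h = 0 := by omega
    rw [h2, zero_mul, zero_add] at hdeg
    exact hj1 (hlin j hdeg)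
  have hndvd : ¬ p ∣ charDegree (j : G → ℂ) := by
    rw [hdeg]
    intro h2
    have h3 : p ∣ 1 := (Nat.dvd_add_right (dvd_mul_left p h)).mp h2
    exact hp.out.one_lt.ne' (Nat.dvd_one.mp h3)
  obtain ⟨f', hf'⟩ := exists_cofactor hG hn hk hndvd
  rw [hdeg] at hf'
  obtain ⟨h2, h3⟩ := deg_plus' hp1 hw0 hk hwk hh1 hf'
  rw [hdeg, h2, hn]
  ring

/-- Members of the block with `z = 1`, in general. -/
theorem deg_B (D : BD P p e hP) (hp2 : ¬ p ^ 2 ∣ Nat.card G) {w n k : ℕ}
    (hG : Nat.card G = p * (w * n)) (hn : n = 1 + k * p) (hk : 2 ≤ k) (hwk : w * k < p) (hw0 : 0 < w)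
    {j : IrrCharacter G} (hj : D.z j = 1) : charDegree (j : G → ℂ) = p - 1 := by
  have hp1 := hp.out.two_le
  have h1 := D.deg_z hp2 (j := j) (by rw [hj]; norm_num)
  rw [hj] at h1
  set a := aP (hP := hP) hp2 j with ha
  have hdeg : charDegree (j : G → ℂ) + 1 = (a + 1) * p := by
    have : (charDegree (j : G → ℂ) : ℤ) + 1 = ((a : ℤ) + 1) * p := by
      rw [h1]
      ring
    exact_mod_cast this
  have hndvd : ¬ p ∣ charDegree (j : G → ℂ) := by
    intro h2
    have h3 : p ∣ charDegree (j : G → ℂ) + 1 := by rw [hdeg]; exact dvd_mul_left _ _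
    have h4 : p ∣ 1 := (Nat.dvd_add_right h2).mp h3
    exact hp.out.one_lt.ne' (Nat.dvd_one.mp h4)
  obtain ⟨f', hf'⟩ := exists_cofactor hG hn (by omega) hndvd
  have h2 := deg_minus' hp1 hw0 hk hwk hdeg hf'
  rw [h2, one_mul] at hdeg
  omega

/-- If `k ≥ 2` then `C(P) = P`. -/
theorem cent_eq [IsSimpleGroup G] (D : BD P p e hP) (hp2 : ¬ p ^ 2 ∣ Nat.card G) {M : Ideal AlgInt}
    (hM : IsPModular p M) {w n k : ℕ}
    (hG : Nat.card G = p * (w * n)) (hn : n = 1 + k * p) (hk : 2 ≤ k) (hwk : w * k < p) (hw0 : 0 < w)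
    (he2 : 2 ≤ e)
    (hlin : ∀ j : IrrCharacter G, charDegree (j : G → ℂ) = 1 → j = oneIrr G) : Cn P = P := by
  classical
  have hp1 := hp.out.two_le
  -- `B` is not empty
  have hB : (setB D).Nonempty := by
    by_contra hcon
    rw [Finset.not_nonempty_iff_eq_empty] at hcon
    have hA0 := card_setA_add D
    rw [hcon, Finset.card_empty, add_zero] at hA0
    obtain ⟨i⟩ : Nonempty (Fin D.t) := ⟨⟨0, D.t_pos⟩⟩
    have h1 := D.reg_rel i (g := 1) (by
      rw [orderOf_one]
      exact hp.out.one_lt.ne' ∘ Nat.dvd_one.mp)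
    rw [sum_z D (fun j => (j : G → ℂ) 1), hcon, Finset.sum_empty] at h1
    have h2 : ((oneIrr G : IrrCharacter G) : G → ℂ) 1 = 1 := rfl
    have h3 : ∑ j ∈ setA D, (j : G → ℂ) 1 = ((setA D).card : ℂ) * n := by
      rw [← nsmul_eq_mul, ← Finset.sum_const]
      refine Finset.sum_congr rfl fun j hj => ?_
      obtain ⟨h4, h5⟩ := (Finset.mem_filter.mp hj).2
      rw [← charDegree_natCast (isCharacter_of_isIrrCharacter j.2),
        deg_A D hp2 hG hn (by omega) hwk hw0 hlin h4 h5]
    rw [h2, h3, ← charDegree_natCast (isCharacter_of_isIrrCharacter (D.ν i).2), D.hνdeg] at h1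
    have h5 : (((1 : ℤ) + (setA D).card * n : ℤ) : ℂ) = ((D.ε * D.D₀ : ℤ) : ℂ) := by
      push_cast
      linear_combination -h1
    have h6 : (1 : ℤ) + (setA D).card * n = D.ε * D.D₀ := by exact_mod_cast h5
    have hε : D.ε = 1 := by
      rcases D.hε with h | h
      · exact h
      · exfalso
        rw [h] at h6
        have : (0 : ℤ) ≤ ((setA D).card : ℤ) * n := by positivity
        have h7 : (0 : ℤ) ≤ D.D₀ := by positivity
        linarith
    rw [hε, one_mul] at h6
    have h7 : D.D₀ = 1 + (setA D).card * n := by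
      have : (D.D₀ : ℤ) = (1 + (setA D).card * n : ℕ) := by
        push_cast
        linarith
      exact_mod_cast this
    -- divisibility
    have h8 : D.D₀ ∣ p * (w * n) := by
      rw [← hG, ← D.hνdeg i]
      exact charDegree_dvd_card (D.ν i).2
    have hep : 0 < e ∧ e ≤ p - 1 := by
      have h9 := D.hte
      have h10 := D.t_pos
      refine ⟨D.e_pos, ?_⟩
      rw [← h9]
      nlinarith
    have h9 : Nat.Coprime D.D₀ p := by
      have h10 := D.deg_ν hp2 i
      rw [hε, one_mul] at h10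
      have h11 : ¬ p ∣ D.D₀ := by
        intro h12
        have h13 : (p : ℤ) ∣ (D.D₀ : ℤ) := by exact_mod_cast h12
        have h14 : (p : ℤ) ∣ (e : ℤ) := by
          rw [h10] at h13
          exact (Int.dvd_add_left (dvd_mul_right _ _)).mp h13
        have h15 : p ∣ e := by exact_mod_cast h14
        have h16 := Nat.le_of_dvd hep.1 h15
        omega
      exact ((Nat.Prime.coprime_iff_not_dvd hp.out).mpr h11).symm
    have h10 : Nat.Coprime D.D₀ n := by
      rw [h7]
      simp
    have h11 : D.D₀ ∣ w := by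
      have h12 := h9.dvd_of_dvd_mul_left h8
      exact h10.dvd_of_dvd_mul_right h12
    have h12 := Nat.le_of_dvd hw0 h11
    have h13 : w ≤ w * k := Nat.le_mul_of_pos_right _ (by omega)
    have h14 : 1 ≤ (setA D).card := by omega
    have h15 : 1 * n ≤ (setA D).card * n := Nat.mul_le_mul_right _ h14
    have h16 : 2 * p ≤ k * p := Nat.mul_le_mul_right _ hk
    omega
  obtain ⟨F, hF⟩ := hB
  have hFz : D.z F = 1 := (Finset.mem_filter.mp hF).2
  have hFne : D.z F ≠ 0 := by rw [hFz]; norm_num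
  have hmem : F ∈ principalBlock M G := by
    rw [mem_principal_iff hM hP hp2]
    obtain ⟨d, -⟩ := D.hcsurj ⟨0, D.t_pos⟩
    refine ⟨d, ?_⟩
    rw [D.inner_z hFne d, hFz]
    simp
  refine cent_of_member hP hp2 hM hmem ?_ (deg_B D hp2 hG hn hk hwk hw0 hFz)
  intro u hu hu1
  have h1 := D.val_z hp2 hFne (u := ⟨u, hu⟩) (fun h => hu1 (congrArg Subtype.val h))
  rw [hFz] at h1
  simpa using h1

omit [Fintype (IrrCharacter G)] [Fintype P] [Fintype (DD P p)] in
/-- If `k = 1` then `C(P) = P`. -/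
theorem cent_of_k_one [IsSimpleGroup G] (hP : Nat.card P = p) {Q₀ : Sylow p G}
    (hQ₀ : (Q₀ : Subgroup G) = P) (hcard : Nat.card (Sylow p G) = p + 1) : Cn P = P := by
  classical
  have hpp := hp.out.two_le
  have := Finite.one_lt_card_iff_nontrivial.mp (by rw [hcard]; omega : 1 < Nat.card (Sylow p G))
  obtain ⟨Q₁, hQ₁⟩ := exists_ne Q₀
  have hstab : stabilizer G Q₀ = Nn P := by
    subst hQ₀
    exact Sylow.stabilizer_eq_normalizer Q₀
  have hle : P ≤ Cn P := le_centralizer hP
  -- the kernel of the action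
  have hkernel : (MulAction.toPermHom G (Sylow p G)).ker = ⊥ := by
    rcases IsSimpleGroup.eq_bot_or_eq_top_of_normal (MulAction.toPermHom G (Sylow p G)).ker
      inferInstance with h | h
    · exact h
    · exfalso
      obtain ⟨u, hu⟩ := Cfsg.Agent.Lib.BrauerP.Data.exists_ne_one hP
      have hu1 : (u : G) ≠ 1 := fun h' => hu (Subtype.ext h')
      have h1 : (u : G) ∈ (MulAction.toPermHom G (Sylow p G)).ker := by rw [h]; trivial
      have h2 : (u : G) • Q₁ = Q₁ := by
        have := DFunLike.congr_fun (MonoidHom.mem_ker.mp h1) Q₁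
        simpa using this
      exact hQ₁ (fixed_unique hP hQ₀ u.2 hu1 h2)
  -- the map from `P` to the other points is bijective
  let φ : P → {Q : Sylow p G // Q ≠ Q₀} := fun u => ⟨(u : G) • Q₁, by
    intro h
    apply hQ₁
    have h1 : (u : G) ∈ stabilizer G Q₀ := by
      rw [hstab]
      exact Subgroup.le_normalizer u.2
    calc Q₁ = (u : G)⁻¹ • ((u : G) • Q₁) := by simp
      _ = (u : G)⁻¹ • Q₀ := by rw [h]
      _ = (u : G)⁻¹ • ((u : G) • Q₀) := by rw [h1]
      _ = Q₀ := by simp⟩
  have hφ : Function.Bijective φ := by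
    let _ : Fintype (Sylow p G) := Fintype.ofFinite _
    refine (Nat.bijective_iff_injective_and_card φ).mpr ⟨?_, ?_⟩
    · intro x y hxy
      have h1 : (x : G) • Q₁ = (y : G) • Q₁ := congrArg Subtype.val hxy
      by_contra hne
      have h2 : (y : G)⁻¹ * x ≠ 1 := by
        intro h3
        exact hne (Subtype.ext (inv_mul_eq_one.mp h3).symm)
      have h3 : ((y : G)⁻¹ * x) • Q₁ = Q₁ := by
        rw [mul_smul, h1, inv_smul_smul]
      exact hQ₁ (fixed_unique hP hQ₀ (P.mul_mem (P.inv_mem y.2) x.2) h2 h3)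
    · rw [hP, Nat.card_eq_fintype_card (α := {Q : Sylow p G // Q ≠ Q₀}), Fintype.card_subtype_compl,
        Fintype.card_subtype_eq, ← Nat.card_eq_fintype_card, hcard]
      omega
  -- elements of `C(P)` fixing `Q₁` are trivial
  have hfix : ∀ x ∈ Cn P, x • Q₁ = Q₁ → x = 1 := by
    intro x hx h
    have h1 : x ∈ (MulAction.toPermHom G (Sylow p G)).ker := by
      rw [MonoidHom.mem_ker]
      apply Equiv.ext
      intro Q
      show x • Q = Q
      by_cases hQ : Q = Q₀
      · subst hQ
        have h2 : x ∈ stabilizer G Q := by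
          rw [hstab]
          exact Subgroup.centralizer_le_normalizer _ hx
        exact mem_stabilizer_iff.mp h2
      · obtain ⟨u, hu⟩ := hφ.2 ⟨Q, hQ⟩
        have h2 : (u : G) • Q₁ = Q := congrArg Subtype.val hu
        have h3 : x * u = u * x := (Subgroup.mem_centralizer_iff.mp hx u u.2).symm
        rw [← h2, ← mul_smul, h3, mul_smul, h]
    rw [hkernel] at h1
    exact Subgroup.mem_bot.mp h1
  symm
  apply Subgroup.eq_of_le_of_card_ge hle
  rw [hP]
  have hcardT : Nat.card {Q : Sylow p G // Q ≠ Q₀} = p := by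
    exact (Nat.card_congr (Equiv.ofBijective φ hφ)).symm.trans hP
  rw [← hcardT]
  let ψ : Cn P → {Q : Sylow p G // Q ≠ Q₀} := fun x => ⟨(x : G) • Q₁, by
    intro h
    apply hQ₁
    have h1 : (x : G) ∈ stabilizer G Q₀ := by
      rw [hstab]
      exact Subgroup.centralizer_le_normalizer _ x.2
    calc Q₁ = (x : G)⁻¹ • ((x : G) • Q₁) := by simp
      _ = (x : G)⁻¹ • Q₀ := by rw [h]
      _ = (x : G)⁻¹ • ((x : G) • Q₀) := by rw [h1]
      _ = Q₀ := by simp⟩
  apply Nat.card_le_card_of_injective ψ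
  intro x y hxy
  have h1 : (x : G) • Q₁ = (y : G) • Q₁ := congrArg Subtype.val hxy
  have h2 : (y : G)⁻¹ * x = 1 := by
    apply hfix _ ((Cn P).mul_mem ((Cn P).inv_mem y.2) x.2)
    rw [mul_smul, h1, inv_smul_smul]
  exact Subtype.ext (inv_mul_eq_one.mp h2).symm

section Final

variable {G : Type u} [Group G] [Finite G]

/-- A simple non-cyclic group is perfect. -/
theorem perfect_of_simple [IsSimpleGroup G] (hG : ¬ IsCyclic G) : commutator G = ⊤ := by
  rcases IsSimpleGroup.eq_bot_or_eq_top_of_normal (commutator G) inferInstance with h | h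
  · exfalso
    apply hG
    have hcomm : ∀ a b : G, a * b = b * a := by
      intro a b
      have h1 : a * b * a⁻¹ * b⁻¹ ∈ commutator G := by
        rw [commutator_def]
        exact Subgroup.commutator_mem_commutator (Subgroup.mem_top a) (Subgroup.mem_top b)
      rw [h, Subgroup.mem_bot] at h1
      calc a * b = (a * b * a⁻¹ * b⁻¹) * (b * a) := by group
        _ = b * a := by rw [h1, one_mul]
    let _ : CommGroup G := { ‹Group G› with mul_comm := hcomm }
    exact isCyclic_of_prime_card (hp := ⟨IsSimpleGroup.prime_card⟩) rfl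
  · exact h

/-- In a perfect group, a group of order `2` has its normalizer in its centralizer. -/
theorem normalizer_le_of_two {P : Subgroup G} (hP : Nat.card P = 2) : Nn P ≤ Cn P := by
  have : Fact (Nat.Prime 2) := ⟨Nat.prime_two⟩
  intro a ha
  rw [Subgroup.mem_centralizer_iff]
  intro y hy
  by_cases hy1 : y = 1
  · subst hy1
    simp
  have h1 : a * y * a⁻¹ ∈ P := (Subgroup.mem_normalizer_iff.mp ha y).mp hy
  have h2 : a * y * a⁻¹ ≠ 1 := by
    intro h3
    apply hy1
    calc y = a⁻¹ * (a * y * a⁻¹) * a := by group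
      _ = 1 := by rw [h3]; group
  have hyz := eq_zpowers_of_mem hP hy hy1
  have hord : orderOf y = 2 := by
    rw [← hP, hyz, Nat.card_zpowers]
  have hy2 : y * y = 1 := by
    have := pow_orderOf_eq_one y
    rwa [hord, pow_two] at this
  rw [hyz] at h1
  obtain ⟨i, hi⟩ := Subgroup.mem_zpowers_iff.mp h1
  have h3 : y ^ (2 : ℤ) = 1 := by
    rw [zpow_two, hy2]
  have h4 : a * y * a⁻¹ = y := by
    rw [← hi] at h2 ⊢
    rcases Int.even_or_odd' i with ⟨c, rfl | rfl⟩
    · exfalso
      apply h2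
      rw [zpow_mul, h3, one_zpow]
    · rw [zpow_add, zpow_mul, zpow_one, h3, one_zpow, one_mul]
  exact (mul_inv_eq_iff_eq_mul.mp h4).symm

/-- **Brauer-Reynolds**. -/
theorem main [IsSimpleGroup G] (hG : ¬ IsCyclic G) (p : ℕ) (hp : p.Prime) (hdvd : p ∣ Nat.card G)
    (hbig : Nat.card G < p ^ 3) :
    (∃ (F : Type) (_ : Field F) (_ : Fintype F), Fintype.card F = p ∧ 3 < p ∧
      Nonempty (G ≃* Matrix.ProjectiveSpecialLinearGroup (Fin 2) F)) ∨
    (∃ (m : ℕ) (F : Type) (_ : Field F) (_ : Fintype F), Fintype.card F = 2 ^ m ∧ p = 2 ^ m + 1 ∧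
      3 < p ∧ Nonempty (G ≃* Matrix.ProjectiveSpecialLinearGroup (Fin 2) F)) := by
  classical
  have : Fact p.Prime := ⟨hp⟩
  let _ : Fintype G := Fintype.ofFinite G
  have := Cfsg.Agent.Lib.Char.Ortho.finite_irrCharacter (G := G)
  let _ := Fintype.ofFinite (IrrCharacter G)
  have hperf := perfect_of_simple hG
  have hpp := hp.two_le
  obtain ⟨Q₀⟩ : Nonempty (Sylow p G) := inferInstance
  -- a normal Sylow subgroup is impossible
  have hnormal : ∀ Q : Sylow p G, Nat.card Q ≠ 1 → ¬ (Q : Subgroup G).Normal := by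
    intro Q hQ1 hn
    rcases IsSimpleGroup.eq_bot_or_eq_top_of_normal (Q : Subgroup G) hn with h | h
    · apply hQ1
      show Nat.card (Q : Subgroup G) = 1
      rw [h]
      simp
    · have hPG : IsPGroup p G := by
        intro g
        have h1 : g ∈ (Q : Subgroup G) := by rw [h]; trivial
        obtain ⟨k, hk⟩ := Q.isPGroup' ⟨g, h1⟩
        refine ⟨k, ?_⟩
        have := congrArg Subtype.val hk
        simpa using this
      have hnt : Nontrivial G := IsSimpleGroup.toNontrivial
      have hcn := hPG.center_nontrivial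
      rcases IsSimpleGroup.eq_bot_or_eq_top_of_normal (Subgroup.center G) inferInstance with h2 | h2
      · obtain ⟨⟨c, hc⟩, hc1⟩ := exists_ne (1 : Subgroup.center G)
        rw [h2, Subgroup.mem_bot] at hc
        exact hc1 (Subtype.ext hc)
      · have h3 : commutator G ≤ ⊥ := by
          rw [commutator_def, Subgroup.commutator_le]
          intro a _ b _
          rw [commutatorElement_def, Subgroup.mem_bot]
          have h4 : a ∈ Subgroup.center G := by rw [h2]; trivial
          have h5 : b * a = a * b := Subgroup.mem_center_iff.mp h4 b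
          calc a * b * a⁻¹ * b⁻¹ = (b * a) * a⁻¹ * b⁻¹ := by rw [h5]
            _ = 1 := by group
        rw [hperf] at h3
        obtain ⟨x, hx⟩ := exists_ne (1 : G)
        exact hx (Subgroup.mem_bot.mp (h3 (Subgroup.mem_top x)))
  -- the order of the Sylow subgroup
  have hQm : Nat.card Q₀ = p ^ (Nat.card G).factorization p := Q₀.card_eq_multiplicity
  have hfac : 1 ≤ (Nat.card G).factorization p :=
    (hp.dvd_iff_one_le_factorization Nat.card_pos.ne').mp hdvd
  have hQle : Nat.card Q₀ ≤ Nat.card G := Nat.le_of_dvd Nat.card_pos (Subgroup.card_subgroup_dvd_card _)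
  have hfac3 : (Nat.card G).factorization p < 3 := by
    by_contra hcon
    push Not at hcon
    have : p ^ 3 ≤ p ^ (Nat.card G).factorization p := Nat.pow_le_pow_right (by omega) hcon
    omega
  have hfac1 : (Nat.card G).factorization p = 1 := by
    by_contra hcon
    have h2 : (Nat.card G).factorization p = 2 := by omega
    rw [h2] at hQm
    -- the Sylow subgroup would be normal
    have h3 := Q₀.card_mul_index
    rw [hQm] at h3
    have h4 : Q₀.index < p := by
      by_contra h5
      push Not at h5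
      have h6 : p ^ 2 * p ≤ p ^ 2 * Q₀.index := Nat.mul_le_mul_left _ h5
      rw [h3] at h6
      have h7 : p ^ 3 = p ^ 2 * p := by ring
      omega
    have h5 : Nat.card (Sylow p G) ∣ Q₀.index := Q₀.card_dvd_index
    have h6 : Q₀.index ≠ 0 := by
      intro h0
      rw [h0, mul_zero] at h3
      exact Nat.card_pos.ne' h3.symm
    have h7 := Nat.le_of_dvd (Nat.pos_of_ne_zero h6) h5
    have h8 : Nat.card (Sylow p G) ≡ 1 [MOD p] := card_sylow_modEq_one p G
    have h9 : Nat.card (Sylow p G) = 1 := by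
      have h10 : Nat.card (Sylow p G) % p = 1 % p := h8
      rw [Nat.mod_eq_of_lt (by omega), Nat.mod_eq_of_lt (by omega)] at h10
      exact h10
    have h10 : (Subgroup.normalizer ((Q₀ : Subgroup G) : Set G)).index = 1 := by
      rw [← h9]
      exact (Sylow.card_eq_index_normalizer Q₀).symm
    have h11 : (Q₀ : Subgroup G).Normal :=
      Subgroup.normalizer_eq_top_iff.mp (Subgroup.index_eq_one.mp h10)
    refine hnormal Q₀ ?_ h11
    rw [hQm]
    have : 1 < p ^ 2 := Nat.one_lt_pow (by norm_num) (by omega)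
    omega
  have hQc : Nat.card Q₀ = p := by
    rw [hQm, hfac1, pow_one]
  have hp2 : ¬ p ^ 2 ∣ Nat.card G := by
    intro h
    have h2 : 2 ≤ (Nat.card G).factorization p :=
      (hp.pow_dvd_iff_le_factorization Nat.card_pos.ne').mp h
    omega
  obtain ⟨P, hQ₀⟩ : ∃ P : Subgroup G, (Q₀ : Subgroup G) = P := ⟨_, rfl⟩
  let _ : Fintype P := Fintype.ofFinite _
  have hP : Nat.card P = p := by rw [← hQ₀]; exact hQc
  have hburn := Cfsg.Agent.Lib.BrauerP.Main.not_normalizer_le hperf Q₀ hQc
  rw [hQ₀] at hburn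
  have hodd : p ≠ 2 := by
    rintro rfl
    exact hburn (normalizer_le_of_two hP)
  set e := (Cn P).relIndex (Nn P) with he
  have hCN : Cn P ≤ Nn P := Subgroup.centralizer_le_normalizer _
  have hN : Nat.card (Nn P) = e * Nat.card (Cn P) := by
    have h1 := Subgroup.card_mul_index ((Cn P).subgroupOf (Nn P))
    have h2 : Nat.card ((Cn P).subgroupOf (Nn P)) = Nat.card (Cn P) :=
      Nat.card_congr (Subgroup.subgroupOfEquivOfLe hCN).toEquiv
    rw [h2] at h1
    rw [← h1, he, mul_comm]
    rfl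
  have he0 : 0 < e := by
    rcases Nat.eq_zero_or_pos e with h | h
    · rw [h, zero_mul] at hN
      exact absurd hN Nat.card_pos.ne'
    · exact h
  have he2 : 2 ≤ e := by
    by_contra hcon
    have h1 : e = 1 := by omega
    rw [h1, one_mul] at hN
    have h2 : Cn P = Nn P := Subgroup.eq_of_le_of_card_ge hCN (by rw [hN])
    apply hburn
    show Nn P ≤ Cn P
    rw [h2]
  have hPC : P ≤ Cn P := le_centralizer hP
  obtain ⟨v, hv⟩ : p ∣ Nat.card (Cn P) := by
    rw [← hP]
    exact Subgroup.card_dvd_of_le hPC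
  have hv0 : 0 < v := by
    rcases Nat.eq_zero_or_pos v with h | h
    · rw [h, mul_zero] at hv
      exact absurd hv Nat.card_pos.ne'
    · exact h
  obtain ⟨k, hnk⟩ : ∃ k : ℕ, Nat.card (Sylow p G) = 1 + k * p := by
    have h1 : Nat.card (Sylow p G) ≡ 1 [MOD p] := card_sylow_modEq_one p G
    have h2 : 1 ≤ Nat.card (Sylow p G) := Nat.card_pos
    obtain ⟨k, hk⟩ := (Nat.modEq_iff_dvd' h2).mp h1.symm
    exact ⟨k, by rw [mul_comm]; omega⟩
  have hindex : (Nn P).index = Nat.card (Sylow p G) := by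
    have h1 := Sylow.card_eq_index_normalizer Q₀
    subst hQ₀
    exact h1.symm
  obtain ⟨n, hn'⟩ : ∃ n, n = Nat.card (Sylow p G) := ⟨_, rfl⟩
  have hnn : n = 1 + k * p := by rw [hn', hnk]
  have hG' : Nat.card G = p * ((e * v) * n) := by
    have h1 := Subgroup.card_mul_index (Nn P)
    rw [hN, hv, hindex, ← hn'] at h1
    rw [← h1]
    ring
  have hk1 : 1 ≤ k := by
    by_contra hcon
    have hk0 : k = 0 := by omega
    rw [hk0, zero_mul, add_zero] at hnn
    have h1 : Nn P = ⊤ := by
      rw [← Subgroup.index_eq_one, hindex, ← hn', hnn]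
    have h2 : P.Normal := Subgroup.normalizer_eq_top_iff.mp h1
    rw [← hQ₀] at h2
    refine hnormal Q₀ ?_ h2
    rw [hQc]
    omega
  have hW : (e * v) * n < p * p := by
    have h1 : p * ((e * v) * n) < p * (p * p) := by
      rw [← hG']
      calc Nat.card G < p ^ 3 := hbig
        _ = _ := by ring
    exact Nat.lt_of_mul_lt_mul_left h1
  have hwk : (e * v) * k < p := by
    have h2 := hW
    rw [hnn] at h2
    have h3 : (e * v) * k * p < p * p := by
      calc (e * v) * k * p ≤ (e * v) * (1 + k * p) := by nlinarith [Nat.zero_le (e * v)]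
        _ < p * p := h2
    exact Nat.lt_of_mul_lt_mul_right h3
  have hw0 : 0 < e * v := Nat.mul_pos he0 hv0
  -- `C(P) = P`
  have hCP : Cn P = P := by
    by_cases hk : k = 1
    · apply Cfsg.Agent.Lib.BrauerP.Reynolds.cent_of_k_one hP hQ₀
      rw [hnk, hk]
      omega
    · have hlin := Cfsg.Agent.Lib.BrauerP.Main.hlin_of_perfect (G := G) hperf
      obtain ⟨M, hM⟩ := Cfsg.Agent.Lib.BlockH.Basic.exists_isPModular hp
      have := finite_DD (p := p) (P := P) hP hp2
      let _ : Fintype (DD P p) := Fintype.ofFinite _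
      have hcount : Nat.card (principalBlock M G) = e + (p - 1) / e := by
        have h1 := (Cfsg.Agent.S0960.result p M hM hodd Q₀ hQc e (by rw [hQ₀])).1
        exact h1
      obtain ⟨D⟩ := exists_BD hM hP hp2 e hN hodd hcount
      exact cent_eq D hp2 hM hG' hnn (by omega) hwk hw0 he2 hlin
  -- the generator
  obtain ⟨z, hz, hz1⟩ : ∃ z ∈ P, z ≠ 1 := by
    obtain ⟨u, hu⟩ := Cfsg.Agent.Lib.BrauerP.Data.exists_ne_one hP
    exact ⟨u, u.2, fun h => hu (Subtype.ext h)⟩
  have hzP := eq_zpowers_of_mem hP hz hz1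
  have hord : orderOf z = p := by
    rw [← hP, hzP, Nat.card_zpowers]
  have hC : Subgroup.centralizer ({z} : Set G) = Subgroup.zpowers z := by
    rw [← hzP, ← centralizer_singleton_eq hP hz hz1, hCP]
  have hv1 : v = 1 := by
    rw [hCP, hP] at hv
    have : p * 1 = p * v := by omega
    exact (Nat.eq_of_mul_eq_mul_left (by omega) this).symm
  have hn2 : 2 * Nat.card (Sylow p G) < (p + 1) * (p + 2) := by
    rw [← hn']
    rw [hv1, mul_one] at hW
    have h3 : 2 * n ≤ e * n := Nat.mul_le_mul_right _ he2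
    nlinarith
  exact Cfsg.Agent.Lib.BrauerP.Main.main hperf z hord hC hn2

end Final

end Cfsg.Agent.Lib.BrauerP.Reynolds
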