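import Cfsg.Agent.Lib.BrauerP.Values
import Cfsg.Agent.Lib.BrauerP.Arith

/-!
# The degrees in the principal block, when the number of Sylow subgroups is small
-/

set_option autoImplicit false
set_option linter.unusedSectionVars false

namespace Cfsg.Agent.Lib.BrauerP.Data

open Cfsg Module
open Cfsg.Agent.Lib.Char.Basic Cfsg.Agent.Lib.Char.Ortho Cfsg.Agent.Lib.Char.Complete
open Cfsg.Agent.Lib.Char.Degree Cfsg.Agent.Lib.Char.Induced
open Cfsg.Agent.Lib.ExcP.Gram Cfsg.Agent.Lib.ExcP.Dual Cfsg.Agent.Lib.ExcP.Core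
open Cfsg.Agent.Lib.ExcP.Inst Cfsg.Agent.Lib.ExcP.BlockHA
open Cfsg.Agent.Lib.Small.ExcPerm
open Cfsg.Agent.Lib.BrauerP.Fourier Cfsg.Agent.Lib.BrauerP.Arith
open scoped ComplexConjugate Classical

universe u

variable {G : Type u} [Group G] [Fintype G] [Fintype (IrrCharacter G)] {p e : ℕ} [hp : Fact p.Prime]
  {P : Subgroup G} {hP : Nat.card P = p} [Fintype P] [Fintype (DD P p)]

theorem charDegree_sq_le (j : IrrCharacter G) : charDegree (j : G → ℂ) ^ 2 ≤ Nat.card G := by
  rw [← sum_charDegree_sq]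
  exact Finset.single_le_sum (f := fun i : IrrCharacter G => charDegree (i : G → ℂ) ^ 2)
    (fun _ _ => Nat.zero_le _) (Finset.mem_univ j)

theorem charDegree_oneIrr : charDegree ((oneIrr G : IrrCharacter G) : G → ℂ) = 1 :=
  charDegree_eq_of_eq_natCast (by simp [oneIrr])

namespace BD

variable (D : BD P p e hP) (hp2 : ¬ p ^ 2 ∣ Nat.card G) {n k : ℕ}
  (hG : Nat.card G = p * (e * n)) (hn : n = 1 + k * p) (hk1 : 1 ≤ k) (hk2 : 2 * k ≤ p + 1)
  (hlin : ∀ j : IrrCharacter G, charDegree (j : G → ℂ) = 1 → j = oneIrr G)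

include hG hn hk1

/-- A degree prime to `p` divides `e * n`. -/
theorem exists_cofactor {j : IrrCharacter G} (hj : ¬ p ∣ charDegree (j : G → ℂ)) :
    ∃ f', charDegree (j : G → ℂ) * f' = e * (1 + k * p) := by
  have h1 : charDegree (j : G → ℂ) ∣ p * (e * n) := by
    rw [← hG]
    exact charDegree_dvd_card j.2
  have h2 : Nat.Coprime (charDegree (j : G → ℂ)) p :=
    ((Nat.Prime.coprime_iff_not_dvd hp.out).mpr hj).symm
  have h3 := h2.dvd_of_dvd_mul_left h1
  rw [hn] at h3
  obtain ⟨f', hf'⟩ := h3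
  exact ⟨f', hf'.symm⟩

/-- The cofactor of a degree is not `1`. -/
theorem cofactor_ne_one (he0 : 0 < e) (j : IrrCharacter G) {f' : ℕ}
    (h : charDegree (j : G → ℂ) * f' = e * (1 + k * p)) : f' ≠ 1 := by
  rintro rfl
  rw [mul_one] at h
  have h1 := charDegree_sq_le j
  rw [h, hG, hn, pow_two] at h1
  have hpos : 0 < e * (1 + k * p) := by positivity
  have h2 : e * (1 + k * p) ≤ p := Nat.le_of_mul_le_mul_right (by
    calc e * (1 + k * p) * (e * (1 + k * p)) ≤ p * (e * (1 + k * p)) := h1) hpos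
  have h3 : 1 * (1 + k * p) ≤ e * (1 + k * p) := Nat.mul_le_mul_right _ he0
  have h4 : 1 * p ≤ k * p := Nat.mul_le_mul_right _ hk1
  omega

include hp2 hk2 hlin

/-- Members of the block with `z = -1`. -/
theorem deg_zm {j : IrrCharacter G} (hj : D.z j = -1) (hj1 : j ≠ oneIrr G) :
    charDegree (j : G → ℂ) = n ∧ aP (hP := hP) hp2 j = k + 1 := by
  have hp1 := hp.out.two_le
  have h1 := D.deg_z hp2 (j := j) (by rw [hj]; norm_num)
  rw [hj] at h1
  set a := aP (hP := hP) hp2 j with ha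
  have hpos : 0 < charDegree (j : G → ℂ) := charDegree_pos j.2
  have ha1 : 1 ≤ a := by
    by_contra hlt
    have h2 : a = 0 := by omega
    rw [h2] at h1
    have h3 : (2 : ℤ) ≤ p := by exact_mod_cast hp1
    push_cast at h1
    have h4 : (0 : ℤ) < charDegree (j : G → ℂ) := by exact_mod_cast hpos
    linarith
  obtain ⟨h, hah⟩ : ∃ h, a = h + 1 := ⟨a - 1, by omega⟩
  have hdeg : charDegree (j : G → ℂ) = h * p + 1 := by
    have : (charDegree (j : G → ℂ) : ℤ) = (h : ℤ) * p + 1 := by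
      rw [h1, hah]
      push_cast
      ring
    exact_mod_cast this
  have hh1 : 1 ≤ h := by
    by_contra hlt
    have h2 : h = 0 := by omega
    rw [h2, zero_mul, zero_add] at hdeg
    exact hj1 (hlin j hdeg)
  have hndvd : ¬ p ∣ charDegree (j : G → ℂ) := by
    rw [hdeg]
    intro h2
    have h3 : p ∣ 1 := (Nat.dvd_add_right (dvd_mul_left p h)).mp h2
    exact hp.out.one_lt.ne' (Nat.dvd_one.mp h3)
  obtain ⟨f', hf'⟩ := exists_cofactor hG hn hk1 hndvd
  rw [hdeg] at hf'
  obtain ⟨h2, h3⟩ := deg_plus hp1 D.hte hk2 hh1 hf'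
  refine ⟨?_, by omega⟩
  rw [hdeg, h2, hn]
  ring

/-- Members of the block with `z = 1`. -/
theorem deg_zp {j : IrrCharacter G} (hj : D.z j = 1) :
    charDegree (j : G → ℂ) = p - 1 ∧ aP (hP := hP) hp2 j = 0 ∧ ∃ c : ℕ, c * D.t = k + 1 := by
  have hp1 := hp.out.two_le
  have h1 := D.deg_z hp2 (j := j) (by rw [hj]; norm_num)
  rw [hj] at h1
  set a := aP (hP := hP) hp2 j with ha
  have hdeg : charDegree (j : G → ℂ) + 1 = (a + 1) * p := by
    have : (charDegree (j : G → ℂ) : ℤ) + 1 = ((a : ℤ) + 1) * p := by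
      rw [h1]
      ring
    exact_mod_cast this
  have hndvd : ¬ p ∣ charDegree (j : G → ℂ) := by
    intro h2
    have h3 : p ∣ charDegree (j : G → ℂ) + 1 := by rw [hdeg]; exact dvd_mul_left _ _
    have h4 : p ∣ 1 := (Nat.dvd_add_right h2).mp h3
    exact hp.out.one_lt.ne' (Nat.dvd_one.mp h4)
  obtain ⟨f', hf'⟩ := exists_cofactor hG hn hk1 hndvd
  have hne := cofactor_ne_one hG hn hk1 D.e_pos j hf'
  obtain ⟨h2, h3, c, h4, h5⟩ := deg_minus_of_ne hp1 D.hte hk2 hdeg hf' hne
  exact ⟨h3, by omega, c, h5⟩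

/-- The exceptional members, in the case `ε = 1`. -/
theorem deg_νp (hε : D.ε = 1) (i : Fin D.t) :
    D.D₀ = e ∧ aP (hP := hP) hp2 (D.ν i) = 0 := by
  have hp1 := hp.out.two_le
  have he0 := D.e_pos
  have h1 := D.deg_ν hp2 i
  rw [hε, one_mul] at h1
  set a := aP (hP := hP) hp2 (D.ν i) with ha
  have hle : e < p := by
    have h2 := D.hte
    have h3 : 1 * e ≤ D.t * e := Nat.mul_le_mul_right _ D.t_pos
    omega
  have hndvde : ¬ p ∣ e := fun h => absurd (Nat.le_of_dvd he0 h) (by omega)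
  have hdeg : D.D₀ = e + p * a := by
    have : (D.D₀ : ℤ) = (e : ℤ) + p * a := h1
    exact_mod_cast this
  have hndvd : ¬ p ∣ charDegree (D.ν i : G → ℂ) := by
    rw [D.hνdeg, hdeg]
    intro h2
    exact hndvde ((Nat.dvd_add_left (dvd_mul_right p a)).mp h2)
  obtain ⟨f', hf'⟩ := exists_cofactor hG hn hk1 hndvd
  have hne := cofactor_ne_one hG hn hk1 he0 _ hf'
  rw [D.hνdeg] at hf'
  have hf'0 : 0 < f' := by
    rcases Nat.eq_zero_or_pos f' with h | h
    · rw [h, mul_zero] at hf'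
      have : 0 < e * (1 + k * p) := by positivity
      omega
    · exact h
  -- `f' ≡ 1` modulo `p`
  have hdvd : (p : ℤ) ∣ (f' : ℤ) - 1 := by
    have h2 : (e : ℤ) * ((f' : ℤ) - 1) = p * ((e : ℤ) * k - a * f') := by
      have h3 : ((D.D₀ : ℤ)) * f' = e * (1 + k * p) := by exact_mod_cast hf'
      rw [h1] at h3
      linear_combination h3
    have h3 : (p : ℤ) ∣ (e : ℤ) * ((f' : ℤ) - 1) := ⟨_, h2⟩
    have hpZ : Prime (p : ℤ) := Nat.prime_iff_prime_int.mp hp.out
    rcases hpZ.dvd_or_dvd h3 with h4 | h4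
    · exact absurd (Int.natCast_dvd_natCast.mp h4) hndvde
    · exact h4
  obtain ⟨m, hm⟩ := hdvd
  have hm0 : 0 ≤ m := by
    by_contra hneg
    have h2 : m ≤ -1 := by omega
    have h3 : (2 : ℤ) ≤ p := by exact_mod_cast hp1
    have h4 : (1 : ℤ) ≤ f' := by exact_mod_cast hf'0
    nlinarith
  obtain ⟨h, rfl⟩ : ∃ h : ℕ, m = h := ⟨m.toNat, by omega⟩
  have hf'eq : f' = h * p + 1 := by
    have : (f' : ℤ) = (h : ℤ) * p + 1 := by linarith
    exact_mod_cast this
  have hh1 : 1 ≤ h := by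
    by_contra hlt
    have h2 : h = 0 := by omega
    rw [h2, zero_mul, zero_add] at hf'eq
    exact hne hf'eq
  rw [mul_comm, hf'eq] at hf'
  obtain ⟨-, h3⟩ := deg_plus hp1 D.hte hk2 hh1 hf'
  refine ⟨h3, ?_⟩
  rw [h3] at hdeg
  have h4 : p * a = 0 := by omega
  exact (Nat.mul_eq_zero.mp h4).resolve_left (by omega)

/-- The exceptional members, in the case `ε = -1`. -/
theorem deg_νm (hε : D.ε = -1) (i : Fin D.t) :
    ∃ c : ℕ, D.D₀ + e = c * p ∧ c * D.t = k + 1 ∧ aP (hP := hP) hp2 (D.ν i) = c := by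
  have hp1 := hp.out.two_le
  have he0 := D.e_pos
  have h1 := D.deg_ν hp2 i
  rw [hε] at h1
  set a := aP (hP := hP) hp2 (D.ν i) with ha
  have hle : e < p := by
    have h2 := D.hte
    have h3 : 1 * e ≤ D.t * e := Nat.mul_le_mul_right _ D.t_pos
    omega
  have hndvde : ¬ p ∣ e := fun h => absurd (Nat.le_of_dvd he0 h) (by omega)
  have hdeg : D.D₀ + e = a * p := by
    have : (D.D₀ : ℤ) + e = (a : ℤ) * p := by rw [h1]; ring
    exact_mod_cast this
  have hndvd : ¬ p ∣ charDegree (D.ν i : G → ℂ) := by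
    rw [D.hνdeg]
    intro h2
    have h3 : p ∣ D.D₀ + e := by rw [hdeg]; exact dvd_mul_left _ _
    exact hndvde ((Nat.dvd_add_right h2).mp h3)
  obtain ⟨f', hf'⟩ := exists_cofactor hG hn hk1 hndvd
  rw [D.hνdeg] at hf'
  have hD₀1 : D.D₀ ≠ 1 := by
    intro h2
    have h3 : charDegree (D.ν i : G → ℂ) = 1 := by rw [D.hνdeg, h2]
    have h4 := hlin _ h3
    have h5 := D.hνz i
    rw [h4, D.hzone] at h5
    norm_num at h5
  have hf'0 : 0 < f' := by
    rcases Nat.eq_zero_or_pos f' with h | h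
    · rw [h, mul_zero] at hf'
      have : 0 < e * (1 + k * p) := by positivity
      omega
    · exact h
  -- `f' ≡ -1` modulo `p`
  have hdvd : (p : ℤ) ∣ (f' : ℤ) + 1 := by
    have h2 : (e : ℤ) * ((f' : ℤ) + 1) = p * ((a : ℤ) * f' - e * k) := by
      have h3 : ((D.D₀ : ℤ)) * f' = e * (1 + k * p) := by exact_mod_cast hf'
      rw [h1] at h3
      linear_combination -h3
    have h3 : (p : ℤ) ∣ (e : ℤ) * ((f' : ℤ) + 1) := ⟨_, h2⟩
    have hpZ : Prime (p : ℤ) := Nat.prime_iff_prime_int.mp hp.out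
    rcases hpZ.dvd_or_dvd h3 with h4 | h4
    · exact absurd (Int.natCast_dvd_natCast.mp h4) hndvde
    · exact h4
  obtain ⟨m, hm⟩ := hdvd
  have hm0 : 0 ≤ m := by
    by_contra hneg
    have h2 : m ≤ -1 := by omega
    have h3 : (2 : ℤ) ≤ p := by exact_mod_cast hp1
    have h4 : (0 : ℤ) ≤ f' := by positivity
    nlinarith
  obtain ⟨l, rfl⟩ : ∃ l : ℕ, m = l := ⟨m.toNat, by omega⟩
  have hf'eq : f' + 1 = l * p := by
    have : (f' : ℤ) + 1 = (l : ℤ) * p := by rw [hm]; ring
    exact_mod_cast this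
  rw [mul_comm] at hf'
  rcases deg_minus hp1 D.hte hk2 hf'eq hf' with ⟨-, c, h3, h4⟩ | h2
  · refine ⟨c, h3, h4, ?_⟩
    have h5 : a * p = c * p := by rw [← hdeg, h3]
    exact Nat.eq_of_mul_eq_mul_right (by omega) h5
  · exact absurd h2 hD₀1

omit hG hn hk1 hk2 hlin hp2 in
/-- The members with `z = -1`, other than `1`. -/
noncomputable def setA : Finset (IrrCharacter G) :=
  Finset.univ.filter (fun j => D.z j = -1 ∧ j ≠ oneIrr G)

/-- The members with `z = 1`. -/
noncomputable def setB : Finset (IrrCharacter G) := Finset.univ.filter (fun j => D.z j = 1)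

omit hG hn hk1 hk2 hlin hp2 in
/-- The count. -/
theorem card_setA_add : (setA D).card + (setB D).card + 1 = e := by
  have h1 := D.hcard
  have h2 : Finset.univ.filter (fun j => D.z j ≠ 0) = insert (oneIrr G) (setA D ∪ setB D) := by
    ext j
    simp only [Finset.mem_filter, Finset.mem_univ, true_and, Finset.mem_insert, Finset.mem_union, setA, setB]
    constructor
    · intro hj
      by_cases h3 : j = oneIrr G
      · exact Or.inl h3
      · right
        rcases D.hz j with h | h | h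
        · exact absurd h hj
        · exact Or.inr h
        · exact Or.inl ⟨h, h3⟩
    · rintro (rfl | ⟨h, -⟩ | h)
      · rw [D.hzone]; norm_num
      · rw [h]; norm_num
      · rw [h]; norm_num
  have hdisj : Disjoint (setA D) (setB D) := by
    rw [Finset.disjoint_left]
    intro j hj hj'
    have h3 := (Finset.mem_filter.mp hj).2.1
    have h4 := (Finset.mem_filter.mp hj').2
    rw [h3] at h4
    norm_num at h4
  have hone : oneIrr G ∉ setA D ∪ setB D := by
    intro h
    rcases Finset.mem_union.mp h with h | h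
    · exact (Finset.mem_filter.mp h).2.2 rfl
    · have h4 := (Finset.mem_filter.mp h).2
      rw [D.hzone] at h4
      norm_num at h4
  rw [h2, Finset.card_insert_of_notMem hone, Finset.card_union_of_disjoint hdisj] at h1
  exact h1

omit hG hn hk1 hk2 hlin hp2 in
/-- Sums over the block. -/
theorem sum_z (f : IrrCharacter G → ℂ) :
    ∑ j, (D.z j : ℂ) * f j = -f (oneIrr G) - (∑ j ∈ setA D, f j) + ∑ j ∈ setB D, f j := by
  have h2 : ∑ j, (D.z j : ℂ) * f j = ∑ j ∈ Finset.univ.filter (fun j => D.z j ≠ 0), (D.z j : ℂ) * f j := by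
    symm
    apply Finset.sum_subset (Finset.subset_univ _)
    intro j _ hj
    have h3 : D.z j = 0 := by
      by_contra h4
      exact hj (Finset.mem_filter.mpr ⟨Finset.mem_univ _, h4⟩)
    simp [h3]
  have h3 : Finset.univ.filter (fun j => D.z j ≠ 0) = insert (oneIrr G) (setA D ∪ setB D) := by
    ext j
    simp only [Finset.mem_filter, Finset.mem_univ, true_and, Finset.mem_insert, Finset.mem_union, setA, setB]
    constructor
    · intro hj
      by_cases h3 : j = oneIrr G
      · exact Or.inl h3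
      · right
        rcases D.hz j with h | h | h
        · exact absurd h hj
        · exact Or.inr h
        · exact Or.inl ⟨h, h3⟩
    · rintro (rfl | ⟨h, -⟩ | h)
      · rw [D.hzone]; norm_num
      · rw [h]; norm_num
      · rw [h]; norm_num
  have hdisj : Disjoint (setA D) (setB D) := by
    rw [Finset.disjoint_left]
    intro j hj hj'
    have h3 := (Finset.mem_filter.mp hj).2.1
    have h4 := (Finset.mem_filter.mp hj').2
    rw [h3] at h4
    norm_num at h4
  have hone : oneIrr G ∉ setA D ∪ setB D := by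
    intro h
    rcases Finset.mem_union.mp h with h | h
    · exact (Finset.mem_filter.mp h).2.2 rfl
    · have h4 := (Finset.mem_filter.mp h).2
      rw [D.hzone] at h4
      norm_num at h4
  rw [h2, h3, Finset.sum_insert hone, Finset.sum_union hdisj, D.hzone]
  have h4 : ∑ j ∈ setA D, (D.z j : ℂ) * f j = - ∑ j ∈ setA D, f j := by
    rw [← Finset.sum_neg_distrib]
    refine Finset.sum_congr rfl fun j hj => ?_
    rw [(Finset.mem_filter.mp hj).2.1]
    simp
  have h5 : ∑ j ∈ setB D, (D.z j : ℂ) * f j = ∑ j ∈ setB D, f j := by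
    refine Finset.sum_congr rfl fun j hj => ?_
    rw [(Finset.mem_filter.mp hj).2]
    simp
  rw [h4, h5]
  push_cast
  ring

include D hG hn hk1 hk2 hlin hp2

/-- The relation among the degrees, with `A` and `B`. -/
theorem card_rel : (1 : ℤ) + (setA D).card * n - (setB D).card * ((p : ℤ) - 1) = D.ε * D.D₀ := by
  have hp1 := hp.out.two_le
  obtain ⟨i⟩ : Nonempty (Fin D.t) := ⟨⟨0, D.t_pos⟩⟩
  have h1 := D.reg_rel i (g := 1) (by
    rw [orderOf_one]
    exact hp.out.one_lt.ne' ∘ Nat.dvd_one.mp)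
  rw [sum_z D (fun j => (j : G → ℂ) 1)] at h1
  have h2 : ((oneIrr G : IrrCharacter G) : G → ℂ) 1 = 1 := rfl
  have h3 : ∑ j ∈ setA D, (j : G → ℂ) 1 = ((setA D).card : ℂ) * n := by
    rw [← nsmul_eq_mul, ← Finset.sum_const]
    refine Finset.sum_congr rfl fun j hj => ?_
    obtain ⟨h4, h5⟩ := (Finset.mem_filter.mp hj).2
    rw [← charDegree_natCast (isCharacter_of_isIrrCharacter j.2),
      (deg_zm D hp2 hG hn hk1 hk2 hlin h4 h5).1]
  have h4 : ∑ j ∈ setB D, (j : G → ℂ) 1 = ((setB D).card : ℂ) * ((p : ℂ) - 1) := by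
    rw [← nsmul_eq_mul, ← Finset.sum_const]
    refine Finset.sum_congr rfl fun j hj => ?_
    have h5 := (Finset.mem_filter.mp hj).2
    rw [← charDegree_natCast (isCharacter_of_isIrrCharacter j.2),
      (deg_zp D hp2 hG hn hk1 hk2 hlin h5).1, Nat.cast_sub (by omega)]
    simp
  rw [h2, h3, h4, ← charDegree_natCast (isCharacter_of_isIrrCharacter (D.ν i).2), D.hνdeg] at h1
  have h5 : (((1 : ℤ) + (setA D).card * n - (setB D).card * ((p : ℤ) - 1) : ℤ) : ℂ) =
      ((D.ε * D.D₀ : ℤ) : ℂ) := by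
    push_cast
    linear_combination -h1
  exact_mod_cast h5

/-- The case `ε = 1`. -/
theorem rel_p (hε : D.ε = 1) : e = 1 + (setA D).card * (k + 1) := by
  obtain ⟨i⟩ : Nonempty (Fin D.t) := ⟨⟨0, D.t_pos⟩⟩
  have h1 := card_rel D hp2 hG hn hk1 hk2 hlin
  have h2 := (deg_νp D hp2 hG hn hk1 hk2 hlin hε i).1
  have h3 := card_setA_add D
  rw [hε, h2, hn] at h1
  have hp0 : (p : ℤ) ≠ 0 := by exact_mod_cast hp.out.ne_zero
  have h4 : ((setB D).card : ℤ) = e - 1 - (setA D).card := by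
    have : ((setA D).card : ℤ) + (setB D).card + 1 = e := by exact_mod_cast h3
    linarith
  rw [h4] at h1
  push_cast at h1
  have h5 : (p : ℤ) * ((e : ℤ) - 1 - (setA D).card * (k + 1)) = 0 := by
    linear_combination -h1
  have h6 := (mul_eq_zero.mp h5).resolve_left hp0
  have h7 : (e : ℤ) = 1 + (setA D).card * (k + 1) := by linarith
  exact_mod_cast h7

/-- The case `ε = -1`. -/
theorem rel_m (hε : D.ε = -1) {c : ℕ} (hc : D.D₀ + e = c * p) (hc2 : c * D.t = k + 1) :
    e = 1 + c * ((setA D).card * D.t + 1) := by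
  have h1 := card_rel D hp2 hG hn hk1 hk2 hlin
  have h3 := card_setA_add D
  rw [hε, hn] at h1
  have hp0 : (p : ℤ) ≠ 0 := by exact_mod_cast hp.out.ne_zero
  have h4 : ((setB D).card : ℤ) = e - 1 - (setA D).card := by
    have : ((setA D).card : ℤ) + (setB D).card + 1 = e := by exact_mod_cast h3
    linarith
  have h5 : (D.D₀ : ℤ) = c * p - e := by
    have : (D.D₀ : ℤ) + e = c * p := by exact_mod_cast hc
    linarith
  have h6 : (c : ℤ) * D.t = k + 1 := by exact_mod_cast hc2
  rw [h4, h5] at h1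
  push_cast at h1
  have h7 : (p : ℤ) * ((e : ℤ) - 1 - (setA D).card * (k + 1) - c) = 0 := by
    linear_combination -h1
  have h8 := (mul_eq_zero.mp h7).resolve_left hp0
  have h9 : (e : ℤ) = 1 + c * ((setA D).card * D.t + 1) := by
    linear_combination h8 - ((setA D).card : ℤ) * h6
  exact_mod_cast h9

end BD

end Cfsg.Agent.Lib.BrauerP.Data
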