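import Cfsg.Agent.Lib.BrauerP.StepA

/-!
# Splitting sums over the irreducible characters; the case `ε = 1`
-/

set_option autoImplicit false
set_option linter.unusedSectionVars false

namespace Cfsg.Agent.Lib.BrauerP.Data

open Cfsg Module
open Cfsg.Agent.Lib.Char.Basic Cfsg.Agent.Lib.Char.Ortho Cfsg.Agent.Lib.Char.Complete
open Cfsg.Agent.Lib.Char.Degree Cfsg.Agent.Lib.Char.Induced
open Cfsg.Agent.Lib.ExcP.Gram Cfsg.Agent.Lib.ExcP.Dual Cfsg.Agent.Lib.ExcP.Core
open Cfsg.Agent.Lib.ExcP.Inst Cfsg.Agent.Lib.ExcP.BlockHA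
open Cfsg.Agent.Lib.Small.ExcPerm
open Cfsg.Agent.Lib.BrauerP.Fourier Cfsg.Agent.Lib.BrauerP.Arith
open scoped ComplexConjugate Classical

universe u

variable {G : Type u} [Group G] [Fintype G] [Fintype (IrrCharacter G)] {p e : ℕ} [hp : Fact p.Prime]
  {P : Subgroup G} {hP : Nat.card P = p} [Fintype P] [Fintype (DD P p)]

namespace BD

variable (D : BD P p e hP)

/-- The members vanishing on `P`. -/
noncomputable def setC : Finset (IrrCharacter G) :=
  Finset.univ.filter (fun j => D.z j = 0 ∧ j ∉ Set.range D.ν)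

/-- Splitting a sum over the irreducible characters. -/
theorem sum_split {β : Type*} [AddCommMonoid β] (f : IrrCharacter G → β) :
    ∑ j, f j = f (oneIrr G) + ((∑ j ∈ setA D, f j) + ((∑ j ∈ setB D, f j) +
      ((∑ i, f (D.ν i)) + ∑ j ∈ setC D, f j))) := by
  have hdY : ∑ i, f (D.ν i) = ∑ j ∈ Finset.univ.image D.ν, f j := by
    rw [Finset.sum_image (fun a _ b _ h => D.hνinj h)]
  rw [hdY]
  have hdisjAB : Disjoint (setA D) (setB D) := by
    rw [Finset.disjoint_left]
    intro j hj hj'
    have h3 := (Finset.mem_filter.mp hj).2.1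
    have h4 := (Finset.mem_filter.mp hj').2
    rw [h3] at h4
    norm_num at h4
  have hone : oneIrr G ∉ setA D ∪ (setB D ∪ (Finset.univ.image D.ν ∪ setC D)) := by
    intro h
    simp only [Finset.mem_union] at h
    rcases h with h | h | h | h
    · exact (Finset.mem_filter.mp h).2.2 rfl
    · have h4 := (Finset.mem_filter.mp h).2
      rw [D.hzone] at h4
      norm_num at h4
    · obtain ⟨i, -, hi⟩ := Finset.mem_image.mp h
      have h4 := D.hνz i
      rw [hi, D.hzone] at h4
      norm_num at h4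
    · have h4 := (Finset.mem_filter.mp h).2.1
      rw [D.hzone] at h4
      norm_num at h4
  have h1 : Disjoint (setA D) (setB D ∪ (Finset.univ.image D.ν ∪ setC D)) := by
    rw [Finset.disjoint_left]
    intro j hj h
    have h3 := (Finset.mem_filter.mp hj).2.1
    simp only [Finset.mem_union] at h
    rcases h with h | h | h
    · have h4 := (Finset.mem_filter.mp h).2
      rw [h3] at h4
      norm_num at h4
    · obtain ⟨i, -, hi⟩ := Finset.mem_image.mp h
      have h4 := D.hνz i
      rw [hi, h3] at h4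
      norm_num at h4
    · have h4 := (Finset.mem_filter.mp h).2.1
      rw [h3] at h4
      norm_num at h4
  have h2 : Disjoint (setB D) (Finset.univ.image D.ν ∪ setC D) := by
    rw [Finset.disjoint_left]
    intro j hj h
    have h3 := (Finset.mem_filter.mp hj).2
    simp only [Finset.mem_union] at h
    rcases h with h | h
    · obtain ⟨i, -, hi⟩ := Finset.mem_image.mp h
      have h4 := D.hνz i
      rw [hi, h3] at h4
      norm_num at h4
    · have h4 := (Finset.mem_filter.mp h).2.1
      rw [h3] at h4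
      norm_num at h4
  have h3 : Disjoint (Finset.univ.image D.ν) (setC D) := by
    rw [Finset.disjoint_left]
    intro j hj h
    obtain ⟨i, -, hi⟩ := Finset.mem_image.mp hj
    exact (Finset.mem_filter.mp h).2.2 ⟨i, hi⟩
  have huniv : (Finset.univ : Finset (IrrCharacter G)) =
      insert (oneIrr G) (setA D ∪ (setB D ∪ (Finset.univ.image D.ν ∪ setC D))) := by
    symm
    apply Finset.eq_univ_of_forall
    intro j
    simp only [Finset.mem_insert, Finset.mem_union]
    by_cases h4 : j = oneIrr G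
    · exact Or.inl h4
    right
    rcases D.hz j with h | h | h
    · by_cases h5 : j ∈ Set.range D.ν
      · obtain ⟨i, rfl⟩ := h5
        exact Or.inr (Or.inr (Or.inl (Finset.mem_image_of_mem _ (Finset.mem_univ _))))
      · exact Or.inr (Or.inr (Or.inr (Finset.mem_filter.mpr ⟨Finset.mem_univ _, h, h5⟩)))
    · exact Or.inr (Or.inl (Finset.mem_filter.mpr ⟨Finset.mem_univ _, h⟩))
    · exact Or.inl (Finset.mem_filter.mpr ⟨Finset.mem_univ _, h, h4⟩)
  conv_lhs => rw [huniv]
  rw [Finset.sum_insert hone, Finset.sum_union h1, Finset.sum_union h2, Finset.sum_union h3]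

/-- Orthogonality on `P`. -/
theorem sum_dv_conj (hp2 : ¬ p ^ 2 ∣ Nat.card G) (a b : DD P p) :
    ∑ u : P, dv hP a u * conj (dv hP b u) = if a = b then (p : ℂ) else 0 := by
  have hcomm := Cfsg.Agent.Lib.ExcP.Dual.comm_of_card hP
  by_cases hab : a = b
  · subst hab
    rw [if_pos rfl]
    have h1 : ∀ u : P, dv hP a u * conj (dv hP a u) = 1 := by
      intro u
      rw [Complex.mul_conj, Complex.normSq_eq_norm_sq, dv_norm]
      simp
    simp only [h1]
    rw [Finset.sum_const, Finset.card_univ, ← Nat.card_eq_fintype_card, hP]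
    simp
  · rw [if_neg hab]
    -- a point where they differ
    have hex : ∃ v : P, dv hP a v ≠ dv hP b v := by
      by_contra hcon
      push Not at hcon
      apply hab
      apply (resD_bijective (p := p) (P := P) hP hp2).1
      apply Subtype.ext
      apply MonoidHom.ext
      intro v
      apply Units.ext
      exact hcon v
    obtain ⟨v, hv⟩ := hex
    set Y : P → ℂ := fun u => dv hP a u * conj (dv hP b u) with hY
    have hYmul : ∀ u w : P, Y (u * w) = Y u * Y w := by
      intro u w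
      simp only [hY]
      rw [dv_mul, dv_mul, map_mul]
      ring
    have hYv : Y v ≠ 1 := by
      intro h
      apply hv
      have h1 : dv hP b v * conj (dv hP b v) = 1 := by
        rw [Complex.mul_conj, Complex.normSq_eq_norm_sq, dv_norm]
        simp
      have h2 : dv hP a v * conj (dv hP b v) = dv hP b v * conj (dv hP b v) := by
        rw [h1]
        exact h
      have h3 : conj (dv hP b v) ≠ 0 := by
        intro h0
        rw [h0, mul_zero] at h1
        exact zero_ne_one h1
      exact mul_right_cancel₀ h3 h2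
    have hsum : Y v * ∑ u : P, Y u = ∑ u : P, Y u := by
      rw [Finset.mul_sum]
      simp only [← hYmul]
      exact Fintype.sum_equiv (Equiv.mulLeft v) _ _ (fun _ => rfl)
    have h2 : (Y v - 1) * ∑ u : P, Y u = 0 := by
      rw [sub_mul, hsum, one_mul, sub_self]
    exact (mul_eq_zero.mp h2).resolve_left (sub_ne_zero.mpr hYv)

/-- The norm of an exceptional character on `P`. -/
theorem sum_normSq_ν (hp2 : ¬ p ^ 2 ∣ Nat.card G) (i : Fin D.t) (hD : D.D₀ = e) :
    ∑ u : P, (D.ν i : G → ℂ) u * conj ((D.ν i : G → ℂ) u) = (p : ℂ) * (e : ℂ) := by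
  set fib := Finset.univ.filter (fun d => D.c d = i) with hfib
  have hcard : fib.card = e := D.hfib i
  have h1 : ∀ u : P, (D.ν i : G → ℂ) u * conj ((D.ν i : G → ℂ) u) =
      ∑ a ∈ fib, ∑ b ∈ fib, dv hP a u * conj (dv hP b u) := by
    intro u
    have h2 : (∑ d ∈ fib, dv hP d u) * conj (∑ d ∈ fib, dv hP d u) =
        ∑ a ∈ fib, ∑ b ∈ fib, dv hP a u * conj (dv hP b u) := by
      rw [map_sum, Finset.sum_mul_sum]
    rw [← h2]
    by_cases hu : u = 1
    · subst hu
      have h3 : ∑ d ∈ fib, dv hP d 1 = (e : ℂ) := by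
        simp only [dv_one]
        rw [Finset.sum_const, hcard]
        simp
      rw [h3]
      have h4 : (D.ν i : G → ℂ) ((1 : P) : G) = (e : ℂ) := by
        have h5 : ((1 : P) : G) = 1 := rfl
        rw [h5, ← charDegree_natCast (isCharacter_of_isIrrCharacter (D.ν i).2), D.hνdeg, hD]
      rw [h4]
    · rw [D.val_ν hp2 i hu, map_mul, map_intCast]
      have h3 : (D.ε : ℂ) * (D.ε : ℂ) = 1 := by
        have := D.ε_sq
        exact_mod_cast this
      linear_combination ((∑ d ∈ fib, dv hP d u) * conj (∑ d ∈ fib, dv hP d u)) * h3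
  simp only [h1]
  rw [Finset.sum_comm]
  simp only [Finset.sum_comm (s := (Finset.univ : Finset P))]
  have h2 : ∀ a ∈ fib, ∑ b ∈ fib, ∑ u : P, dv hP a u * conj (dv hP b u) = (p : ℂ) := by
    intro a ha
    simp only [sum_dv_conj hp2]
    rw [Finset.sum_ite_eq, if_pos ha]
  rw [Finset.sum_congr rfl h2, Finset.sum_const, hcard]
  simp
  ring

variable (hp2 : ¬ p ^ 2 ∣ Nat.card G) {n k : ℕ}
  (hG : Nat.card G = p * (e * n)) (hn : n = 1 + k * p) (hk1 : 1 ≤ k) (hk2 : 2 * k ≤ p + 1)
  (hlin : ∀ j : IrrCharacter G, charDegree (j : G → ℂ) = 1 → j = oneIrr G)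

include hp2 hG hn hk1 hk2 hlin

omit hG hn hk1 hk2 hlin D in
theorem aP_one : aP (hP := hP) hp2 (oneIrr G) = 1 := by
  have h1 := (aP_spec (hP := hP) hp2 (oneIrr G)).1
  have hp0 : (p : ℂ) ≠ 0 := by exact_mod_cast hp.out.ne_zero
  have h2 : ∑ u : P, conj (((oneIrr G : IrrCharacter G) : G → ℂ) u) = (p : ℂ) := by
    have h3 : ∀ u : P, conj (((oneIrr G : IrrCharacter G) : G → ℂ) u) = 1 := by
      intro u
      simp [oneIrr]
    simp only [h3]
    rw [Finset.sum_const, Finset.card_univ, ← Nat.card_eq_fintype_card, hP]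
    simp
  rw [h2, inv_mul_cancel₀ hp0] at h1
  exact_mod_cast h1.symm

set_option maxHeartbeats 1000000 in
/-- **The case `ε = 1`**. -/
theorem stepB (hC : Cn P = P) (he2 : 2 ≤ e) (hε : D.ε = 1) : k = 1 ∧ D.t = 2 := by
  have hp1 := hp.out.two_le
  obtain ⟨i⟩ : Nonempty (Fin D.t) := ⟨⟨0, D.t_pos⟩⟩
  obtain ⟨hD, hai⟩ := deg_νp D hp2 hG hn hk1 hk2 hlin hε i
  set θ : G → ℂ := (D.ν i : G → ℂ) with hθ
  have hθc : IsCharacter G θ := isCharacter_of_isIrrCharacter (D.ν i).2
  set α : G → ℂ := θ * (fun g => θ g⁻¹) with hα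
  have hαc : IsCharacter G α := isCharacter_mul hθc (isCharacter_inv hθc)
  have hαval : ∀ g, α g = θ g * conj (θ g) := by
    intro g
    simp only [hα, Pi.mul_apply]
    rw [char_inv_eq_conj hθc]
  obtain ⟨m, hm⟩ := exists_nat_combination hαc
  have hmco : ∀ j : IrrCharacter G, classInner α (j : G → ℂ) = m j := by
    intro j
    rw [hm]
    exact classInner_of_nat_combination m j
  have hαapp : ∀ g, α g = ∑ j, (m j : ℂ) * (j : G → ℂ) g := by
    intro g
    rw [hm]
    simp [Finset.sum_apply]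
  -- `m 1 = 1`
  have hm1 : m (oneIrr G) = 1 := by
    have h1 := hmco (oneIrr G)
    have h2 : classInner α ((oneIrr G : IrrCharacter G) : G → ℂ) = classInner θ θ := by
      rw [classInner_def, classInner_def]
      congr 1
      refine Finset.sum_congr rfl fun g _ => ?_
      rw [hαval]
      simp [oneIrr]
    rw [h2, classInner_self_of_isIrr (D.ν i).2] at h1
    exact_mod_cast h1.symm
  -- degrees
  have hdeg : ∑ j, m j * charDegree (j : G → ℂ) = e ^ 2 := by
    have h1 := hαapp 1
    have h2 : α 1 = (e : ℂ) ^ 2 := by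
      rw [hαval, hθ, ← charDegree_natCast (isCharacter_of_isIrrCharacter (D.ν i).2), D.hνdeg, hD,
        map_natCast]
      ring
    rw [h2] at h1
    have h3 : ((∑ j, m j * charDegree (j : G → ℂ) : ℕ) : ℂ) = ((e ^ 2 : ℕ) : ℂ) := by
      push_cast
      rw [h1]
      refine Finset.sum_congr rfl fun j _ => ?_
      rw [charDegree_natCast (isCharacter_of_isIrrCharacter j.2)]
    exact_mod_cast h3
  -- multiplicities
  have hmult : ∑ j, m j * aP (hP := hP) hp2 j = e := by
    have hp0 : (p : ℂ) ≠ 0 := by exact_mod_cast hp.out.ne_zero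
    have h1 : ∑ u : P, α u = (p : ℂ) * (e : ℂ) := by
      simp only [hαval]
      exact D.sum_normSq_ν hp2 i hD
    have h2 : ∀ j : IrrCharacter G, ∑ u : P, (j : G → ℂ) u = (p : ℂ) * (aP (hP := hP) hp2 j : ℂ) := by
      intro j
      have h3 := (aP_spec (hP := hP) hp2 j).1
      have h4 := congrArg conj h3
      rw [map_mul, map_inv₀, map_natCast, map_natCast, map_sum] at h4
      simp only [Complex.conj_conj] at h4
      rw [← h4]
      field_simp
    have h3 : ∑ u : P, α u = ∑ j, (m j : ℂ) * ((p : ℂ) * (aP (hP := hP) hp2 j : ℂ)) := by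
      simp only [hαapp]
      rw [Finset.sum_comm]
      refine Finset.sum_congr rfl fun j _ => ?_
      rw [← Finset.mul_sum, h2]
    rw [h1] at h3
    have h4 : ((∑ j, m j * aP (hP := hP) hp2 j : ℕ) : ℂ) = (e : ℂ) := by
      push_cast
      apply mul_left_cancel₀ hp0
      rw [h3, Finset.mul_sum]
      refine Finset.sum_congr rfl fun j _ => ?_
      ring
    exact_mod_cast h4
  -- Splitting
  rw [sum_split D (fun j => m j * charDegree (j : G → ℂ))] at hdeg
  rw [sum_split D (fun j => m j * aP (hP := hP) hp2 j)] at hmult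
  rw [hm1, charDegree_oneIrr] at hdeg
  rw [hm1, aP_one hp2] at hmult
  have hAeq : ∑ j ∈ setA D, m j * charDegree (j : G → ℂ) = (∑ j ∈ setA D, m j) * n := by
    rw [Finset.sum_mul]
    refine Finset.sum_congr rfl fun j hj => ?_
    obtain ⟨h4, h5⟩ := (Finset.mem_filter.mp hj).2
    rw [(deg_zm D hp2 hG hn hk1 hk2 hlin h4 h5).1]
  have hAeq' : ∑ j ∈ setA D, m j * aP (hP := hP) hp2 j = (∑ j ∈ setA D, m j) * (k + 1) := by
    rw [Finset.sum_mul]
    refine Finset.sum_congr rfl fun j hj => ?_
    obtain ⟨h4, h5⟩ := (Finset.mem_filter.mp hj).2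
    rw [(deg_zm D hp2 hG hn hk1 hk2 hlin h4 h5).2]
  have hBeq : ∑ j ∈ setB D, m j * charDegree (j : G → ℂ) = (∑ j ∈ setB D, m j) * (p - 1) := by
    rw [Finset.sum_mul]
    refine Finset.sum_congr rfl fun j hj => ?_
    rw [(deg_zp D hp2 hG hn hk1 hk2 hlin (Finset.mem_filter.mp hj).2).1]
  have hBeq' : ∑ j ∈ setB D, m j * aP (hP := hP) hp2 j = 0 := by
    apply Finset.sum_eq_zero
    intro j hj
    rw [(deg_zp D hp2 hG hn hk1 hk2 hlin (Finset.mem_filter.mp hj).2).2.1, mul_zero]
  have hYeq : ∑ i', m (D.ν i') * charDegree (D.ν i' : G → ℂ) = (∑ i', m (D.ν i')) * e := by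
    rw [Finset.sum_mul]
    refine Finset.sum_congr rfl fun i' _ => ?_
    rw [D.hνdeg, hD]
  have hYeq' : ∑ i', m (D.ν i') * aP (hP := hP) hp2 (D.ν i') = 0 := by
    apply Finset.sum_eq_zero
    intro i' _
    rw [(deg_νp D hp2 hG hn hk1 hk2 hlin hε i').2, mul_zero]
  have hCeq : ∑ j ∈ setC D, m j * charDegree (j : G → ℂ) =
      p * ∑ j ∈ setC D, m j * aP (hP := hP) hp2 j := by
    rw [Finset.mul_sum]
    refine Finset.sum_congr rfl fun j hj => ?_
    obtain ⟨h4, h5⟩ := (Finset.mem_filter.mp hj).2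
    rw [D.deg_other hp2 hC h4 h5]
    ring
  rw [hAeq, hBeq, hYeq, hCeq] at hdeg
  rw [hAeq', hBeq', hYeq'] at hmult
  set A := ∑ j ∈ setA D, m j
  set B := ∑ j ∈ setB D, m j
  set C := ∑ i', m (D.ν i')
  set E := ∑ j ∈ setC D, m j * aP (hP := hP) hp2 j
  -- the numbers
  obtain ⟨q, hq⟩ : ∃ q, p = q + 1 := ⟨p - 1, by omega⟩
  have hte : D.t * e = q := by
    have := D.hte
    omega
  have hpq : p - 1 = q := by omega
  rw [hpq] at hdeg
  rw [hn, hq] at hdeg
  have hmult' : 1 + ((A * (k + 1)) + E) = e := by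
    simpa using hmult
  have ht2 : 2 ≤ D.t := by
    have h3 := D.t_pos
    by_contra hlt
    have h4 : D.t = 1 := by omega
    have h5 := D.ht1 h4
    rw [hε] at h5
    norm_num at h5
  exact arith_stepB hdeg hmult' hte he2 hk1 ht2

end BD

end Cfsg.Agent.Lib.BrauerP.Data
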