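import Cfsg.Agent.Lib.BrauerP.StepB
import Cfsg.Agent.Lib.BrauerP.ResLe
import Cfsg.Agent.Lib.Char.PermChar

/-!
# The case `ε = -1`: the rank of the action on Sylow subgroups
-/

set_option autoImplicit false
set_option linter.unusedSectionVars false

namespace Cfsg.Agent.Lib.BrauerP.Data

open Cfsg Module MulAction
open Cfsg.Agent.Lib.Char.Basic Cfsg.Agent.Lib.Char.Ortho Cfsg.Agent.Lib.Char.Complete
open Cfsg.Agent.Lib.Char.Degree Cfsg.Agent.Lib.Char.Induced
open Cfsg.Agent.Lib.ExcP.Gram Cfsg.Agent.Lib.ExcP.Dual Cfsg.Agent.Lib.ExcP.Core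
open Cfsg.Agent.Lib.ExcP.Inst Cfsg.Agent.Lib.ExcP.BlockHA
open Cfsg.Agent.Lib.Small.ExcPerm
open Cfsg.Agent.Lib.BrauerP.Fourier Cfsg.Agent.Lib.BrauerP.Arith
open scoped ComplexConjugate Classical

universe u

/-- The numerical identity for the remaining characters. -/
theorem arith_stepC {p e t k n a b c D₀ S : ℕ} (hp0 : 0 < p) (hte : t * e = p - 1) (hn : n = 1 + k * p)
    (hct : c * t = k + 1) (hD : D₀ + e = c * p) (hab : a + b + 1 = e) (he : e = 1 + c * (a * t + 1))
    (hS : 1 * 1 + (a * n ^ 2 + (b * (p - 1) ^ 2 + (t * D₀ ^ 2 + p ^ 2 * S))) = p * (e * n)) : S = k := by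
  have hpZ : (p : ℤ) = t * e + 1 := by
    have h1 : t * e + 1 = p := by omega
    exact_mod_cast h1.symm
  have hqZ : (((p - 1 : ℕ)) : ℤ) = t * e := by
    rw [← hte]
    push_cast
    rfl
  have hkZ : (k : ℤ) = c * t - 1 := by
    have : (c : ℤ) * t = k + 1 := by exact_mod_cast hct
    linarith
  have heZ : (e : ℤ) = 1 + c * (a * t + 1) := by exact_mod_cast he
  have hbZ : (b : ℤ) = e - 1 - a := by
    have : (a : ℤ) + b + 1 = e := by exact_mod_cast hab
    linarith
  have hDZ : (D₀ : ℤ) = c * p - e := by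
    have : (D₀ : ℤ) + e = c * p := by exact_mod_cast hD
    linarith
  have hnZ : (n : ℤ) = 1 + k * p := by exact_mod_cast hn
  have hSZ : (1 : ℤ) * 1 + (a * n ^ 2 + (b * (((p - 1 : ℕ)) : ℤ) ^ 2 + (t * D₀ ^ 2 + p ^ 2 * S))) =
      p * (e * n) := by exact_mod_cast hS
  rw [hqZ, hbZ, hDZ, hnZ] at hSZ
  have hmain : (p : ℤ) ^ 2 * ((S : ℤ) - k) = 0 := by
    rw [hpZ] at hSZ ⊢
    rw [hkZ] at hSZ ⊢
    rw [heZ] at hSZ ⊢
    linear_combination hSZ
  have hp2 : (p : ℤ) ^ 2 ≠ 0 := by
    have : (p : ℤ) ≠ 0 := by exact_mod_cast hp0.ne'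
    positivity
  have h5 := (mul_eq_zero.mp hmain).resolve_left hp2
  have h6 : (S : ℤ) = k := by linarith
  exact_mod_cast h6

variable {G : Type u} [Group G] [Fintype G] [Fintype (IrrCharacter G)] {p e : ℕ} [hp : Fact p.Prime]
  {P : Subgroup G} {hP : Nat.card P = p} [Fintype P] [Fintype (DD P p)]

omit [Fintype (IrrCharacter G)] [Fintype P] [Fintype (DD P p)] [Fintype G] in
theorem isPGroup_of_card (hP : Nat.card P = p) : IsPGroup p P :=
  IsPGroup.of_card (n := 1) (by rw [hP, pow_one])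

omit [Fintype (IrrCharacter G)] [Fintype P] [Fintype (DD P p)] in
/-- A non-identity element of `P` fixes only one Sylow subgroup. -/
theorem fixed_unique (hP : Nat.card P = p) {Q₀ : Sylow p G} (hQ₀ : (Q₀ : Subgroup G) = P)
    {u : G} (hu : u ∈ P) (hu1 : u ≠ 1) {Q : Sylow p G} (h : u • Q = Q) : Q = Q₀ := by
  have hz := eq_zpowers_of_mem hP hu hu1
  have hfix : Q ∈ fixedPoints P (Sylow p G) := by
    rintro ⟨x, hx⟩
    rw [hz] at hx
    obtain ⟨n, rfl⟩ := Subgroup.mem_zpowers_iff.mp hx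
    change (u ^ n) • Q = Q
    exact mem_stabilizer_iff.mp (Subgroup.zpow_mem _ (mem_stabilizer_iff.mpr h) n)
  have hle := (isPGroup_of_card hP).sylow_mem_fixedPoints_iff.mp hfix
  rw [← hQ₀] at hle
  exact Sylow.ext (Q₀.is_maximal' Q.isPGroup' hle)

omit [Fintype (IrrCharacter G)] [Fintype P] [Fintype (DD P p)] in
/-- The multiplicity of the principal character in a transitive permutation character. -/
theorem classInner_perm_one' {Ω : Type*} [MulAction G Ω] [Fintype Ω] [IsPretransitive G Ω]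
    [Nonempty Ω] :
    classInner (fun g : G => (Nat.card (fixedBy Ω g) : ℂ)) (fun _ => (1 : ℂ)) = 1 := by
  classical
  letI : Fintype (orbitRel.Quotient G Ω) := Fintype.ofFinite _
  have h4 := sum_card_fixedBy_eq_card_orbits_mul_card_group G Ω
  have hq : Fintype.card (Quotient (orbitRel G Ω)) = 1 := by
    obtain ⟨a⟩ : Nonempty Ω := inferInstance
    rw [Fintype.card_eq_one_iff]
    refine ⟨Quotient.mk (orbitRel G Ω) a, fun q => ?_⟩
    induction q using Quotient.inductionOn with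
    | h b =>
      apply Quotient.sound
      exact MulAction.orbitRel_apply.mpr (MulAction.exists_smul_eq G a b)
  have h5 : classInner (fun g : G => (Nat.card (fixedBy Ω g) : ℂ)) (fun _ => (1 : ℂ)) =
      (Nat.card G : ℂ)⁻¹ * ∑ g : G, (Nat.card (fixedBy Ω g) : ℂ) := by
    rw [classInner_def]
    simp
  rw [h5]
  have h6 : ∑ g : G, (Nat.card (fixedBy Ω g) : ℂ) = (Nat.card G : ℂ) := by
    have h7 : ((∑ g : G, Fintype.card (fixedBy Ω g) : ℕ) : ℂ) =
        ((Fintype.card (Quotient (orbitRel G Ω)) * Fintype.card G : ℕ) : ℂ) := by rw [h4]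
    rw [hq, one_mul] at h7
    push_cast at h7
    rw [Nat.card_eq_fintype_card]
    rw [← h7]
    refine Finset.sum_congr rfl fun g _ => ?_
    rw [Nat.card_eq_fintype_card]
  rw [h6]
  exact inv_mul_cancel₀ (by exact_mod_cast (Nat.card_pos (α := G)).ne')

/-- The permutation character on Sylow subgroups. -/
noncomputable def piS (G : Type u) [Group G] (p : ℕ) : G → ℂ :=
  fun g => (Nat.card (fixedBy (Sylow p G) g) : ℂ)

omit [Fintype (IrrCharacter G)] [Fintype P] [Fintype (DD P p)] in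
theorem isCharacter_piS : IsCharacter G (piS G p) := by
  let _ : Fintype (Sylow p G) := Fintype.ofFinite _
  exact Cfsg.Agent.Lib.Char.Orbital.isCharacter_permChar

omit [Fintype (IrrCharacter G)] [Fintype P] [Fintype (DD P p)] in
theorem piS_of_mem (hP : Nat.card P = p) {Q₀ : Sylow p G} (hQ₀ : (Q₀ : Subgroup G) = P)
    {u : G} (hu : u ∈ P) (hu1 : u ≠ 1) : piS G p u = 1 := by
  have h : Nat.card (fixedBy (Sylow p G) u) = 1 := by
    rw [Nat.card_eq_one_iff_unique]
    refine ⟨⟨?_⟩, ⟨⟨Q₀, ?_⟩⟩⟩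
    · rintro ⟨a, ha⟩ ⟨b, hb⟩
      apply Subtype.ext
      exact (fixed_unique hP hQ₀ hu hu1 ha).trans (fixed_unique hP hQ₀ hu hu1 hb).symm
    · rw [mem_fixedBy, Sylow.smul_eq_iff_mem_normalizer]
      have h1 : u ∈ (Q₀ : Subgroup G) := by rw [hQ₀]; exact hu
      exact Subgroup.le_normalizer h1
  show ((Nat.card (fixedBy (Sylow p G) u) : ℕ) : ℂ) = 1
  rw [h]
  simp

omit [Fintype (IrrCharacter G)] [Fintype P] [Fintype (DD P p)] in
theorem piS_one : piS G p 1 = (Nat.card (Sylow p G) : ℂ) := by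
  simp only [piS]
  congr 1
  apply Nat.card_congr
  exact Equiv.subtypeUnivEquiv (fun x => by simp)

namespace BD

variable (D : BD P p e hP) (hp2 : ¬ p ^ 2 ∣ Nat.card G) {n k : ℕ}
  (hG : Nat.card G = p * (e * n)) (hn : n = 1 + k * p) (hk1 : 1 ≤ k) (hk2 : 2 * k ≤ p + 1)
  (hlin : ∀ j : IrrCharacter G, charDegree (j : G → ℂ) = 1 → j = oneIrr G)
  (hC : Cn P = P) {Q₀ : Sylow p G} (hQ₀ : (Q₀ : Subgroup G) = P)
  (hcardS : Nat.card (Sylow p G) = n)

include hp2 hG hn hk1 hk2 hlin hC hQ₀ hcardS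

set_option maxHeartbeats 1000000 in
/-- The multiplicities in the permutation character on the Sylow subgroups. -/
theorem perm_mult (hε : D.ε = -1) :
    ∃ m : IrrCharacter G → ℕ, (∀ j : IrrCharacter G, classInner (piS G p) (j : G → ℂ) = m j) ∧
      m (oneIrr G) = 1 ∧ (∀ j ∈ setA D, m j = 0) ∧ (∀ j ∈ setB D, m j = 0) ∧ (∀ i, m (D.ν i) = 0) ∧
      (∀ j ∈ setC D, m j = aP (hP := hP) hp2 j) ∧ classInner (piS G p) (piS G p) = (k : ℂ) + 1 := by
  classical
  let _ : Fintype (Sylow p G) := Fintype.ofFinite _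
  have hpp := hp.out.two_le
  obtain ⟨m, hm1, hm2, hm3⟩ := exists_perm_coeff (G := G) (Ω := Sylow p G)
  have hm1' : ∀ j : IrrCharacter G, classInner (piS G p) (j : G → ℂ) = m j := hm1
  have hpi : IsClassFunction G (piS G p) := isClassFunction_of_isCharacter isCharacter_piS
  -- `m 1 = 1`
  have hmone : m (oneIrr G) = 1 := by
    have h1 := hm1' (oneIrr G)
    have h2 : classInner (piS G p) ((oneIrr G : IrrCharacter G) : G → ℂ) = 1 :=
      classInner_perm_one' (G := G) (Ω := Sylow p G)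
    rw [h2] at h1
    exact_mod_cast h1.symm
  -- `m ≤ a`
  have hle : ∀ j : IrrCharacter G, m j ≤ aP (hP := hP) hp2 j := by
    intro j
    let N' : Subgroup G := stabilizer G Q₀
    let _ : Fintype N' := Fintype.ofFinite _
    have hPN : P ≤ N' := by
      intro x hx
      show x • Q₀ = Q₀
      rw [Sylow.smul_eq_iff_mem_normalizer]
      rw [← hQ₀] at hx
      exact Subgroup.le_normalizer hx
    obtain ⟨a, b, ha, hb, hab⟩ := Cfsg.Agent.Lib.BrauerP.ResLe.exists_le_of_le hPN
      (isCharacter_of_isIrrCharacter j.2)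
    have h1 : piS G p = indFun N' (fun _ => 1) := by
      funext g
      exact Cfsg.Agent.Lib.Char.PermChar.card_fixedBy_eq_indFun (Sylow p G) Q₀ g
    have h2 : (m j : ℂ) = a := by
      rw [← hm1', h1, classInner_indFun_left _ _ _ (isClassFunction_of_isIrrCharacter j.2), ha]
    have h3 : (aP (hP := hP) hp2 j : ℂ) = b := by
      rw [← (aP_spec (hP := hP) hp2 j).1, ← hb, classInner_subgroup_eq, hP]
      simp
    have h4 : m j = a := by exact_mod_cast h2
    have h5 : aP (hP := hP) hp2 j = b := by exact_mod_cast h3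
    rw [h4, h5]
    exact hab
  -- the basic data
  obtain ⟨i₀⟩ : Nonempty (Fin D.t) := ⟨⟨0, D.t_pos⟩⟩
  obtain ⟨c, hc1, hc2, -⟩ := deg_νm D hp2 hG hn hk1 hk2 hlin hε i₀
  have hrelm := rel_m D hp2 hG hn hk1 hk2 hlin hε hc1 hc2
  have hA0 := card_setA_add D
  -- `m = 0` on `B`
  have hmB : ∀ j ∈ setB D, m j = 0 := by
    intro j hj
    have h1 := hle j
    rw [(deg_zp D hp2 hG hn hk1 hk2 hlin (Finset.mem_filter.mp hj).2).2.1] at h1
    omega
  -- the inner products with `Θ`
  have hkey : ∀ d : DD P p, (∑ j ∈ setA D, m j) + m (D.ν (D.c d)) = 0 := by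
    intro d
    have h1 : classInner (Th P d.1) (piS G p) = -1 := by
      have h2 := classInner_Th_const hP hC d.2.2 hpi (f := 1) (fun u hu hu1 => piS_of_mem hP hQ₀ hu hu1)
      rw [h2]
      simp
    have h2 : classInner (Th P d.1) (piS G p) = ∑ j, (m j : ℂ) * classInner (Th P d.1) (j : G → ℂ) :=
      hm3 _
    rw [h1] at h2
    simp only [D.hinner, hε] at h2
    have h3 : ∀ j : IrrCharacter G, (m j : ℂ) * ((D.z j + -1 * (if D.ν (D.c d) = j then 1 else 0) : ℤ) : ℂ) =
        (D.z j : ℂ) * (m j : ℂ) - (if D.ν (D.c d) = j then (m j : ℂ) else 0) := by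
      intro j
      by_cases h : D.ν (D.c d) = j
      · simp only [h, if_true]
        push_cast
        ring
      · simp only [h, if_false]
        push_cast
        ring
    simp only [h3] at h2
    rw [Finset.sum_sub_distrib, Finset.sum_ite_eq, if_pos (Finset.mem_univ _), sum_z D (fun j => (m j : ℂ)),
      hmone, Finset.sum_eq_zero (s := setB D) (fun j hj => by rw [hmB j hj]; simp)] at h2
    have h4 : (((∑ j ∈ setA D, m j) + m (D.ν (D.c d)) : ℕ) : ℂ) = 0 := by
      push_cast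
      push_cast at h2
      linear_combination h2
    exact_mod_cast h4
  have hmν : ∀ i, m (D.ν i) = 0 := by
    intro i
    obtain ⟨d, hd⟩ := D.hcsurj i
    have h1 := hkey d
    rw [hd] at h1
    omega
  have hmA : ∀ j ∈ setA D, m j = 0 := by
    intro j hj
    obtain ⟨d⟩ : Nonempty (DD P p) := by
      obtain ⟨d, -⟩ := D.hcsurj i₀
      exact ⟨d⟩
    have h1 := hkey d
    have h2 : ∑ j ∈ setA D, m j = 0 := by omega
    exact (Finset.sum_eq_zero_iff.mp h2) j hj
  -- degrees
  have hCdeg : ∀ j ∈ setC D, charDegree (j : G → ℂ) = p * aP (hP := hP) hp2 j := by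
    intro j hj
    obtain ⟨h4, h5⟩ := (Finset.mem_filter.mp hj).2
    exact D.deg_other hp2 hC h4 h5
  have hsumk : ∑ j ∈ setC D, m j * aP (hP := hP) hp2 j = k := by
    have h1 := hm2
    rw [sum_split D (fun j => m j * charDegree (j : G → ℂ)), hmone, charDegree_oneIrr,
      Finset.sum_eq_zero (s := setA D) (fun j hj => by rw [hmA j hj, zero_mul]),
      Finset.sum_eq_zero (s := setB D) (fun j hj => by rw [hmB j hj, zero_mul]),
      Finset.sum_eq_zero (s := Finset.univ) (fun i _ => by rw [hmν i, zero_mul]),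
      Finset.sum_congr rfl (fun j hj => by rw [hCdeg j hj]), hcardS, hn] at h1
    have h2 : ∑ j ∈ setC D, m j * (p * aP (hP := hP) hp2 j) = p * ∑ j ∈ setC D, m j * aP (hP := hP) hp2 j := by
      rw [Finset.mul_sum]
      refine Finset.sum_congr rfl fun j _ => ?_
      ring
    rw [h2] at h1
    simp only [mul_one, zero_add] at h1
    have h3 : p * ∑ j ∈ setC D, m j * aP (hP := hP) hp2 j = p * k := by
      rw [mul_comm p k]
      omega
    exact Nat.eq_of_mul_eq_mul_left (by omega) h3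
  have hsumsq : ∑ j ∈ setC D, aP (hP := hP) hp2 j ^ 2 = k := by
    have h1 := sum_charDegree_sq (G := G)
    rw [sum_split D (fun j => charDegree (j : G → ℂ) ^ 2), charDegree_oneIrr] at h1
    have h2 : ∑ j ∈ setA D, charDegree (j : G → ℂ) ^ 2 = (setA D).card * n ^ 2 := by
      rw [← smul_eq_mul, ← Finset.sum_const]
      refine Finset.sum_congr rfl fun j hj => ?_
      obtain ⟨h4, h5⟩ := (Finset.mem_filter.mp hj).2
      rw [(deg_zm D hp2 hG hn hk1 hk2 hlin h4 h5).1]
    have h3 : ∑ j ∈ setB D, charDegree (j : G → ℂ) ^ 2 = (setB D).card * (p - 1) ^ 2 := by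
      rw [← smul_eq_mul, ← Finset.sum_const]
      refine Finset.sum_congr rfl fun j hj => ?_
      rw [(deg_zp D hp2 hG hn hk1 hk2 hlin (Finset.mem_filter.mp hj).2).1]
    have h4 : ∑ i, charDegree (D.ν i : G → ℂ) ^ 2 = D.t * D.D₀ ^ 2 := by
      simp only [D.hνdeg]
      rw [Finset.sum_const, Finset.card_univ, Fintype.card_fin, smul_eq_mul]
    have h5 : ∑ j ∈ setC D, charDegree (j : G → ℂ) ^ 2 = p ^ 2 * ∑ j ∈ setC D, aP (hP := hP) hp2 j ^ 2 := by
      rw [Finset.mul_sum]
      refine Finset.sum_congr rfl fun j hj => ?_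
      rw [hCdeg j hj]
      ring
    rw [h2, h3, h4, h5, hG] at h1
    exact arith_stepC (by omega) D.hte hn hc2 hc1 hA0 hrelm h1
  have hmC : ∀ j ∈ setC D, m j = aP (hP := hP) hp2 j := by
    have h1 : ∑ j ∈ setC D, m j * aP (hP := hP) hp2 j =
        ∑ j ∈ setC D, aP (hP := hP) hp2 j * aP (hP := hP) hp2 j := by
      rw [hsumk, ← hsumsq]
      refine Finset.sum_congr rfl fun j _ => ?_
      ring
    have h2 := (Finset.sum_eq_sum_iff_of_le
      (fun j _ => Nat.mul_le_mul_right _ (hle j))).mp h1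
    intro j hj
    have h3 := h2 j hj
    rcases Nat.eq_zero_or_pos (aP (hP := hP) hp2 j) with h4 | h4
    · have h5 := hle j
      omega
    · exact Nat.eq_of_mul_eq_mul_right h4 h3
  refine ⟨m, hm1', hmone, hmA, hmB, hmν, hmC, ?_⟩
  rw [classInner_eq_sum hpi]
  simp only [hm1', Complex.conj_natCast]
  have h1 : ∑ j : IrrCharacter G, (m j : ℂ) * (m j : ℂ) = ((∑ j : IrrCharacter G, m j * m j : ℕ) : ℂ) := by
    push_cast
    rfl
  rw [h1, sum_split D (fun j => m j * m j), hmone,
      Finset.sum_eq_zero (s := setA D) (fun j hj => by rw [hmA j hj, zero_mul]),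
      Finset.sum_eq_zero (s := setB D) (fun j hj => by rw [hmB j hj, zero_mul]),
      Finset.sum_eq_zero (s := Finset.univ) (fun i _ => by rw [hmν i, zero_mul])]
  have h2 : ∑ j ∈ setC D, m j * m j = k := by
    rw [← hsumk]
    refine Finset.sum_congr rfl fun j hj => ?_
    rw [hmC j hj]
  rw [h2]
  push_cast
  ring

end BD

end Cfsg.Agent.Lib.BrauerP.Data
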