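import Cfsg.Agent.Lib.BrauerP.FrobSyl

/-!
# The case `ε = -1`: the stabilizer of the fixed points of `E`
-/

set_option autoImplicit false
set_option linter.unusedSectionVars false

namespace Cfsg.Agent.Lib.BrauerP.Data

open Cfsg Module MulAction
open Cfsg.Agent.Lib.Char.Basic Cfsg.Agent.Lib.Char.Ortho Cfsg.Agent.Lib.Char.Complete
open Cfsg.Agent.Lib.Char.Degree Cfsg.Agent.Lib.Char.Induced
open Cfsg.Agent.Lib.ExcP.Gram Cfsg.Agent.Lib.ExcP.Dual Cfsg.Agent.Lib.ExcP.Core
open Cfsg.Agent.Lib.ExcP.Inst Cfsg.Agent.Lib.ExcP.BlockHA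
open Cfsg.Agent.Lib.Small.ExcPerm
open Cfsg.Agent.Lib.BrauerP.Fourier Cfsg.Agent.Lib.BrauerP.Arith Cfsg.Agent.Lib.BrauerP.Frob
open scoped ComplexConjugate Classical

universe u

theorem arith_c {p e t k n c a : ℕ} (hpp : p.Prime) (hte : t * e = p - 1) (ht : 0 < t)
    (hn : n = 1 + k * p) (hct : c * t = k + 1) (he : e = 1 + c * (a * t + 1))
    (hdvd : (k + 1) ∣ p * n) : c = 1 := by
  have hc_lt : c < e := by
    rw [he]
    have : c * 1 ≤ c * (a * t + 1) := Nat.mul_le_mul_left _ (by omega)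
    omega
  have hklt : k + 1 < p := by
    have h1 : c * t < e * t := Nat.mul_lt_mul_of_pos_right hc_lt ht
    have h2 : e * t = p - 1 := by rw [mul_comm]; exact hte
    have h3 := hpp.two_le
    omega
  have hcop : Nat.Coprime (k + 1) p :=
    ((Nat.Prime.coprime_iff_not_dvd hpp).mpr (Nat.not_dvd_of_pos_of_lt (by omega) hklt)).symm
  have h1 : (k + 1) ∣ n := hcop.dvd_of_dvd_mul_left hdvd
  have h2 : (k + 1) ∣ k * (p - 1) := by
    have h3 : n = (k + 1) + k * (p - 1) := by
      have h3 := hpp.two_le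
      obtain ⟨q, rfl⟩ : ∃ q, p = q + 1 := ⟨p - 1, by omega⟩
      rw [hn]
      simp only [Nat.add_sub_cancel]
      ring
    rw [h3] at h1
    exact (Nat.dvd_add_right (dvd_refl _)).mp h1
  have h3 : (k + 1) ∣ p - 1 := by
    have h4 : Nat.Coprime (k + 1) k := by simp
    exact h4.dvd_of_dvd_mul_left h2
  have h4 : c ∣ e := by
    rw [← hct, ← hte, mul_comm t e] at h3
    exact Nat.dvd_of_mul_dvd_mul_right ht h3
  have h5 : c ∣ 1 := by
    have h6 : c ∣ 1 + c * (a * t + 1) := by rw [← he]; exact h4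
    exact (Nat.dvd_add_iff_left (dvd_mul_right c _)).mpr h6
  exact Nat.dvd_one.mp h5

variable {G : Type u} [Group G] [Fintype G] [Fintype (IrrCharacter G)] {p e : ℕ} [hp : Fact p.Prime]
  {P : Subgroup G} {hP : Nat.card P = p} [Fintype P] [Fintype (DD P p)]

omit [Fintype (IrrCharacter G)] [Fintype P] [Fintype (DD P p)] in
/-- The induced character from `P` vanishes on nontrivial `p`-regular elements. -/
theorem indP_regular (hP : Nat.card P = p) [Fintype P] {g : G} (hg1 : g ≠ 1) (hreg : ¬ p ∣ orderOf g) :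
    indFun P (fun _ => (1 : ℂ)) g = 0 := by
  rw [indFun_apply]
  apply mul_eq_zero_of_right
  apply Finset.sum_eq_zero
  intro x _
  apply extendByZero_of_not_mem
  intro hx
  have h3 : orderOf (x⁻¹ * g * x) = orderOf g := by
    have : x⁻¹ * g * x = MulAut.conj x⁻¹ g := by
      simp
    rw [this, MulEquiv.orderOf_eq]
  have h4 : orderOf (x⁻¹ * g * x) ∣ p := by
    have h5 := orderOf_dvd_natCard (⟨_, hx⟩ : P)
    rw [hP, Subgroup.orderOf_mk] at h5
    exact h5
  rcases (Nat.dvd_prime hp.out).mp h4 with h5 | h5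
  · rw [h3] at h5
    exact hg1 (orderOf_eq_one_iff.mp h5)
  · rw [h3] at h5
    exact hreg (h5 ▸ dvd_rfl)

omit [Fintype (IrrCharacter G)] [Fintype P] [Fintype (DD P p)] in
/-- The sum of a character over a subgroup is a multiple of its order. -/
theorem exists_sum_subgroup (H : Subgroup G) [Fintype H] (j : IrrCharacter G) :
    ∃ a : ℕ, ∑ h : H, (j : G → ℂ) h = (Nat.card H : ℂ) * a := by
  classical
  obtain ⟨a, b, ha, -, -⟩ := Cfsg.Agent.Lib.BrauerP.ResLe.exists_le_of_le (H := (⊥ : Subgroup G)) (K := H)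
    bot_le (isCharacter_of_isIrrCharacter j.2)
  refine ⟨a, ?_⟩
  have h1 : ((Nat.card H : ℂ)) ≠ 0 := by exact_mod_cast (Nat.card_pos (α := H)).ne'
  rw [classInner_def] at ha
  simp only [one_mul] at ha
  have h2 : ∑ h : H, conj ((j : G → ℂ) h) = (Nat.card H : ℂ) * a := by
    rw [← ha, ← mul_assoc, mul_inv_cancel₀ h1, one_mul]
  have h3 := congrArg conj h2
  simp only [map_sum, Complex.conj_conj, map_mul, Complex.conj_natCast] at h3
  exact h3

namespace BD

variable (D : BD P p e hP) (hp2 : ¬ p ^ 2 ∣ Nat.card G) {n k : ℕ}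
  (hG : Nat.card G = p * (e * n)) (hn : n = 1 + k * p) (hk1 : 1 ≤ k) (hk2 : 2 * k ≤ p + 1)
  (hlin : ∀ j : IrrCharacter G, charDegree (j : G → ℂ) = 1 → j = oneIrr G)
  (hC : Cn P = P) {Q₀ : Sylow p G} (hQ₀ : (Q₀ : Subgroup G) = P)
  (hcardS : Nat.card (Sylow p G) = n)

omit hG hn hk1 hk2 hlin hC hQ₀ hcardS in
include D hp2 in
theorem classInner_indP (j : IrrCharacter G) :
    classInner (indFun P (fun _ => (1 : ℂ))) (j : G → ℂ) = aP (hP := hP) hp2 j := by
  rw [classInner_indFun_left _ _ _ (isClassFunction_of_isIrrCharacter j.2),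
    ← (aP_spec (hP := hP) hp2 j).1, classInner_subgroup_eq, hP]
  simp

include hp2 hG hn hk1 hk2 hlin hC hQ₀ hcardS

set_option maxHeartbeats 1000000 in
/-- The permutation character on regular elements. -/
theorem pi_reg (hε : D.ε = -1) {g : G} (hg1 : g ≠ 1) (hreg : ¬ p ∣ orderOf g) :
    piS G p g = ((k : ℂ) + 1) * (1 - ∑ j ∈ setB D, (j : G → ℂ) g) := by
  classical
  obtain ⟨m, hm1, hmone, hmA, hmB, hmν, hmC, -⟩ := D.perm_mult hp2 hG hn hk1 hk2 hlin hC hQ₀ hcardS hε
  obtain ⟨i₀⟩ : Nonempty (Fin D.t) := ⟨⟨0, D.t_pos⟩⟩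
  obtain ⟨c, hc1, hc2, hc3⟩ := deg_νm D hp2 hG hn hk1 hk2 hlin hε i₀
  have hpp := hp.out.pos
  have hcν : ∀ i, aP (hP := hP) hp2 (D.ν i) = c := by
    intro i
    obtain ⟨c', hc1', -, hc3'⟩ := deg_νm D hp2 hG hn hk1 hk2 hlin hε i
    rw [hc3']
    have : c' * p = c * p := by rw [← hc1, ← hc1']
    exact Nat.eq_of_mul_eq_mul_right hpp this
  have hone : ((oneIrr G : IrrCharacter G) : G → ℂ) g = 1 := rfl
  have hpi : IsClassFunction G (piS G p) := isClassFunction_of_isCharacter isCharacter_piS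
  have h1 := congrFun (classFunction_eq_sum hpi) g
  simp only [Finset.sum_apply, Pi.smul_apply, smul_eq_mul, hm1] at h1
  have h2 := congrFun (classFunction_eq_sum (isClassFunction_indFun P (fun _ => (1 : ℂ)))) g
  simp only [Finset.sum_apply, Pi.smul_apply, smul_eq_mul, D.classInner_indP hp2] at h2
  rw [indP_regular hP hg1 hreg] at h2
  rw [sum_split D] at h1 h2
  have hA : ∑ j ∈ setA D, ((m j : ℕ) : ℂ) * (j : G → ℂ) g = 0 :=
    Finset.sum_eq_zero (fun j hj => by rw [hmA j hj]; simp)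
  have hB : ∑ j ∈ setB D, ((m j : ℕ) : ℂ) * (j : G → ℂ) g = 0 :=
    Finset.sum_eq_zero (fun j hj => by rw [hmB j hj]; simp)
  have hν : ∑ i, ((m (D.ν i) : ℕ) : ℂ) * (D.ν i : G → ℂ) g = 0 :=
    Finset.sum_eq_zero (fun i _ => by rw [hmν i]; simp)
  have hCe : ∑ j ∈ setC D, ((m j : ℕ) : ℂ) * (j : G → ℂ) g =
      ∑ j ∈ setC D, ((aP (hP := hP) hp2 j : ℕ) : ℂ) * (j : G → ℂ) g :=
    Finset.sum_congr rfl (fun j hj => by rw [hmC j hj])
  rw [hA, hB, hν, hCe, hmone, hone] at h1
  have hA' : ∑ j ∈ setA D, ((aP (hP := hP) hp2 j : ℕ) : ℂ) * (j : G → ℂ) g =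
      ((k : ℂ) + 1) * ∑ j ∈ setA D, (j : G → ℂ) g := by
    rw [Finset.mul_sum]
    refine Finset.sum_congr rfl fun j hj => ?_
    obtain ⟨h4, h5⟩ := (Finset.mem_filter.mp hj).2
    rw [(deg_zm D hp2 hG hn hk1 hk2 hlin h4 h5).2]
    push_cast
    ring
  have hB' : ∑ j ∈ setB D, ((aP (hP := hP) hp2 j : ℕ) : ℂ) * (j : G → ℂ) g = 0 :=
    Finset.sum_eq_zero (fun j hj => by
      rw [(deg_zp D hp2 hG hn hk1 hk2 hlin (Finset.mem_filter.mp hj).2).2.1]
      simp)
  have hrel : ∀ i, (D.ν i : G → ℂ) g =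
      -1 - (∑ j ∈ setA D, (j : G → ℂ) g) + ∑ j ∈ setB D, (j : G → ℂ) g := by
    intro i
    have h3 := D.reg_rel i hreg
    rw [sum_z D (fun j => (j : G → ℂ) g), hε, hone] at h3
    push_cast at h3
    linear_combination -h3
  have hν' : ∑ i, ((aP (hP := hP) hp2 (D.ν i) : ℕ) : ℂ) * (D.ν i : G → ℂ) g =
      ((k : ℂ) + 1) * (-1 - (∑ j ∈ setA D, (j : G → ℂ) g) + ∑ j ∈ setB D, (j : G → ℂ) g) := by
    simp only [hrel, hcν]
    rw [Finset.sum_const, Finset.card_univ, Fintype.card_fin, nsmul_eq_mul]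
    have h3 : ((c * D.t : ℕ) : ℂ) = ((k + 1 : ℕ) : ℂ) := by rw [hc2]
    push_cast at h3
    rw [← h3]
    ring
  rw [hA', hB', hν', aP_one (hP := hP) hp2, hone] at h2
  push_cast at h2
  change piS G p g = _ at h1
  linear_combination h1 - h2


include hG hn hk1 hk2 hlin hp2 in
omit hC hQ₀ hcardS in
/-- The value at one of the sum over `B`. -/
theorem sum_setB_one :
    ∑ j ∈ setB D, (j : G → ℂ) 1 = (((setB D).card * (p - 1) : ℕ) : ℂ) := by
  rw [Nat.cast_mul, ← nsmul_eq_mul, ← Finset.sum_const]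
  refine Finset.sum_congr rfl fun j hj => ?_
  rw [← charDegree_natCast (isCharacter_of_isIrrCharacter j.2),
    (deg_zp D hp2 hG hn hk1 hk2 hlin (Finset.mem_filter.mp hj).2).1]

variable (S : SC P p e) {E : Subgroup G} (hE : IsC P e E)
  (hall : ∀ Q : Sylow p G, Q ≠ Q₀ → IsC P e (KK P Q))

include S hE hall

set_option maxHeartbeats 1000000 in
/-- All elements of a subgroup of order `p - 1` fix a Sylow subgroup. -/
theorem all_fix (he2 : 2 ≤ e) (hε : D.ε = -1) (hrank : classInner (piS G p) (piS G p) = (k : ℂ) + 1)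
    (H : Subgroup G) (hH : Nat.card H = p - 1) (h : H) : ∃ Q : Sylow p G, (h : G) • Q = Q := by
  classical
  have hpp := hp.out.two_le
  have hcardS' : Nat.card (Sylow p G) = 1 + k * p := by rw [hcardS, hn]
  have hell := ell_eq S hQ₀ hE hall he2 hrank hcardS'
  let _ : Fintype H := Fintype.ofFinite _
  have hregH : ∀ x : H, ¬ p ∣ orderOf (x : G) := by
    intro x hdvd
    have h1 : orderOf (x : G) ∣ p - 1 := by
      rw [← hH, Subgroup.orderOf_coe]
      exact orderOf_dvd_natCard x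
    have h2 := Nat.le_of_dvd (by omega) (hdvd.trans h1)
    omega
  -- the function counting the elements without fixed points
  let g₀ : H → ℕ := fun x => if ∃ Q : Sylow p G, (x : G) • Q = Q then 0 else 1
  have hval : ∀ x : H, x ≠ 1 → ∑ j ∈ setB D, (j : G → ℂ) (x : G) = (g₀ x : ℂ) := by
    intro x hx
    have hx1 : (x : G) ≠ 1 := fun h => hx (Subtype.ext h)
    have h1 := D.pi_reg hp2 hG hn hk1 hk2 hlin hC hQ₀ hcardS hε hx1 (hregH x)
    have hk0 : ((k : ℂ) + 1) ≠ 0 := by exact_mod_cast (Nat.succ_ne_zero k)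
    by_cases hfix : ∃ Q : Sylow p G, (x : G) • Q = Q
    · obtain ⟨Q, hQ⟩ := hfix
      simp only [g₀]
      rw [if_pos ⟨Q, hQ⟩]
      obtain ⟨y, u, hu, hu1, hxu⟩ := exists_conj_of_fix S hQ₀ hE hall hx1 (hregH x) hQ
      have h2 := piS_conj S hQ₀ hE hall hu hu1 hxu
      rw [hell] at h2
      have h3 : piS G p (x : G) = (k : ℂ) + 1 := by
        show ((Nat.card (fixedBy (Sylow p G) (x : G)) : ℕ) : ℂ) = _
        rw [h2]
        push_cast
        rfl
      rw [h3] at h1
      have h4 : ((k : ℂ) + 1) * (∑ j ∈ setB D, (j : G → ℂ) (x : G)) = 0 := by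
        linear_combination h1
      have h5 := (mul_eq_zero.mp h4).resolve_left hk0
      rw [h5]
      simp
    · simp only [g₀]
      rw [if_neg hfix]
      have h3 : piS G p (x : G) = 0 := by
        show ((Nat.card (fixedBy (Sylow p G) (x : G)) : ℕ) : ℂ) = 0
        have h4 : IsEmpty (fixedBy (Sylow p G) (x : G)) := by
          constructor
          rintro ⟨Q, hQ⟩
          exact hfix ⟨Q, hQ⟩
        rw [Nat.card_of_isEmpty]
        simp
      rw [h3] at h1
      have h4 : ((k : ℂ) + 1) * (1 - ∑ j ∈ setB D, (j : G → ℂ) (x : G)) = 0 := h1.symm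
      have h5 := (mul_eq_zero.mp h4).resolve_left hk0
      push_cast
      linear_combination -h5
  -- the total sum
  have hsum : ∀ x : H, ∑ j ∈ setB D, (j : G → ℂ) (x : G) =
      (if x = 1 then (((setB D).card * (p - 1) : ℕ) : ℂ) else 0) + (g₀ x : ℂ) := by
    intro x
    by_cases hx : x = 1
    · subst hx
      rw [if_pos rfl]
      have h1 : g₀ 1 = 0 := by
        simp only [g₀]
        obtain ⟨Q⟩ : Nonempty (Sylow p G) := inferInstance
        rw [if_pos ⟨Q, by simp⟩]
      rw [h1]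
      simp only [Nat.cast_zero, add_zero]
      exact D.sum_setB_one hp2 hG hn hk1 hk2 hlin
    · rw [if_neg hx, hval x hx, zero_add]
  have htot : ∑ x : H, ∑ j ∈ setB D, (j : G → ℂ) (x : G) =
      (((setB D).card * (p - 1) + ∑ x, g₀ x : ℕ) : ℂ) := by
    simp only [hsum]
    rw [Finset.sum_add_distrib, Finset.sum_ite_eq', if_pos (Finset.mem_univ _)]
    push_cast
    rfl
  rw [Finset.sum_comm] at htot
  choose a ha using fun j : IrrCharacter G => exists_sum_subgroup H j
  simp only [ha] at htot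
  rw [← Finset.mul_sum, hH] at htot
  have hnat : (p - 1) * ∑ j ∈ setB D, a j = (setB D).card * (p - 1) + ∑ x, g₀ x := by
    have h1 : (((p - 1) * ∑ j ∈ setB D, a j : ℕ) : ℂ) = (((setB D).card * (p - 1) + ∑ x, g₀ x : ℕ) : ℂ) := by
      rw [← htot]
      push_cast
      rfl
    exact_mod_cast h1
  have hdvd : (p - 1) ∣ ∑ x, g₀ x := by
    have h1 : (p - 1) ∣ (setB D).card * (p - 1) + ∑ x, g₀ x := by
      rw [← hnat]
      exact dvd_mul_right _ _
    exact (Nat.dvd_add_right (dvd_mul_left _ _)).mp h1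
  have hlt : ∑ x, g₀ x < p - 1 := by
    have h1 : ∑ x, g₀ x < ∑ _x : H, 1 := by
      apply Finset.sum_lt_sum
      · intro x _
        simp only [g₀]
        split_ifs <;> omega
      · refine ⟨1, Finset.mem_univ _, ?_⟩
        simp only [g₀]
        obtain ⟨Q⟩ : Nonempty (Sylow p G) := inferInstance
        rw [if_pos ⟨Q, by simp⟩]
        omega
    rw [Finset.sum_const, Finset.card_univ, smul_eq_mul, mul_one, ← Nat.card_eq_fintype_card, hH] at h1
    exact h1
  have hzero : ∑ x, g₀ x = 0 := Nat.eq_zero_of_dvd_of_lt hdvd hlt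
  have h0 := (Finset.sum_eq_zero_iff.mp hzero) h (Finset.mem_univ _)
  simp only [g₀] at h0
  by_contra hcon
  rw [if_neg hcon] at h0
  omega


set_option maxHeartbeats 1000000 in
/-- Elements of the normalizer outside `E` are involutions. -/
theorem inv_of_not_mem (he2 : 2 ≤ e) (hε : D.ε = -1) (hpe : ¬ p ∣ e)
    (hrank : classInner (piS G p) (piS G p) = (k : ℂ) + 1) {a : ℕ} (he' : e = 2 + a * D.t)
    (hcard : Nat.card (Subgroup.normalizer (E : Set G)) = D.t * e)
    (hH : Nat.card (Subgroup.normalizer (E : Set G)) = p - 1) {h : G}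
    (hh : h ∈ Subgroup.normalizer (E : Set G)) (hhE : h ∉ E) : h * h = 1 := by
  classical
  have hpp := hp.out.two_le
  have hh1 : h ≠ 1 := by
    rintro rfl
    exact hhE E.one_mem
  obtain ⟨Q, hQ⟩ := D.all_fix hp2 hG hn hk1 hk2 hlin hC hQ₀ hcardS S hE hall he2 hε hrank
    (Subgroup.normalizer (E : Set G)) hH ⟨h, hh⟩
  have hreg : ¬ p ∣ orderOf h := by
    intro hdvd
    have h1 : orderOf h ∣ p - 1 := by
      rw [← hH]
      have := orderOf_dvd_natCard (⟨h, hh⟩ : Subgroup.normalizer (E : Set G))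
      rwa [Subgroup.orderOf_mk] at this
    have h2 := Nat.le_of_dvd (by omega) (hdvd.trans h1)
    omega
  obtain ⟨y, u, hu, hu1, hxu⟩ := exists_conj_of_fix S hQ₀ hE hall hh1 hreg hQ
  -- `h ^ t ∈ E`
  have hle : E ≤ Subgroup.normalizer (E : Set G) := Subgroup.le_normalizer
  have hidx : (E.subgroupOf (Subgroup.normalizer (E : Set G))).index = D.t := by
    have h1 := Subgroup.card_mul_index (E.subgroupOf (Subgroup.normalizer (E : Set G)))
    have h2 : Nat.card (E.subgroupOf (Subgroup.normalizer (E : Set G))) = e := by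
      rw [← hE.card]
      exact Nat.card_congr (Subgroup.subgroupOfEquivOfLe hle).toEquiv
    rw [h2, hcard, mul_comm D.t e] at h1
    exact Nat.eq_of_mul_eq_mul_left (SC.IsC.e_pos hE) h1
  have hpow : h ^ D.t ∈ E := by
    have : (E.subgroupOf (Subgroup.normalizer (E : Set G))).Normal := Subgroup.normal_in_normalizer
    have h1 := Subgroup.pow_index_mem (E.subgroupOf (Subgroup.normalizer (E : Set G)))
      (⟨h, hh⟩ : Subgroup.normalizer (E : Set G))
    rw [hidx, Subgroup.mem_subgroupOf] at h1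
    simpa using h1
  have hconjpow : ∀ m : ℕ, h ^ m = y * u ^ m * y⁻¹ := by
    intro m
    rw [hxu, conj_pow]
  -- it is trivial
  have ht1 : h ^ D.t = 1 := by
    by_contra hne
    have h1 : y⁻¹ * h ^ D.t * y ∈ E := by
      rw [hconjpow]
      have : y⁻¹ * (y * u ^ D.t * y⁻¹) * y = u ^ D.t := by group
      rw [this]
      exact E.pow_mem hu _
    have h2 := ti_prop S hQ₀ hE hall hpe hpow hne h1 u hu
    rw [← hxu] at h2
    exact hhE h2
  have he1 : h ^ e = 1 := by
    have h1 : u ^ e = 1 := by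
      have h2 : (⟨u, hu⟩ : E) ^ Nat.card E = 1 := pow_card_eq_one'
      rw [hE.card] at h2
      have := congrArg Subtype.val h2
      simpa using this
    rw [hconjpow, h1]
    group
  have h3 : h ^ (2 + a * D.t) = h * h * (h ^ D.t) ^ a := by
    rw [pow_add, pow_two, ← pow_mul, mul_comm a]
  rw [← he', he1, ht1, one_pow, mul_one] at h3
  exact h3.symm

omit hp2 hG hn hk1 hk2 hlin hC hQ₀ hcardS S hE hall in
include hE in
/-- If the elements outside `E` of a bigger subgroup are involutions, `E` has exponent two. -/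
theorem sq_of_outside {H : Subgroup G} (hEH : E ≤ H) {t : ℕ} (ht3 : 3 ≤ t)
    (hcard : Nat.card H = t * e) (hinv : ∀ h ∈ H, h ∉ E → h * h = 1) {u : G} (hu : u ∈ E) :
    u * u = 1 := by
  classical
  have he0 : 0 < e := SC.IsC.e_pos hE
  -- an element outside `E`
  obtain ⟨x, hxH, hxE⟩ : ∃ x ∈ H, x ∉ E := by
    by_contra hcon
    push Not at hcon
    have h1 : H ≤ E := hcon
    have h2 := Subgroup.card_le_of_le h1
    rw [hcard, hE.card] at h2
    nlinarith
  obtain ⟨x', hxH', hxE', hxx'⟩ : ∃ x' ∈ H, x' ∉ E ∧ x⁻¹ * x' ∉ E := by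
    by_contra hcon
    push Not at hcon
    let f : H → Bool × E := fun y => if hy : (y : G) ∈ E then (true, ⟨y, hy⟩) else
      (false, ⟨x⁻¹ * y, hcon y y.2 hy⟩)
    have hf : Function.Injective f := by
      intro a b hab
      by_cases ha : (a : G) ∈ E <;> by_cases hb : (b : G) ∈ E
      · simp only [f, dif_pos ha, dif_pos hb, Prod.mk.injEq, true_and] at hab
        have h3 := congrArg Subtype.val hab
        exact Subtype.ext h3
      · simp [f, dif_pos ha, dif_neg hb] at hab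
      · simp [f, dif_neg ha, dif_pos hb] at hab
      · simp only [f, dif_neg ha, dif_neg hb, Prod.mk.injEq, true_and] at hab
        have h3 := congrArg Subtype.val hab
        exact Subtype.ext (mul_left_cancel h3)
    have h2 := Nat.card_le_card_of_injective f hf
    rw [Nat.card_prod, hcard, hE.card, Nat.card_eq_fintype_card (α := Bool), Fintype.card_bool] at h2
    nlinarith
  have hinvert : ∀ y ∈ H, y ∉ E → y * u * y = u⁻¹ := by
    intro y hy hyE
    have h1 : y * y = 1 := hinv y hy hyE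
    have h2 : y * u ∈ H := H.mul_mem hy (hEH hu)
    have h3 : y * u ∉ E := fun h => hyE (by
      have := E.mul_mem h (E.inv_mem hu)
      simpa using this)
    have h4 := hinv _ h2 h3
    calc y * u * y = (y * u * (y * u)) * u⁻¹ := by group
      _ = u⁻¹ := by rw [h4, one_mul]
  have h1 := hinvert x hxH hxE
  have h2 := hinvert x' hxH' hxE'
  have hw : x⁻¹ * x' ∈ H := H.mul_mem (H.inv_mem hxH) hxH'
  have h3 := hinvert _ hw hxx'
  have hx1 : x⁻¹ = x := by
    have := hinv x hxH hxE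
    exact inv_eq_of_mul_eq_one_right this
  have hx1' : x'⁻¹ = x' := by
    have := hinv x' hxH' hxE'
    exact inv_eq_of_mul_eq_one_right this
  have hw1 : (x⁻¹ * x') * (x⁻¹ * x') = 1 := hinv _ hw hxx'
  have hww : x' * x⁻¹ = x⁻¹ * x' := by
    have h5 : (x⁻¹ * x')⁻¹ = x⁻¹ * x' := inv_eq_of_mul_eq_one_right hw1
    rw [mul_inv_rev, inv_inv, hx1', ] at h5
    rw [hx1] at h5 ⊢
    exact h5
  have h4 : u⁻¹ = u := by
    rw [← h3, hx1]
    -- `x x' u x x' = x (x' u x') x ...`
    have h5 : x * x' * u * (x * x') = x * (x' * u * x') * x := by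
      have h6 : x' * x = x * x' := by
        rw [hx1] at hww
        exact hww
      calc x * x' * u * (x * x') = x * x' * u * (x' * x) := by rw [h6]
        _ = _ := by group
    rw [h5, h2]
    have h6 : x * u⁻¹ * x = (x * u * x)⁻¹ := by
      rw [mul_inv_rev, mul_inv_rev, hx1]
      group
    rw [h6, h1, inv_inv]
  calc u * u = u⁻¹ * u := by rw [h4]
    _ = 1 := by group

omit hp2 hG hn hk1 hk2 hlin hC hQ₀ hcardS hall in
/-- A complement of exponent two has order at most two. -/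
theorem card_le_two (hsq : ∀ u ∈ E, u * u = 1) : e ≤ 2 := by
  classical
  obtain ⟨z, hz, hz1⟩ := S.exists_ne_one
  have hord : orderOf z = p := by
    rw [← S.card, eq_zpowers_of_mem S.card hz hz1, Nat.card_zpowers]
  have hinvert : ∀ u ∈ E, u ≠ 1 → u * z * u⁻¹ = z⁻¹ := by
    intro u hu hu1
    obtain ⟨r, hr⟩ := S.conj_pow (hE.le hu)
    have h1 : u⁻¹ = u := inv_eq_of_mul_eq_one_right (hsq u hu)
    have h2 : z ^ (r * r) = z := by
      have h3 := hr (z ^ r) (P.zpow_mem hz r)
      have h5 : u * u = 1 := hsq u hu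
      have h4 : u * (u * z * u⁻¹) * u⁻¹ = z := by
        rw [h1]
        calc u * (u * z * u) * u = (u * u) * z * (u * u) := by group
          _ = z := by rw [h5]; group
      rw [hr z hz, h3, ← zpow_mul] at h4
      exact h4
    have h3 : (p : ℤ) ∣ (r - 1) * (r + 1) := by
      have h4 : z ^ ((r - 1) * (r + 1)) = 1 := by
        have h5 : (r - 1) * (r + 1) = r * r - 1 := by ring
        rw [h5, zpow_sub, h2, zpow_one]
        group
      rw [← hord]
      exact orderOf_dvd_iff_zpow_eq_one.mpr h4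
    have hpZ : Prime (p : ℤ) := Nat.prime_iff_prime_int.mp hp.out
    rcases hpZ.dvd_or_dvd h3 with h4 | h4
    · exfalso
      have h5 : z ^ (r - 1) = 1 := by
        rw [← hord] at h4
        exact orderOf_dvd_iff_zpow_eq_one.mp h4
      have h6 : z ^ r = z := by
        rw [zpow_sub, zpow_one] at h5
        exact mul_inv_eq_one.mp h5
      have h7 := hr z hz
      rw [h6] at h7
      have h8 : u * z = z * u := mul_inv_eq_iff_eq_mul.mp h7
      exact hu1 (hE.inf u hu (S.self z hz hz1 u h8))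
    · have h5 : z ^ (r + 1) = 1 := by
        rw [← hord] at h4
        exact orderOf_dvd_iff_zpow_eq_one.mp h4
      rw [hr z hz]
      rw [zpow_add, zpow_one] at h5
      exact eq_inv_of_mul_eq_one_left h5
  have huniq : ∀ u ∈ E, u ≠ 1 → ∀ v ∈ E, v ≠ 1 → u = v := by
    intro u hu hu1 v hv hv1
    have h1 : u⁻¹ = u := inv_eq_of_mul_eq_one_right (hsq u hu)
    have h2 := hinvert u hu hu1
    have h3 := hinvert v hv hv1
    have h4 : (u * v) * z = z * (u * v) := by
      have h5 : (u * v) * z * (u * v)⁻¹ = z := by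
        calc (u * v) * z * (u * v)⁻¹ = u * (v * z * v⁻¹) * u⁻¹ := by group
          _ = u * z⁻¹ * u⁻¹ := by rw [h3]
          _ = (u * z * u⁻¹)⁻¹ := by group
          _ = z := by rw [h2, inv_inv]
      exact mul_inv_eq_iff_eq_mul.mp h5
    have h5 := hE.inf _ (E.mul_mem hu hv) (S.self z hz hz1 _ h4)
    rw [← h1] at h5
    exact (inv_mul_eq_one.mp h5)
  by_contra hcon
  have h3 : 2 < Nat.card E := by
    rw [hE.card]
    omega
  let _ : Fintype E := Fintype.ofFinite _
  rw [Nat.card_eq_fintype_card] at h3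
  obtain ⟨a, b, c, hab, hac, hbc⟩ := Fintype.two_lt_card_iff.mp h3
  have hne : ∀ x y : E, (x : G) ≠ 1 → (y : G) ≠ 1 → x = y := fun x y hx hy =>
    Subtype.ext (huniq x x.2 hx y y.2 hy)
  by_cases ha : (a : G) = 1
  · have hb : (b : G) ≠ 1 := fun h => hab (Subtype.ext (ha.trans h.symm))
    have hc : (c : G) ≠ 1 := fun h => hac (Subtype.ext (ha.trans h.symm))
    exact hbc (hne b c hb hc)
  · by_cases hb : (b : G) = 1
    · have hc : (c : G) ≠ 1 := fun h => hbc (Subtype.ext (hb.trans h.symm))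
      exact hac (hne a c ha hc)
    · exact hab (hne a b ha hb)

omit hE hall in
set_option maxHeartbeats 1000000 in
/-- The outcome of the case `ε = -1`. -/
theorem stepC (he2 : 2 ≤ e) (hpe : ¬ p ∣ e) (hε : D.ε = -1) :
    (k = 1 ∧ D.t = 2) ∨ (e = 2 ∧ k + 1 = D.t ∧ ∃ E : Subgroup G, IsC P e E ∧
      Nat.card (Subgroup.normalizer (E : Set G)) = p - 1 ∧
      (∀ h ∈ Subgroup.normalizer (E : Set G), h * h = 1) ∧
      (∀ h ∈ Subgroup.normalizer (E : Set G), h ≠ 1 → ∃ y u : G, u ∈ E ∧ u ≠ 1 ∧ h = y * u * y⁻¹)) := by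
  classical
  have hpp := hp.out.two_le
  obtain ⟨m, hm1, hmone, hmA, hmB, hmν, hmC, hrank⟩ :=
    D.perm_mult hp2 hG hn hk1 hk2 hlin hC hQ₀ hcardS hε
  have hcardS' : Nat.card (Sylow p G) = 1 + k * p := by rw [hcardS, hn]
  have hall : ∀ Q : Sylow p G, Q ≠ Q₀ → IsC P e (KK P Q) :=
    fun Q hQ => isC_KK S hQ₀ hrank hcardS' hQ
  obtain ⟨Q₁, hQ₁⟩ : ∃ Q : Sylow p G, Q ≠ Q₀ := by
    have h1 : 1 < Nat.card (Sylow p G) := by
      rw [hcardS']
      have : 0 < k * p := by positivity
      omega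
    have := Finite.one_lt_card_iff_nontrivial.mp h1
    exact exists_ne Q₀
  have hE := hall Q₁ hQ₁
  set E := KK P Q₁ with hEdef
  have hcn := card_normalizer S hQ₀ hE hall he2 hpe hrank hcardS'
  obtain ⟨i₀⟩ : Nonempty (Fin D.t) := ⟨⟨0, D.t_pos⟩⟩
  obtain ⟨c, hc1, hc2, -⟩ := deg_νm D hp2 hG hn hk1 hk2 hlin hε i₀
  have hrelm := rel_m D hp2 hG hn hk1 hk2 hlin hε hc1 hc2
  have he0 : 0 < e := SC.IsC.e_pos hE
  have hdvd : (k + 1) ∣ p * n := by
    have h1 : e * (k + 1) ∣ p * (e * n) := by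
      rw [← hcn, ← hG]
      exact Subgroup.card_subgroup_dvd_card _
    have h2 : p * (e * n) = e * (p * n) := by ring
    rw [h2] at h1
    exact Nat.dvd_of_mul_dvd_mul_left he0 h1
  have hc : c = 1 := arith_c hp.out D.hte D.t_pos hn hc2 hrelm hdvd
  subst hc
  rw [one_mul] at hc2 hrelm
  rw [one_mul] at hc1
  have he' : e = 2 + (setA D).card * D.t := by omega
  have hcard : Nat.card (Subgroup.normalizer (E : Set G)) = D.t * e := by
    rw [hcn, ← hc2, mul_comm]
  have hH : Nat.card (Subgroup.normalizer (E : Set G)) = p - 1 := by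
    rw [hcard, D.hte]
  have hinv : ∀ h ∈ Subgroup.normalizer (E : Set G), h ∉ E → h * h = 1 := fun h hh hhE =>
    D.inv_of_not_mem hp2 hG hn hk1 hk2 hlin hC hQ₀ hcardS S hE hall he2 hε hpe hrank he' hcard hH hh hhE
  by_cases ht : D.t ≤ 2
  · left
    exact ⟨by omega, by omega⟩
  · right
    have hle : E ≤ Subgroup.normalizer (E : Set G) := Subgroup.le_normalizer
    have hsq : ∀ u ∈ E, u * u = 1 := fun u hu =>
      sq_of_outside hE hle (by omega : 3 ≤ D.t) hcard hinv hu
    have he2' : e = 2 := by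
      have := card_le_two S hE hsq
      omega
    refine ⟨he2', hc2.symm, E, hE, hH, ?_, ?_⟩
    · intro h hh
      by_cases hhE : h ∈ E
      · exact hsq h hhE
      · exact hinv h hh hhE
    · intro h hh hh1
      obtain ⟨Q, hQ⟩ := D.all_fix hp2 hG hn hk1 hk2 hlin hC hQ₀ hcardS S hE hall he2 hε hrank
        (Subgroup.normalizer (E : Set G)) hH ⟨h, hh⟩
      have hreg : ¬ p ∣ orderOf h := by
        intro hdvd
        have h1 : orderOf h ∣ p - 1 := by
          rw [← hH]
          have := orderOf_dvd_natCard (⟨h, hh⟩ : Subgroup.normalizer (E : Set G))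
          rwa [Subgroup.orderOf_mk] at this
        have h2 := Nat.le_of_dvd (by omega) (hdvd.trans h1)
        omega
      exact exists_conj_of_fix S hQ₀ hE hall hh1 hreg hQ

end BD

end Cfsg.Agent.Lib.BrauerP.Data
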