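import Cfsg.Agent.Lib.BrauerP.Data

/-!
# Values and multiplicities from the data of the principal block
-/

set_option autoImplicit false
set_option linter.unusedSectionVars false

namespace Cfsg.Agent.Lib.BrauerP.Data

open Cfsg Module
open Cfsg.Agent.Lib.Char.Basic Cfsg.Agent.Lib.Char.Ortho Cfsg.Agent.Lib.Char.Complete
open Cfsg.Agent.Lib.Char.Degree Cfsg.Agent.Lib.Char.Induced
open Cfsg.Agent.Lib.ExcP.Gram Cfsg.Agent.Lib.ExcP.Dual Cfsg.Agent.Lib.ExcP.Core
open Cfsg.Agent.Lib.ExcP.Inst Cfsg.Agent.Lib.ExcP.BlockHA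
open Cfsg.Agent.Lib.Small.ExcPerm
open Cfsg.Agent.Lib.BrauerP.Fourier Cfsg.Agent.Lib.BrauerP.Data
open scoped ComplexConjugate Classical

universe u

variable {G : Type u} [Group G] [Fintype G] [Fintype (IrrCharacter G)] {p e : ℕ} [hp : Fact p.Prime]
  {P : Subgroup G} {hP : Nat.card P = p} [Fintype P] [Fintype (DD P p)]

namespace BD

variable (D : BD P p e hP)

theorem not_range_of_z {j : IrrCharacter G} (hj : D.z j ≠ 0) : j ∉ Set.range D.ν := by
  rintro ⟨i, rfl⟩
  exact hj (D.hνz i)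

theorem inner_z {j : IrrCharacter G} (hj : D.z j ≠ 0) (d : DD P p) :
    classInner (Th P d.1) (j : G → ℂ) = (D.z j : ℂ) := by
  rw [D.hinner, if_neg (fun h => D.not_range_of_z hj ⟨_, h⟩)]
  simp

theorem inner_ν (i : Fin D.t) (d : DD P p) :
    classInner (Th P d.1) (D.ν i : G → ℂ) = ((D.ε * (if D.c d = i then 1 else 0) : ℤ) : ℂ) := by
  rw [D.hinner, D.hνz, zero_add]
  congr 2
  by_cases h : D.c d = i
  · rw [if_pos h, if_pos (congrArg D.ν h)]
  · rw [if_neg h, if_neg (fun h' => h (D.hνinj h'))]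

theorem inner_other {j : IrrCharacter G} (hj : D.z j = 0) (hr : j ∉ Set.range D.ν) (d : DD P p) :
    classInner (Th P d.1) (j : G → ℂ) = 0 := by
  rw [D.hinner, hj, if_neg (fun h => hr ⟨_, h⟩)]
  simp

theorem ε_ne : D.ε ≠ 0 := by rcases D.hε with h | h <;> rw [h] <;> norm_num

theorem ε_sq : D.ε * D.ε = 1 := by rcases D.hε with h | h <;> rw [h] <;> norm_num

theorem t_pos : 0 < D.t := by
  have h1 : 1 < p := hp.out.one_lt
  have h2 := D.hte
  rcases Nat.eq_zero_or_pos D.t with h | h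
  · rw [h, zero_mul] at h2
    omega
  · exact h

include D in
theorem e_pos : 0 < e := by
  have h1 : 1 < p := hp.out.one_lt
  have h2 := D.hte
  by_contra h0
  have h : e = 0 := by omega
  have h3 : p - 1 ≠ 0 := by omega
  exact h3 (by rw [← h2]; exact mul_eq_zero_of_right _ h)

variable (hp2 : ¬ p ^ 2 ∣ Nat.card G)

include hp2

/-- The value of a member of the block with `z ≠ 0`. -/
theorem val_z {j : IrrCharacter G} (hj : D.z j ≠ 0) {u : P} (hu : u ≠ 1) :
    (j : G → ℂ) u = -(D.z j : ℂ) := by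
  rw [fourier hP hp2 (j : G → ℂ) hu]
  have hne : ∀ d : DD P p, classInner (Th P d.1) (j : G → ℂ) ≠ 0 := by
    intro d
    rw [D.inner_z hj d]
    exact_mod_cast hj
  have h1 : ∀ d : DD P p, conj (Ak hP d.1 (j : G → ℂ)) * dv hP d u = (D.z j : ℂ) * dv hP d u := by
    intro d
    have h2 := D.inner_z hj d
    rw [D.hAk j ⟨d, hne d⟩ d] at h2
    rw [h2, map_intCast]
  simp only [h1]
  rw [← Finset.mul_sum, sum_dv hP hp2 hu]
  ring

/-- The value of an exceptional character. -/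
theorem val_ν (i : Fin D.t) {u : P} (hu : u ≠ 1) :
    (D.ν i : G → ℂ) u = (D.ε : ℂ) * ∑ d ∈ Finset.univ.filter (fun d => D.c d = i), dv hP d u := by
  rw [fourier hP hp2 (D.ν i : G → ℂ) hu, Finset.sum_filter, Finset.mul_sum]
  refine Finset.sum_congr rfl fun d _ => ?_
  have hne : ∃ d : DD P p, classInner (Th P d.1) (D.ν i : G → ℂ) ≠ 0 := by
    obtain ⟨d', hd'⟩ := D.hcsurj i
    refine ⟨d', ?_⟩
    rw [D.inner_ν i d', if_pos hd', mul_one]
    exact_mod_cast D.ε_ne
  have h2 := D.inner_ν i d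
  rw [D.hAk _ hne d] at h2
  rw [h2, map_intCast]
  by_cases h3 : D.c d = i
  · rw [if_pos h3, if_pos h3]
    simp
  · rw [if_neg h3, if_neg h3]
    simp

/-- The value of the other characters, when `P` is its own centralizer. -/
theorem val_other (hC : Cn P = P) {j : IrrCharacter G} (hj : D.z j = 0) (hr : j ∉ Set.range D.ν)
    {u : P} (hu : u ≠ 1) : (j : G → ℂ) u = 0 := by
  rw [fourier hP hp2 (j : G → ℂ) hu]
  apply Finset.sum_eq_zero
  intro d _
  rw [← classInner_Th_of_self hP hC d.1 j, D.inner_other hj hr d]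
  simp

omit hp2 in
/-- `Θ` vanishes on `p`-regular elements. -/
theorem Th_regular {κ : Cn P →* ℂˣ} (hκ : ∀ x, κ x ^ p = 1) {g : G} (hg : ¬ p ∣ orderOf g) :
    Th P κ g = 0 := by
  classical
  let _ : Fintype (Cn P) := Fintype.ofFinite _
  rw [Th, indFun_apply]
  apply mul_eq_zero_of_right
  apply Finset.sum_eq_zero
  intro x _
  by_cases hx : x⁻¹ * g * x ∈ Cn P
  · rw [extendByZero_of_mem _ _ hx]
    have h1 : ¬ p ∣ orderOf (x⁻¹ * g * x) := by
      have h2 : x⁻¹ * g * x = MulAut.conj x⁻¹ g := by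
        simp
      rw [h2, MulEquiv.orderOf_eq]
      exact hg
    rw [fl, apply_eq_one_of_not_dvd hκ ⟨_, hx⟩ h1]
    simp
  · exact extendByZero_of_not_mem _ _ hx

omit hp2 in
/-- The relation on `p`-regular elements. -/
theorem reg_rel (i : Fin D.t) {g : G} (hg : ¬ p ∣ orderOf g) :
    (∑ j, (D.z j : ℂ) * (j : G → ℂ) g) + (D.ε : ℂ) * (D.ν i : G → ℂ) g = 0 := by
  classical
  let _ : Fintype (Cn P) := Fintype.ofFinite _
  obtain ⟨d, hd⟩ := D.hcsurj i
  have h1 : IsClassFunction G (Th P d.1) := isClassFunction_indFun _ _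
  have h2 := congrFun (classFunction_eq_sum h1) g
  rw [Th_regular d.2.1 hg] at h2
  simp only [Finset.sum_apply, Pi.smul_apply, smul_eq_mul, D.hinner] at h2
  rw [h2]
  have h3 : ∀ j : IrrCharacter G, ((D.z j + D.ε * (if D.ν (D.c d) = j then 1 else 0) : ℤ) : ℂ) * (j : G → ℂ) g =
      (D.z j : ℂ) * (j : G → ℂ) g + (D.ε : ℂ) * (if D.ν (D.c d) = j then (j : G → ℂ) g else 0) := by
    intro j
    by_cases h : D.ν (D.c d) = j
    · simp only [h, if_true]
      push_cast
      ring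
    · simp only [h, if_false]
      push_cast
      ring
  simp only [h3]
  rw [Finset.sum_add_distrib, ← Finset.mul_sum, Finset.sum_ite_eq, if_pos (Finset.mem_univ _), hd]

omit hp2 in
/-- The degree relation. -/
theorem deg_rel : (∑ j, D.z j * (charDegree (j : G → ℂ) : ℤ)) + D.ε * (D.D₀ : ℤ) = 0 := by
  obtain ⟨i⟩ : Nonempty (Fin D.t) := ⟨⟨0, D.t_pos⟩⟩
  have h1 := D.reg_rel i (g := 1) (by
    rw [orderOf_one]
    exact hp.out.one_lt.ne' ∘ Nat.dvd_one.mp)
  have h2 : ∀ j : IrrCharacter G, (D.z j : ℂ) * (j : G → ℂ) 1 =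
      ((D.z j * (charDegree (j : G → ℂ) : ℤ) : ℤ) : ℂ) := by
    intro j
    rw [← charDegree_natCast (isCharacter_of_isIrrCharacter j.2)]
    push_cast
    rfl
  simp only [h2] at h1
  rw [← charDegree_natCast (isCharacter_of_isIrrCharacter (D.ν i).2), D.hνdeg] at h1
  have h3 : (((∑ j, D.z j * (charDegree (j : G → ℂ) : ℤ)) + D.ε * (D.D₀ : ℤ) : ℤ) : ℂ) = 0 := by
    push_cast at h1 ⊢
    exact h1
  exact_mod_cast h3

/-- The multiplicity of the trivial character of `P` in `j`. -/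
noncomputable def aP (hp2 : ¬ p ^ 2 ∣ Nat.card G) (j : IrrCharacter G) : ℕ :=
  Classical.choose (sum_Ak_nat hP hp2 j)

omit D in
theorem aP_spec (j : IrrCharacter G) : (p : ℂ)⁻¹ * ∑ u : P, conj ((j : G → ℂ) u) = aP (hP := hP) hp2 j ∧
    ∑ d : DD P p, Ak hP d.1 (j : G → ℂ) = (charDegree (j : G → ℂ) : ℂ) - (p : ℂ) * (aP (hP := hP) hp2 j : ℂ) :=
  Classical.choose_spec (sum_Ak_nat hP hp2 j)

/-- Degrees of the members with `z ≠ 0`. -/
theorem deg_z {j : IrrCharacter G} (hj : D.z j ≠ 0) :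
    (charDegree (j : G → ℂ) : ℤ) = ((p : ℤ) - 1) * D.z j + p * aP (hP := hP) hp2 j := by
  have h1 := (aP_spec (hP := hP) hp2 j).2
  have hne : ∀ d : DD P p, classInner (Th P d.1) (j : G → ℂ) ≠ 0 := by
    intro d
    rw [D.inner_z hj d]
    exact_mod_cast hj
  have h2 : ∑ d : DD P p, Ak hP d.1 (j : G → ℂ) = ((p : ℂ) - 1) * (D.z j : ℂ) := by
    have h3 : ∀ d : DD P p, Ak hP d.1 (j : G → ℂ) = (D.z j : ℂ) := by
      intro d
      rw [← D.hAk j ⟨d, hne d⟩ d, D.inner_z hj d]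
    simp only [h3]
    rw [Finset.sum_const, Finset.card_univ, ← Nat.card_eq_fintype_card, card_DD hP hp2, nsmul_eq_mul,
      Nat.cast_sub hp.out.one_lt.le]
    simp
  rw [h2] at h1
  have h3 : (((charDegree (j : G → ℂ) : ℤ) : ℂ)) =
      ((((p : ℤ) - 1) * D.z j + p * aP (hP := hP) hp2 j : ℤ) : ℂ) := by
    push_cast
    linear_combination -h1
  exact_mod_cast h3

/-- Degrees of the exceptional members. -/
theorem deg_ν (i : Fin D.t) :
    (D.D₀ : ℤ) = D.ε * e + p * aP (hP := hP) hp2 (D.ν i) := by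
  have h1 := (aP_spec (hP := hP) hp2 (D.ν i)).2
  rw [D.hνdeg] at h1
  have hne : ∃ d : DD P p, classInner (Th P d.1) (D.ν i : G → ℂ) ≠ 0 := by
    obtain ⟨d', hd'⟩ := D.hcsurj i
    refine ⟨d', ?_⟩
    rw [D.inner_ν i d', if_pos hd', mul_one]
    exact_mod_cast D.ε_ne
  have h2 : ∑ d : DD P p, Ak hP d.1 (D.ν i : G → ℂ) = (D.ε : ℂ) * (e : ℂ) := by
    have h3 : ∀ d : DD P p, Ak hP d.1 (D.ν i : G → ℂ) = (D.ε : ℂ) * (if D.c d = i then 1 else 0) := by
      intro d
      rw [← D.hAk _ hne d, D.inner_ν i d]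
      push_cast
      rfl
    simp only [h3]
    rw [← Finset.mul_sum, Finset.sum_boole, D.hfib]
  rw [h2] at h1
  have h3 : (((D.D₀ : ℤ) : ℂ)) = ((D.ε * e + p * aP (hP := hP) hp2 (D.ν i) : ℤ) : ℂ) := by
    push_cast
    linear_combination -h1
  exact_mod_cast h3

/-- Degrees of the remaining members, when `P` is its own centralizer. -/
theorem deg_other (hC : Cn P = P) {j : IrrCharacter G} (hj : D.z j = 0) (hr : j ∉ Set.range D.ν) :
    charDegree (j : G → ℂ) = p * aP (hP := hP) hp2 j := by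
  have h1 := (aP_spec (hP := hP) hp2 j).2
  have h2 : ∑ d : DD P p, Ak hP d.1 (j : G → ℂ) = 0 := by
    apply Finset.sum_eq_zero
    intro d _
    rw [← classInner_Th_of_self hP hC d.1 j, D.inner_other hj hr d]
  rw [h2] at h1
  have h3 : ((charDegree (j : G → ℂ) : ℕ) : ℂ) = ((p * aP (hP := hP) hp2 j : ℕ) : ℂ) := by
    push_cast
    linear_combination -h1
  exact_mod_cast h3

end BD

end Cfsg.Agent.Lib.BrauerP.Data
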